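import Cfsg.Agent.TAB.Eng.Fin
import Cfsg.Agent.H853.ThC.Local_m3
import Cfsg.Agent.H134.Sq.Base_m3
import Cfsg.Agent.S0157
import Cfsg.Agent.DZ3.Spor.Tr_m3
import Cfsg.Agent.TAB.F22.FxA_m3
import Cfsg.Agent.S0387
import Cfsg.Prelude.Def_Spor_Mathieu
import Cfsg.Agent.H729.TransFast
import Cfsg.Agent.S0382
import Cfsg.Agent.H334.Ore.M22
import Cfsg.Agent.H334.Ore.M23
import Cfsg.Agent.S0135
import Cfsg.Agent.TAB.Sm1.Fin_m3
import Cfsg.Agent.Prune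
set_option linter.all false

section
prune_inst 0x7ffffffffbedbfffffff7e3ffff9fffe33c1cfffefdffb4bffedebbfffffb3ef3be5fbaf9de4d0ffded666be38387853fbffffffea6ffc7ffffdfff41ffbee4ff7ffb50971f59e741fbe2fff93f17faa7f3fffffffffffffffffffffffffffffffffffffffff

-- part: TAB/Sm2/Mat
section
prune_inst 0x41040000000004000060001cc3e3000002004b00010144000004c00c0100000620b0b002128980002c407ac0400000015900100000200086004119008004834060a218bc04150006c0e804400000000000000000000000000000000000000000000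
set_option linter.all false
open scoped Cfsg.Agent.FastGrp

/-!
# Types of the elements of subgroups of `M24` (helper3, TAB)

* `Inv φ L` : an invariant list of subsets of the 24 points; `fxL L` : the permutation character;
* `key` : the pair of two such characters; `tyB` : the check of the type of a packed permutation;
* `Reps` : representatives with bounds of the centralizers; `exists_T` : the type function, the masses, the seeds.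
-/

set_option autoImplicit false

namespace Cfsg.Agent.TAB.Sm2

open Cfsg Cfsg.Agent.TAB.Eng
open Cfsg.Agent.SporadicA.GolayBase Cfsg.Agent.SporadicA.GolayPerm
open Cfsg.Agent.SporadicStructure.M24El Cfsg.Agent.H729.Trans Cfsg.Agent.H729.MData Cfsg.Agent.H729.Count
open Cfsg.Agent.H334.Ore.Mat (fx fc fx_pow)
open scoped Pointwise

universe u

/-- the product of two keys -/
def keyProd {G : Type u} [Group G] {α β : Type} (K : Key G α) (K' : Key G β) : Key G (α × β) where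
  P g a := K.P g a.1 ∧ K'.P g a.2
  func g _ _ ha hb := Prod.ext (K.func g _ _ ha.1 hb.1) (K'.func g _ _ ha.2 hb.2)
  conj g h _ ha := ⟨K.conj g h _ ha.1, K'.conj g h _ ha.2⟩
  gal g k _ hk ha := ⟨K.gal g k _ hk ha.1, K'.gal g k _ hk ha.2⟩

/-- the number of the fixed subsets -/
noncomputable def fxL (L : List ℕ) (g : M24) : ℕ := Nat.card {s : Finset GolayPt // maskOf s ∈ L ∧ g • s = s}

/-- the same for a packed permutation -/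
noncomputable def cntF (c : ℕ) (L : List ℕ) : ℕ :=
  List.rec 0 (fun m _ ih => cond (Nat.beq (pimg c m) m) (Nat.succ ih) ih) L

theorem cntF_eq (c : ℕ) (L : List ℕ) : cntF c L = (L.filter fun m => Nat.beq (pimg c m) m).length := by
  induction L with
  | nil => rfl
  | cons m L ih =>
    show cond (Nat.beq (pimg c m) m) (Nat.succ (cntF c L)) (cntF c L) = _
    rw [List.filter_cons, ih]
    cases Nat.beq (pimg c m) m <;> rfl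

theorem fxL_el {L : List ℕ} (h1 : L.Nodup) (h2 : ∀ m ∈ L, m < 2 ^ 24) {c : ℕ} (hc : ok c = true) :
    fxL L (el c) = cntF c L := by
  rw [cntF_eq, ← List.toFinset_card_of_nodup (h1.filter _), ← Fintype.card_coe, ← Nat.card_eq_fintype_card]
  have hp : ∀ m, pimg c m < 2 ^ 24 := pimg_lt (ok_iff.1 hc).1
  refine Nat.card_congr ⟨fun s => ⟨maskOf s.1, ?_⟩, fun m => ⟨fin m.1, ?_⟩, fun s => Subtype.ext (fin_maskOf _),
    fun m => Subtype.ext (maskOf_fin (h2 _ (List.mem_filter.1 (List.mem_toFinset.1 m.2)).1))⟩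
  · rw [List.mem_toFinset, List.mem_filter]
    refine ⟨s.2.1, ?_⟩
    have h3 := s.2.2
    rw [← fin_maskOf s.1, el_smul_fin hc] at h3
    rw [fin_injective (hp _) (maskOf_lt _) h3]
    exact Nat.beq_refl _
  · have h3 := List.mem_filter.1 (List.mem_toFinset.1 m.2)
    rw [maskOf_fin (h2 _ h3.1), el_smul_fin hc, Nat.eq_of_beq_eq_true h3.2]
    exact ⟨h3.1, rfl⟩

theorem fxL_one {L : List ℕ} (h1 : L.Nodup) (h2 : ∀ m ∈ L, m < 2 ^ 24) : fxL L 1 = L.length := by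
  rw [← List.toFinset_card_of_nodup h1, ← Fintype.card_coe, ← Nat.card_eq_fintype_card]
  refine Nat.card_congr ⟨fun s => ⟨maskOf s.1, List.mem_toFinset.2 s.2.1⟩, fun m => ⟨fin m.1, ?_, one_smul _ _⟩,
    fun s => Subtype.ext (fin_maskOf _), fun m => Subtype.ext (maskOf_fin (h2 _ (List.mem_toFinset.1 m.2)))⟩
  rw [maskOf_fin (h2 _ (List.mem_toFinset.1 m.2))]
  exact List.mem_toFinset.1 m.2

variable {G : Type u} [Group G]

/-- an invariant list of subsets -/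
structure Inv (φ : G →* M24) (L : List ℕ) : Prop where
  nd : L.Nodup
  lt : ∀ m ∈ L, m < 2 ^ 24
  mem : ∀ (g : G) (s : Finset GolayPt), maskOf s ∈ L → maskOf (φ g • s) ∈ L

variable {φ : G →* M24}

/-- the action on the list -/
@[reducible] noncomputable def Inv.act {L : List ℕ} (h : Inv φ L) : MulAction G {s : Finset GolayPt // maskOf s ∈ L} where
  smul g s := ⟨φ g • s.1, h.mem g s.1 s.2⟩
  one_smul s := Subtype.ext (show φ 1 • s.1 = s.1 by rw [map_one, one_smul])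
  mul_smul a b s := Subtype.ext (show φ (a * b) • s.1 = φ a • φ b • s.1 by rw [map_mul, mul_smul])

theorem Inv.isChar {L : List ℕ} (h : Inv φ L) : IsCharacter G fun g => (((fxL L (φ g) : ℕ) : ℚ) : ℂ) := by
  let _ := h.act
  have h1 := S0157.isCharacter_fixedBy (G := G) {s : Finset GolayPt // maskOf s ∈ L}
  convert h1 using 2 with g
  rw [Rat.cast_natCast]
  congr 1
  exact Nat.card_congr ⟨fun s => ⟨⟨s.1, s.2.1⟩, Subtype.ext s.2.2⟩, fun s => ⟨s.1.1, s.1.2, congrArg Subtype.val s.2⟩,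
    fun _ => rfl, fun _ => rfl⟩

theorem inv_nil : Inv φ [] := ⟨List.nodup_nil, fun _ h => absurd h List.not_mem_nil, fun _ _ h => absurd h List.not_mem_nil⟩

/-- the points of the set `S` -/
def ptL (S : ℕ) : List ℕ := ((List.range 24).filter fun i => S.testBit i).map fun i => 2 ^ i

theorem mem_ptL {S : ℕ} {s : Finset GolayPt} : maskOf s ∈ ptL S ↔ ∃ p ∈ fin S, s = {p} := by
  have key : ∀ p : GolayPt, maskOf {p} = 2 ^ idx p := fun p =>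
    eq_of_testBit_idx (maskOf_lt _) (Nat.pow_lt_pow_right (by norm_num) (idx_lt p)) fun q => by
      rw [testBit_maskOf, Nat.testBit_two_pow]
      by_cases h : q = p
      · simp [h]
      · rw [decide_eq_false (by simpa using h), decide_eq_false fun h' => h (idx_injective h').symm]
  rw [ptL, List.mem_map]
  constructor
  · rintro ⟨i, hi, h⟩
    rw [List.mem_filter, List.mem_range] at hi
    refine ⟨pt i, by rw [mem_fin, idx_pt hi.1]; exact hi.2, maskOf_injective ?_⟩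
    rw [key, idx_pt hi.1, h]
  · rintro ⟨p, hp, rfl⟩
    exact ⟨idx p, List.mem_filter.2 ⟨List.mem_range.2 (idx_lt p), mem_fin.1 hp⟩, (key p).symm⟩

theorem inv_ptL {S : ℕ} (h : ∀ g : G, φ g • fin S = fin S) : Inv φ (ptL S) := by
  refine ⟨(List.nodup_range.filter _).map (Nat.pow_right_injective le_rfl), fun m hm => ?_, fun g s hs => ?_⟩
  · obtain ⟨i, hi, rfl⟩ := List.mem_map.1 hm
    exact Nat.pow_lt_pow_right (by norm_num) (List.mem_range.1 (List.mem_filter.1 hi).1)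
  · obtain ⟨p, hp, rfl⟩ := mem_ptL.1 hs
    refine mem_ptL.2 ⟨φ g • p, ?_, Finset.smul_finset_singleton _⟩
    rw [← h g]
    exact Finset.smul_mem_smul_finset hp

/-- the code words of weight `w` which meet `S` in `k` points -/
def cwL (w S k : ℕ) : List ℕ :=
  ((List.range 4096).map enc).filter fun m => Nat.beq (popcount m) w && Nat.beq (popcount (m &&& S)) k

theorem mem_cwL {w S k m : ℕ} : m ∈ cwL w S k ↔ isCode m = true ∧ popcount m = w ∧ popcount (m &&& S) = k := by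
  rw [cwL, List.mem_filter, isCode_iff_exists, List.mem_map, Bool.and_eq_true, Nat.beq_eq, Nat.beq_eq]
  refine and_congr_left fun _ => ⟨?_, ?_⟩
  · rintro ⟨i, hi, rfl⟩
    exact ⟨i, List.mem_range.1 hi, rfl⟩
  · rintro ⟨i, hi, rfl⟩
    exact ⟨i, List.mem_range.2 hi, rfl⟩

theorem inv_cwL {w S k : ℕ} (h : ∀ g : G, φ g • fin S = fin S) : Inv φ (cwL w S k) := by
  refine ⟨(List.nodup_range.map_on fun i hi j hj => enc_injOn (List.mem_range.1 hi) (List.mem_range.1 hj)).filter _,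
    fun m hm => isCode_lt (mem_cwL.1 hm).1, fun g s hs => ?_⟩
  obtain ⟨h1, h2, h3⟩ := mem_cwL.1 hs
  refine mem_cwL.2 ⟨?_, ?_, ?_⟩
  · rw [← mem_supports_iff] at h1 ⊢
    exact (smul_mem_supports (φ g).2).2 h1
  · rw [← card_eq_popcount] at h2 ⊢
    rw [Finset.card_smul_finset, h2]
  · rw [← card_fin, fin_and, fin_maskOf] at h3 ⊢
    rw [← h g, ← Finset.smul_finset_inter, Finset.card_smul_finset, h3]

variable [Finite G]

/-- the key -/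
noncomputable def key {L₁ L₂ : List ℕ} (h₁ : Inv φ L₁) (h₂ : Inv φ L₂) : Key G (ℤ × ℤ) :=
  keyProd (Key.ofChar h₁.isChar _ fun _ => rfl) (Key.ofChar h₂.isChar _ fun _ => rfl)

/-- the check of the type of a packed permutation -/
noncomputable def tyB (L₁ L₂ : List ℕ) (D : Dat) (val : ℕ → ℤ × ℤ) (c t : ℕ) : Bool :=
  ok c && Nat.ble 1 (D.ord t) && Nat.beq (ppow c (D.ord t)) idP &&
    allL (fun k => !(Nat.beq (fc c k) 24)) (List.range' 1 (D.ord t - 1)) &&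
    allL (fun p => frc (ppow c p.1) fun q =>
      decide (Int.ofNat (cntF q L₁) = (val p.2).1) && decide (Int.ofNat (cntF q L₂) = (val p.2).2)) (D.pw t)

theorem fx_one : fx 1 = 24 := by
  have h := fx_pow ok_idP 0
  rw [pow_zero] at h
  rw [h]
  decide +kernel

theorem ty_of_chk (hφ : Function.Injective φ) {L₁ L₂ : List ℕ} (h₁ : Inv φ L₁) (h₂ : Inv φ L₂) {D : Dat}
    {val : ℕ → ℤ × ℤ} {c t : ℕ} (h : tyB L₁ L₂ D val c t = true) {x : G} (hx : φ x = el c) :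
    Ty (key h₁ h₂) D val t x := by
  simp only [tyB, Bool.and_eq_true] at h
  obtain ⟨⟨⟨⟨hc, h1⟩, h2⟩, h3⟩, h4⟩ := h
  have h5 : 0 < D.ord t := Nat.le_of_ble_eq_true h1
  refine ⟨(orderOf_eq_iff h5).2 ⟨hφ ?_, fun m hm hm0 h6 => ?_⟩, fun p hp => ?_⟩
  · rw [map_pow, hx, ← el_ppow hc, Nat.eq_of_beq_eq_true h2, el_idP, map_one]
  · have h7 := allL_spec h3 m (List.mem_range'_1.2 ⟨hm0, by omega⟩)
    rw [← fx_pow hc, ← hx, ← map_pow, h6, map_one, fx_one] at h7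
    cases h7
  · have h7 := allL_spec h4 p hp
    rw [frc_eq, Bool.and_eq_true, decide_eq_true_eq, decide_eq_true_eq] at h7
    have h8 : φ (x ^ p.1) = el (ppow c p.1) := by rw [map_pow, hx, el_ppow hc]
    constructor
    · show ((fxL L₁ (φ (x ^ p.1)) : ℕ) : ℚ) = ((val p.2).1 : ℚ)
      rw [h8, fxL_el h₁.nd h₁.lt (ok_ppow hc _), ← h7.1]
      rfl
    · show ((fxL L₂ (φ (x ^ p.1)) : ℕ) : ℚ) = ((val p.2).2 : ℚ)
      rw [h8, fxL_el h₂.nd h₂.lt (ok_ppow hc _), ← h7.2]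
      rfl

/-- representatives `c i` with centralizers of order at most `n i`, not conjugate to each other in the pairs `P` -/
def Reps (φ : G →* M24) (k : ℕ) (c n : ℕ → ℕ) (P : List (ℕ × ℕ)) : Prop :=
  ∃ x : ℕ → G, (∀ i < k, φ (x i) = el (c i) ∧ Nat.card (Subgroup.centralizer ({x i} : Set G)) ≤ n i) ∧
    ∀ p ∈ P, ¬ IsConj (x p.1) (x p.2)

/-- the check of the boxes: `bx t` is the pair of the representatives of the type `t` -/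
def boxB (D : Dat) (k : ℕ) (n tp : ℕ → ℕ) (P : List (ℕ × ℕ)) (bx : ℕ → ℕ × ℕ) : Bool :=
  D.ord 0 == 1 && D.pw 0 == [] && D.cnt 0 == 1 &&
  (List.range' 1 (D.n - 1)).all fun t => decide ((bx t).1 < k) && tp (bx t).1 == t && decide ((1, t) ∈ D.pw t) &&
    (decide (D.cnt t * n (bx t).1 ≤ D.N) || (decide ((bx t).2 < k) && tp (bx t).2 == t && decide (bx t ∈ P) &&
      decide (D.cnt t ≤ D.N / n (bx t).1 + D.N / n (bx t).2)))

/-- **the type function, the masses and the two seeds** -/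
theorem exists_T (hφ : Function.Injective φ) {L₁ L₂ : List ℕ} (h₁ : Inv φ L₁) (h₂ : Inv φ L₂) {D : Dat}
    {v₁ v₂ : List ℤ} (hN : Nat.card G = D.N) (hD₁ : D.okPow = true)
    (hD₂ : D.okSep (fun t => (nth v₁ t, nth v₂ t)) = true) (hD₃ : D.okSum = true)
    {k : ℕ} {c n tp : ℕ → ℕ} {P : List (ℕ × ℕ)} {bx : ℕ → ℕ × ℕ} (hR : Reps φ k c n P)
    (hT : ∀ i < k, tyB L₁ L₂ D (fun t => (nth v₁ t, nth v₂ t)) (c i) (tp i) = true)
    (hB : boxB D k n tp P bx = true) (hv₁ : nth v₁ 0 = L₁.length) (hv₂ : nth v₂ 0 = L₂.length) :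
    ∃ T : TD G D, T.Mass ∧ Virt T (nth v₁) ∧ Virt T (nth v₂) ∧ T.ty 1 = 0 ∧
      ∀ i < k, tp i < D.n → ∃ x : G, φ x = el (c i) ∧ T.ty x = tp i ∧
        Nat.card (Subgroup.centralizer ({x} : Set G)) ≤ n i := by
  obtain ⟨x, hx, hP⟩ := hR
  simp only [boxB, Bool.and_eq_true, beq_iff_eq, List.all_eq_true, decide_eq_true_eq, Bool.or_eq_true] at hB
  obtain ⟨⟨⟨h1, h2⟩, h3⟩, h4⟩ := hB
  have hty : ∀ i < k, Ty (key h₁ h₂) D (fun t => (nth v₁ t, nth v₂ t)) (tp i) (x i) := fun i hi =>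
    ty_of_chk hφ h₁ h₂ (hT i hi) (hx i hi).1
  have h0 : Ty (key h₁ h₂) D (fun t => (nth v₁ t, nth v₂ t)) 0 1 :=
    ⟨by rw [orderOf_one, h1], by rw [h2]; exact fun p hp => absurd hp List.not_mem_nil⟩
  obtain ⟨T, hm, hT⟩ := exists_td (K := key h₁ h₂) hD₁ hD₂ hD₃ hN fun t ht => by
    rcases Nat.eq_zero_or_pos t with rfl | ht0
    · exact (BoxC.of_le h0 (Subgroup.card_le_card_group _) (by rw [h3, one_mul])).box
    · obtain ⟨⟨⟨h5, h6⟩, -⟩, h7⟩ := h4 t (List.mem_range'_1.2 ⟨ht0, by omega⟩)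
      have h11 := hty _ h5
      rw [h6] at h11
      rcases h7 with h7 | ⟨⟨⟨h7, h8⟩, h9⟩, h10⟩
      · exact (BoxC.of_le h11 (hx _ h5).2 (hN ▸ h7)).box
      · have h12 := hty _ h7
        rw [h8] at h12
        exact Box.of_two h11 h12 (hP _ h9) (hx _ h5).2 (hx _ h7).2 (hN ▸ h10)
  have key' : ∀ g : G, ((fxL L₁ (φ g) : ℕ) : ℚ) = (nth v₁ (T.ty g) : ℚ) ∧
      ((fxL L₂ (φ g) : ℕ) : ℚ) = (nth v₂ (T.ty g) : ℚ) := fun g => by
    have h5 := (hT g _ (T.lt g)).1 rfl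
    rcases Nat.eq_zero_or_pos (T.ty g) with h6 | h6
    · have h7 := h5.1
      rw [h6, h1, orderOf_eq_one_iff] at h7
      rw [h6, h7, map_one, fxL_one h₁.nd h₁.lt, fxL_one h₂.nd h₂.lt, hv₁, hv₂]
      exact ⟨rfl, rfl⟩
    · have h7 := T.lt g
      have h8 := h5.2 _ (h4 _ (List.mem_range'_1.2 ⟨h6, by omega⟩)).1.2
      rw [pow_one] at h8
      exact h8
  refine ⟨T, hm, ?_, ?_, (hT 1 0 (Nat.zero_lt_of_lt (T.lt 1))).2 h0,
    fun i hi hi' => ⟨x i, (hx i hi).1, (hT _ _ hi').2 (hty i hi), (hx i hi).2⟩⟩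
  · have h5 := Characters.Brauer.isGeneralizedCharacter_of_isCharacter h₁.isChar
    simp only [fun g => (key' g).1, Rat.cast_intCast] at h5
    exact h5
  · have h5 := Characters.Brauer.isGeneralizedCharacter_of_isCharacter h₂.isChar
    simp only [fun g => (key' g).2, Rat.cast_intCast] at h5
    exact h5

end Cfsg.Agent.TAB.Sm2

private theorem dce_3df09cba55fd : _root_.True := by
  try have : _root_.True := by simp only [_root_.Cfsg.Agent.TAB.Sm2.ptL.eq_1]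
  try have : _root_.True := by simp only [_root_.Cfsg.Agent.TAB.Sm2.tyB.eq_1]
  try have : _root_.True := by simp only [_root_.Cfsg.Agent.TAB.Sm2.boxB.eq_1]
  try have : _root_.True := by simp only [_root_.Cfsg.Agent.TAB.Sm2.cwL.eq_1]
  exact _root_.True.intro
end

-- part: TAB/Sm2/Rep
section
prune_inst 0x4124000000081c000040001cc3e3000102004b40010144000004c10c4120010621b2f002121990086c407ac040000001590010000020008e004119008004ab60e0a218bc04150006c0e805580c00000000000000000000000000000000000000000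
set_option linter.all false
open scoped Cfsg.Agent.FastGrp

/-!
# Representatives with bounds of the centralizers in subgroups of `M24` (helper3, TAB)

* `reps_of_data` : from the class lists of `H334.Ore`;
* `reps_of_srch` : by searches in the stabiliser of the subsets `Ss`;
* `virt_rows` : the rows are virtual by local certificates.
-/

set_option autoImplicit false

namespace Cfsg.Agent.TAB.Sm2

open Cfsg Cfsg.Agent.TAB.Eng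
open Cfsg.Agent.SporadicA.GolayBase Cfsg.Agent.SporadicA.GolayPerm
open Cfsg.Agent.SporadicStructure.M24El Cfsg.Agent.H729.Trans Cfsg.Agent.H729.MData Cfsg.Agent.H729.Count
open Cfsg.Agent.H334.Ore.Mat
open scoped Pointwise

universe u

variable {G : Type u} [Group G] [Finite G] {φ : G →* M24}

theorem reps_of_data (hφ : Function.Injective φ) {F : List ℕ} (hF : ∀ g : G, ∀ b ∈ F, im (φ g) b = b)
    (hmem : ∀ c : ℕ, ok c = true → (∀ b ∈ F, papp c b = b) → ∃ x : G, φ x = el c) (D : List Rec)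
    (hC : ∀ r ∈ D, chkC F r = true) (hA : ∀ r ∈ D, chkA F r = true)
    (hP : ∀ i j : Fin D.length, i < j → chkP F (D.get i) (D.get j) = true) {cL nL : List ℕ} {k : ℕ}
    (hk : D.length = k) (hc : D.map Rec.c = cL) (hn : D.map Rec.n = nL) {P : List (ℕ × ℕ)}
    (hP' : ∀ p ∈ P, p.1 < p.2 ∧ p.2 < k) : Reps φ k (fun i => cL.getD i 0) (fun i => nL.getD i 0) P := by
  subst hk hc hn
  have hA' : ∀ r ∈ D, ok r.c = true ∧ ∀ x ∈ F, papp r.c x = x := fun r hr => by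
    have h := hA r hr
    unfold chkA at h
    rw [Bool.and_eq_true] at h
    exact inG_iff h.1
  have hex : ∀ i : ℕ, ∃ x : G, ∀ hi : i < D.length, φ x = el D[i].c := fun i => by
    by_cases hi : i < D.length
    · obtain ⟨x, hx⟩ := hmem _ (hA' _ (List.getElem_mem hi)).1 (hA' _ (List.getElem_mem hi)).2
      exact ⟨x, fun _ => hx⟩
    · exact ⟨1, fun h => absurd h hi⟩
  choose x hx using hex
  refine ⟨x, fun i hi => ?_, fun p hp => ?_⟩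
  · beta_reduce
    rw [List.getD_eq_getElem _ _ (by simpa using hi), List.getD_eq_getElem _ _ (by simpa using hi),
      List.getElem_map, List.getElem_map]
    exact ⟨hx i hi, H334.Ore.Mat.card_cent_le hφ hF (hC _ (List.getElem_mem hi)) (hx i hi)⟩
  · obtain ⟨h1, h2⟩ := hP' p hp
    exact not_isConj hF (hA' _ (List.getElem_mem (h1.trans h2))).1 (hA' _ (List.getElem_mem h2)).1
      (hP ⟨p.1, h1.trans h2⟩ ⟨p.2, h2⟩ h1) (hx _ _) (hx _ _)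

/-- the candidates for the image of the point `b` -/
def cand (Ss : List ℕ) (b : ℕ) : List ℕ :=
  (List.range 24).filter fun i => Ss.all fun S => S.testBit i == S.testBit b

/-- the other points -/
def excl (Ss : List ℕ) (b : ℕ) : List ℕ :=
  (List.range 24).filter fun i => !Ss.all fun S => S.testBit i == S.testBit b

omit [Finite G] in
theorem im_all {Ss : List ℕ} (h : ∀ S ∈ Ss, ∀ g : G, φ g • fin S = fin S) (g : G) {b : ℕ} (hb : b < 24) :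
    (Ss.all fun S => S.testBit (im (φ g) b) == S.testBit b) = true := by
  refine List.all_eq_true.2 fun S hS => ?_
  rw [beq_iff_eq, Bool.eq_iff_iff]
  have h1 : φ g • pt b ∈ φ g • fin S ↔ pt b ∈ fin S := Finset.smul_mem_smul_finset_iff _
  rw [h S hS g, mem_fin, mem_fin, idx_pt hb] at h1
  exact h1

/-- the data of a class -/
structure Rc where
  p : ℕ
  c : ℕ
  wd : List (ℕ × ℕ)
  sts : List (ℕ × List ℕ × List (List (ℕ × ℕ)))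
  bs : List ℕ
  n : ℕ

/-- the product of the numbers of candidates -/
def fibN (Ss : List ℕ) (p c : ℕ) : List ℕ → List ℕ → ℕ
  | _, [] => 1
  | L, b :: bs => (cA p c L b (excl Ss b)).length * fibN Ss p c (b :: L) bs

/-- the points are admissible -/
def fibB (Ss : List ℕ) (p c : ℕ) : List ℕ → List ℕ → Bool
  | _, [] => true
  | L, b :: bs => decide (b ∈ cA p c L b (excl Ss b)) && fibB Ss p c (b :: L) bs

/-- the candidate lists -/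
def stB (Ss L : List ℕ) (sts : List (ℕ × List ℕ × List (List (ℕ × ℕ)))) : Bool :=
  sts.all fun st => decide (st.1 < 24) && (decide (st.2.1 = cand Ss st.1) || (decide (st.2.1 = [st.1]) && decide (st.1 ∈ L)))

/-- the check of a class -/
def chkR (Ss : List ℕ) (r : Rc) : Bool :=
  pre r.p r.c r.wd r.sts && (Ss.all fun S => pimg r.c S == S) && stB Ss r.bs r.sts && fibB Ss r.p r.c [] r.bs &&
    Nat.ble (fibN Ss r.p r.c [] r.bs * (tl r.p r.c r.c r.wd r.sts).length) r.n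

/-- the check of two different classes -/
def chkQ (Ss : List ℕ) (r s : Rc) (wd : List (ℕ × ℕ)) (sts : List (ℕ × List ℕ × List (List (ℕ × ℕ)))) : Bool :=
  pre r.p r.c wd sts && ok s.c && stB Ss [] sts && (tl r.p r.c s.c wd sts).isEmpty

omit [Finite G] in
theorem st_mem' {Ss L : List ℕ} (h : ∀ S ∈ Ss, ∀ g : G, φ g • fin S = fin S)
    {sts : List (ℕ × List ℕ × List (List (ℕ × ℕ)))} (hs : stB Ss L sts = true) {g : G}
    (hg : ∀ b ∈ L, b < 24 → im (φ g) b = b) : ∀ st ∈ sts, im (φ g) st.1 ∈ st.2.1 := by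
  intro st hst
  have h1 := List.all_eq_true.1 hs st hst
  simp only [Bool.and_eq_true, decide_eq_true_eq, Bool.or_eq_true] at h1
  obtain ⟨h2, h1 | ⟨h1, h3⟩⟩ := h1
  · rw [h1]
    exact List.mem_filter.2 ⟨List.mem_range.2 (im_lt _ _), im_all h g h2⟩
  · rw [h1, hg _ h3 h2]
    exact List.mem_singleton.2 rfl

theorem card_fib' {Ss : List ℕ} (h : ∀ S ∈ Ss, ∀ g : G, φ g • fin S = fin S) {x : G} {p c : ℕ} (hc : ok c = true)
    (hx : φ x = el c) : ∀ (bs L : List ℕ), fibB Ss p c L bs = true →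
    Nat.card (Hs φ x L) ≤ fibN Ss p c L bs * Nat.card (Hs φ x (bs.reverse ++ L)) := by
  intro bs
  induction bs with
  | nil => intro L _; exact (one_mul _).ge
  | cons b bs ih =>
    intro L hb
    rw [fibB, Bool.and_eq_true, decide_eq_true_iff] at hb
    have h1 := card_step φ hc hx hb.1 fun i hi g _ h2 => by
      have h3 := (List.mem_filter.1 hi).2
      rw [← h2, im_all h g (mem_cA hb.1).1] at h3
      cases h3
    rw [fibN, mul_assoc, List.reverse_cons, List.append_assoc]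
    exact h1.trans (Nat.mul_le_mul_left _ (ih _ hb.2))

theorem cent_of_chkR (hφ : Function.Injective φ) {Ss : List ℕ} (h : ∀ S ∈ Ss, ∀ g : G, φ g • fin S = fin S) {r : Rc}
    (hr : chkR Ss r = true) {x : G} (hx : φ x = el r.c) :
    Nat.card (Subgroup.centralizer ({x} : Set G)) ≤ r.n := by
  classical
  simp only [chkR, Bool.and_eq_true, Nat.ble_eq] at hr
  obtain ⟨⟨⟨⟨h1, -⟩, h2⟩, h3⟩, h4⟩ := hr
  have hc := ok_of_pre h1
  have h6 : Subgroup.centralizer ({x} : Set G) = Hs φ x [] := by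
    ext g
    rw [Subgroup.mem_centralizer_singleton_iff]
    exact ⟨fun h => ⟨h, fun b hb => absurd hb List.not_mem_nil⟩, fun h => h.1⟩
  rw [h6]
  refine (card_fib' h hc hx r.bs [] h3).trans (le_trans (Nat.mul_le_mul_left _ ?_) h4)
  have key : ∀ z : Hs φ x (r.bs.reverse ++ []),
      packOf (φ z.1 : Equiv.Perm GolayPt) ∈ (tl r.p r.c r.c r.wd r.sts).toFinset := by
    rintro ⟨z, hz1, hz2⟩
    rw [List.mem_toFinset]
    refine packOf_mem_tl h1 hc (φ z) ?_ (st_mem' h h2 fun b hb => hz2 b ?_)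
    · rw [← hx, ← map_mul, ← map_mul, hz1]
    · rwa [List.append_nil, List.mem_reverse]
  generalize tl r.p r.c r.c r.wd r.sts = T at key ⊢
  have h7 : Nat.card (Hs φ x (r.bs.reverse ++ [])) ≤ Nat.card T.toFinset := by
    refine Nat.card_le_card_of_injective (fun z => ⟨_, key z⟩) ?_
    intro a b hab
    have h8 := congrArg Subtype.val hab
    exact Subtype.ext (hφ (packOf_inj h8))
  refine h7.trans ?_
  rw [Nat.card_eq_fintype_card, Fintype.card_coe]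
  exact List.toFinset_card_le T

omit [Finite G] in
theorem not_conj_of_chkQ {Ss : List ℕ} (h : ∀ S ∈ Ss, ∀ g : G, φ g • fin S = fin S) {r s : Rc} {wd : List (ℕ × ℕ)}
    {sts : List (ℕ × List ℕ × List (List (ℕ × ℕ)))} (hr : chkQ Ss r s wd sts = true) {x y : G} (hx : φ x = el r.c)
    (hy : φ y = el s.c) : ¬ IsConj x y := by
  intro hxy
  simp only [chkQ, Bool.and_eq_true, List.isEmpty_iff] at hr
  obtain ⟨⟨⟨h1, h2⟩, h3⟩, h4⟩ := hr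
  obtain ⟨g, hg⟩ := isConj_iff.1 hxy
  have h5 := packOf_mem_tl h1 h2 (φ g) (by
    rw [← hx, ← hy, ← hg, ← map_mul, ← map_mul, inv_mul_cancel_right])
    (st_mem' h h3 fun b hb => absurd hb List.not_mem_nil)
  rw [h4] at h5
  exact List.not_mem_nil h5

theorem reps_of_srch (hφ : Function.Injective φ) {Ss : List ℕ} (h : ∀ S ∈ Ss, ∀ g : G, φ g • fin S = fin S)
    (hmem : ∀ y : M24, (∀ S ∈ Ss, y • fin S = fin S) → ∃ x : G, φ x = y) (D : ℕ → Rc) {k : ℕ}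
    (hC : ∀ i < k, chkR Ss (D i) = true) {P : List (ℕ × ℕ)}
    (hP : ∀ p ∈ P, p.1 < k ∧ p.2 < k ∧ ∃ wd sts, chkQ Ss (D p.1) (D p.2) wd sts = true) :
    Reps φ k (fun i => (D i).c) (fun i => (D i).n) P := by
  have hex : ∀ i : ℕ, ∃ x : G, i < k → φ x = el (D i).c := fun i => by
    by_cases hi : i < k
    · have h1 := hC i hi
      simp only [chkR, Bool.and_eq_true, List.all_eq_true, beq_iff_eq] at h1
      obtain ⟨x, hx⟩ := hmem (el (D i).c) fun S hS => by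
        rw [el_smul_fin (ok_of_pre h1.1.1.1.1), h1.1.1.1.2 S hS]
      exact ⟨x, fun _ => hx⟩
    · exact ⟨1, fun h => absurd h hi⟩
  choose x hx using hex
  refine ⟨x, fun i hi => ⟨hx i hi, cent_of_chkR hφ h (hC i hi) (hx i hi)⟩, fun p hp => ?_⟩
  obtain ⟨h1, h2, wd, sts, h3⟩ := hP p hp
  exact not_conj_of_chkQ h h3 (hx _ h1) (hx _ h2)

omit [Finite G] in
theorem isConj_pow (hφ : Function.Injective φ) {x y : G} {c d k : ℕ} (hx : φ x = el c) (hy : φ y = el d)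
    (h : (ok c && ok d && Nat.beq (pcomp d c) (pcomp (ppow c k) d)) = true) : IsConj x (x ^ k) := by
  simp only [Bool.and_eq_true, Nat.beq_eq] at h
  obtain ⟨⟨h1, h2⟩, h3⟩ := h
  refine isConj_iff.2 ⟨y, ?_⟩
  rw [mul_inv_eq_iff_eq_mul]
  apply hφ
  rw [map_mul, map_mul, map_pow, hx, hy, ← el_ppow h1, ← el_pcomp h2 h1, ← el_pcomp (ok_ppow h1 k) h2, h3]

omit [Finite G] in
theorem smul_full (g : M24) : g • fin 16777215 = fin 16777215 := by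
  have h : fin 16777215 = Finset.univ := by decide +kernel
  rw [h, Finset.smul_finset_univ]

theorem smul_zero' (g : M24) : g • fin 0 = fin 0 := by
  have h : fin 0 = ∅ := by decide +kernel
  rw [h, Finset.smul_finset_empty]

theorem forall_lt_of_allL {f : ℕ → Bool} {a n : ℕ} (h : allL f (List.range' a n) = true) :
    ∀ i, a ≤ i → i < a + n → f i = true := fun i h1 h2 => allL_spec h i (List.mem_range'_1.2 ⟨h1, h2⟩)

/-- the list of primes of a list of certificates -/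
def plOf (C : List (ℕ × ℕ × List Cert)) : List (ℕ × ℕ × List ℕ) := C.map fun x => (x.1, x.2.1, x.2.2.map Cert.s)

/-- **the rows are virtual** -/
theorem virt_rows {G : Type u} [Group G] [Finite G] {D : Dat} {T : TD G D} (hN : Nat.card G = D.N)
    {seeds rows : List (List ℤ)} (hs : ∀ sd ∈ seeds, Virt T (nth sd)) {C : List (ℕ × ℕ × List Cert)}
    (hP : okPrimes D (plOf C) = true)
    (hC : ∀ x ∈ C, Eng.chkP D x.1 x.2.1 (x.1 ^ x.2.1) seeds x.2.2 rows = true) : ∀ r ∈ rows, Virt T (nth r) := by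
  intro r hr
  refine virt_of_good hN hP fun x hx s hs' => ?_
  obtain ⟨y, hy, rfl⟩ := List.mem_map.1 hx
  exact good_of_chkP hN (hC y hy) hs s hs' r hr

end Cfsg.Agent.TAB.Sm2

private theorem dce_96adbec2bf6a : _root_.True := by
  try have : _root_.True := by simp only [_root_.Cfsg.Agent.TAB.Sm2.fibN.eq_1]
  try have : _root_.True := by simp only [_root_.Cfsg.Agent.TAB.Sm2.fibB.eq_1]
  try have : _root_.True := by simp only [_root_.Cfsg.Agent.TAB.Sm2.fibB.eq_2]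
  try have : _root_.True := by simp only [_root_.Cfsg.Agent.TAB.Sm2.fibN.eq_2]
  try have : _root_.True := by simp only [_root_.Cfsg.Agent.TAB.Sm2.fibB.eq_def]
  try have : _root_.True := by simp only [_root_.Cfsg.Agent.TAB.Sm2.chkR.eq_1]
  try have : _root_.True := by simp only [_root_.Cfsg.Agent.TAB.Sm2.fibN.eq_def]
  try have : _root_.True := by simp only [_root_.Cfsg.Agent.TAB.Sm2.chkQ.eq_1]
  exact _root_.True.intro
end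

-- part: TAB/Sm2/M11
section
set_option linter.all false
open scoped Cfsg.Agent.FastGrp

/-!
# The character table of `M11` (helper3, TAB)
-/

set_option autoImplicit false
set_option maxRecDepth 100000

namespace Cfsg.Agent.TAB.Sm2.M11

open Cfsg Cfsg.Agent.TAB.Eng Cfsg.Agent.TAB.Use
open Cfsg.Agent.SporadicA.GolayBase Cfsg.Agent.SporadicA.GolayPerm
open Cfsg.Agent.SporadicStructure.M24El Cfsg.Agent.H729.Trans Cfsg.Agent.H729.MData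
open scoped Pointwise

def dat : Dat where
  n := 8
  N := 7920
  ordL := [1, 2, 3, 4, 5, 6, 8, 11]
  cntL := [1, 165, 440, 990, 1584, 1320, 1980, 1440]
  pwL := [[], [(1, 1)], [(1, 2)], [(1, 3), (2, 1)], [(1, 4)], [(1, 5), (2, 2), (3, 1)], [(1, 6), (2, 3), (4, 1)], [(1, 7)]]

def v₁ : List ℤ := [12, 4, 3, 4, 2, 1, 2, 1]

def v₂ : List ℤ := []

def rA : List (List ℤ) := [[1, 1, 1, 1, 1, 1, 1, 1],
  [10, 2, 1, 2, 0, -1, 0, -1],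
  [11, 3, 2, -1, 1, 0, -1, 0],
  [44, 4, -1, 0, -1, 1, 0, 0],
  [45, -3, 0, 1, 0, 0, -1, 1],
  [55, -1, 1, -1, 0, -1, 1, 0]]

def rB : List (List ℤ) := [[20, -4, 2, 0, 0, 2, 0, -2],
  [32, 0, -4, 0, 2, 0, 0, -1]]

def c2 : List Cert := [⟨0, [.one, .gen 0 1 0, .gen 0 1 1, .lin [(8, 2), (6, 1)], .lin [(6, 3), (11, 1)], .lin [(4, 4), (1, 3)], .lin [(1, 5)]], [(0, 1), (1, 8), (2, 4), (3, 4)]⟩,
  ⟨2, [.one, .gen 0 1 0, .lin [(11, 1), (7, 0)], .lin [(1, 2)]], [(0, 1), (1, 2)]⟩]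

def c3 : List Cert := [⟨0, [.one, .lin [(1, 0)]], [(0, 1)]⟩,
  ⟨1, [.one, .gen 0 1 0, .lin [(7, 1), (5, 0)], .lin [(1, 2)]], [(0, 1), (1, 3)]⟩]

def c5 : List Cert := [⟨0, [.one, .lin [(1, 0)]], [(0, 1)]⟩]

def c11 : List Cert := [⟨0, [.one, .lin [(1, 0)]], [(0, 1)]⟩]

def cert : List (ℕ × ℕ × List Cert) := [(2, 4, c2), (3, 2, c3), (5, 1, c5), (11, 1, c11)]

theorem h2 : Eng.chkP dat 2 4 (2 ^ 4) [v₁] c2 (rA ++ rB) = true := by decide +kernel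

theorem h3 : Eng.chkP dat 3 2 (3 ^ 2) [v₁] c3 (rA ++ rB) = true := by decide +kernel

theorem h5 : Eng.chkP dat 5 1 (5 ^ 1) [v₁] c5 (rA ++ rB) = true := by decide +kernel

theorem h11 : Eng.chkP dat 11 1 (11 ^ 1) [v₁] c11 (rA ++ rB) = true := by decide +kernel

theorem hC : ∀ x ∈ cert, Eng.chkP dat x.1 x.2.1 (x.1 ^ x.2.1) [v₁] x.2.2 (rA ++ rB) = true := by
  intro x hx
  simp only [cert, List.mem_cons, List.not_mem_nil, or_false] at hx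
  rcases hx with rfl | rfl | rfl | rfl
  · exact h2
  · exact h3
  · exact h5
  · exact h11

def r0 : Rc where
  p := 2
  c := 984404615340628635531544718971832448
  wd := [(2, 0), (0, 0), (11, 0), (1, 0), (0, 1), (7, 0), (8, 0), (7, 1), (12, 0), (3, 0), (9, 0), (4, 0), (3, 1), (5, 0), (10, 0), (13, 0), (5, 1), (6, 0), (1, 1), (9, 1), (10, 1), (4, 1), (14, 0), (15, 0)]
  sts := [(1, [1], []),
    (3, [3], []),
    (0, [0], []),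
    (9, [1, 2, 3, 4, 6, 8, 9, 12, 13, 16, 18], []),
    (11, [5, 7, 10, 11, 14, 15, 17, 19, 20, 21, 22, 23], [[(0, 0), (1, 0), (0, 1), (3, 0), (4, 0), (3, 1), (1, 1), (4, 1)]]),
    (13, [1, 2, 3, 4, 6, 8, 9, 12, 13, 16, 18], []),
    (17, [5, 7, 10, 11, 14, 15, 17, 19, 20, 21, 22, 23], [[(2, 0), (0, 1), (3, 0), (5, 0), (5, 1), (6, 0), (1, 1), (4, 1)]]),
    (5, [5, 7, 10, 11, 14, 15, 17, 19, 20, 21, 22, 23], [[(2, 0), (0, 0), (7, 0), (7, 1), (3, 1), (6, 0), (1, 1), (4, 1)]]),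
    (6, [1, 2, 3, 4, 6, 8, 9, 12, 13, 16, 18], [[(2, 0), (0, 0), (1, 0), (0, 1), (7, 0), (8, 0), (5, 1), (4, 1)]]),
    (10, [5, 7, 10, 11, 14, 15, 17, 19, 20, 21, 22, 23], [[(0, 0), (1, 0), (0, 1), (9, 0), (5, 0), (5, 1), (1, 1), (9, 1)]]),
    (14, [5, 7, 10, 11, 14, 15, 17, 19, 20, 21, 22, 23], [[(2, 0), (1, 0), (0, 1), (3, 1), (10, 0), (6, 0), (10, 1), (4, 1)], [(2, 0), (1, 0), (7, 0), (5, 1), (6, 0), (1, 1), (9, 1), (10, 1)]]),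
    (2, [1, 2, 3, 4, 6, 8, 9, 12, 13, 16, 18], [[(2, 0), (0, 0), (11, 0), (1, 0), (5, 0), (1, 1), (10, 1), (4, 1)]]),
    (8, [1, 2, 3, 4, 6, 8, 9, 12, 13, 16, 18], [[(2, 0), (11, 0), (12, 0), (10, 0), (6, 0), (1, 1), (9, 1), (4, 1)]]),
    (15, [5, 7, 10, 11, 14, 15, 17, 19, 20, 21, 22, 23], [[(2, 0), (11, 0), (5, 0), (10, 0), (13, 0), (5, 1), (6, 0), (10, 1)]]),
    (22, [5, 7, 10, 11, 14, 15, 17, 19, 20, 21, 22, 23], [[(0, 0), (3, 1), (5, 0), (10, 0), (13, 0), (5, 1), (9, 1), (14, 0)]]),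
    (23, [5, 7, 10, 11, 14, 15, 17, 19, 20, 21, 22, 23], [[(2, 0), (3, 1), (10, 0), (5, 1), (6, 0), (1, 1), (14, 0), (15, 0)]])]
  bs := [1, 3]
  n := 48

def r1 : Rc where
  p := 3
  c := 486115426764614359583170501228632096
  wd := [(2, 0), (1, 0), (0, 0), (8, 0), (8, 2), (5, 0), (0, 1), (6, 0), (8, 1), (9, 0), (10, 0), (6, 2), (9, 1), (9, 2), (5, 2), (7, 0), (0, 2), (11, 0), (3, 0), (5, 1), (7, 1), (7, 2), (4, 0), (6, 1)]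
  sts := [(2, [2], []),
    (1, [1], []),
    (0, [0], []),
    (18, [1, 2, 3, 4, 6, 8, 9, 12, 13, 16, 18], []),
    (22, [5, 7, 10, 11, 14, 15, 17, 19, 20, 21, 22, 23], []),
    (5, [5, 7, 10, 11, 14, 15, 17, 19, 20, 21, 22, 23], [[(2, 0), (0, 0), (5, 0), (0, 1), (5, 2), (0, 2), (5, 1), (4, 0)]]),
    (7, [5, 7, 10, 11, 14, 15, 17, 19, 20, 21, 22, 23], [[(2, 0), (5, 0), (6, 0), (6, 2), (5, 2), (3, 0), (5, 1), (6, 1)]]),
    (15, [5, 7, 10, 11, 14, 15, 17, 19, 20, 21, 22, 23], [[(1, 0), (0, 0), (5, 2), (0, 2), (3, 0), (5, 1), (7, 1), (6, 1)]]),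
    (3, [1, 2, 3, 4, 6, 8, 9, 12, 13, 16, 18], [[(8, 0), (8, 2), (0, 2), (3, 0), (7, 1), (7, 2), (4, 0), (6, 1)]]),
    (9, [1, 2, 3, 4, 6, 8, 9, 12, 13, 16, 18], [[(1, 0), (9, 1), (9, 2), (5, 2), (7, 0), (0, 2), (5, 1), (4, 0)], [(2, 0), (8, 0), (9, 2), (5, 2), (0, 2), (5, 1), (7, 2), (6, 1)]]),
    (10, [5, 7, 10, 11, 14, 15, 17, 19, 20, 21, 22, 23], [[(10, 0), (9, 1), (5, 2), (7, 0), (0, 2), (7, 1), (7, 2), (6, 1)]]),
    (17, [5, 7, 10, 11, 14, 15, 17, 19, 20, 21, 22, 23], [[(2, 0), (9, 1), (5, 2), (0, 2), (11, 0), (3, 0), (4, 0), (6, 1)]])]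
  bs := [2, 1]
  n := 18

def r2 : Rc where
  p := 4
  c := 932802816281274281160159712044682496
  wd := [(4, 0), (0, 0), (1, 0), (1, 1), (0, 2), (5, 0), (7, 0), (2, 0), (0, 1), (1, 2), (5, 1), (2, 2), (0, 3), (8, 0), (3, 0), (3, 1), (1, 3), (2, 3), (9, 0), (6, 0), (2, 1), (6, 1), (3, 3), (3, 2)]
  sts := [(1, [1], []),
    (2, [1, 2, 3, 4, 6, 8, 9, 12, 13, 16, 18], []),
    (7, [5, 7, 10, 11, 14, 15, 17, 19, 20, 21, 22, 23], [[(0, 0), (1, 0), (1, 1), (0, 2), (1, 2), (1, 3), (2, 3), (2, 1)]]),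
    (14, [5, 7, 10, 11, 14, 15, 17, 19, 20, 21, 22, 23], [[(0, 0), (0, 2), (3, 0), (3, 1), (2, 3), (2, 1), (3, 3), (3, 2)], [(0, 0), (1, 0), (2, 0), (0, 3), (3, 1), (1, 3), (2, 3), (3, 2)]]),
    (0, [0], []),
    (5, [5, 7, 10, 11, 14, 15, 17, 19, 20, 21, 22, 23], [[(4, 0), (0, 0), (1, 0), (1, 1), (5, 0), (3, 0), (2, 3), (3, 2)]]),
    (19, [5, 7, 10, 11, 14, 15, 17, 19, 20, 21, 22, 23], [[(4, 0), (0, 0), (1, 0), (0, 3), (2, 3), (6, 0), (2, 1), (3, 3)]]),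
    (6, [1, 2, 3, 4, 6, 8, 9, 12, 13, 16, 18], [[(4, 0), (7, 0), (0, 3), (3, 1), (1, 3), (2, 3), (6, 0), (6, 1)]]),
    (13, [1, 2, 3, 4, 6, 8, 9, 12, 13, 16, 18], [[(0, 0), (0, 3), (8, 0), (3, 0), (3, 1), (1, 3), (6, 0), (3, 3)]]),
    (18, [1, 2, 3, 4, 6, 8, 9, 12, 13, 16, 18], [[(4, 0), (0, 3), (3, 0), (1, 3), (2, 3), (9, 0), (3, 3), (3, 2)]])]
  bs := [1]
  n := 8

def r3 : Rc where
  p := 5
  c := 879224355435414949203060197848334528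
  wd := [(6, 0), (4, 0), (3, 0), (3, 3), (3, 2), (5, 0), (4, 1), (5, 3), (0, 0), (4, 2), (2, 0), (7, 0), (4, 3), (4, 4), (1, 0), (2, 1), (3, 1), (5, 2), (3, 4), (2, 2), (5, 1), (2, 4), (5, 4), (2, 3)]
  sts := [(8, [1, 2, 3, 4, 6, 8, 9, 12, 13, 16, 18], []),
    (14, [5, 7, 10, 11, 14, 15, 17, 19, 20, 21, 22, 23], []),
    (10, [5, 7, 10, 11, 14, 15, 17, 19, 20, 21, 22, 23], []),
    (2, [1, 2, 3, 4, 6, 8, 9, 12, 13, 16, 18], [[(3, 0), (3, 3), (3, 2), (0, 0), (2, 0), (1, 0), (2, 1), (3, 1), (3, 4), (2, 2), (2, 4), (2, 3)]]),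
    (1, [1, 2, 3, 4, 6, 8, 9, 12, 13, 16, 18], [[(3, 0), (3, 3), (3, 2), (4, 3), (4, 4), (2, 1), (3, 1), (2, 4)]]),
    (5, [5, 7, 10, 11, 14, 15, 17, 19, 20, 21, 22, 23], [[(4, 0), (4, 3), (4, 4), (1, 0), (2, 1), (3, 1), (2, 2), (5, 4)]]),
    (0, [0], [[(6, 0), (4, 3), (1, 0), (3, 1), (5, 2), (3, 4), (5, 4), (2, 3)]]),
    (11, [5, 7, 10, 11, 14, 15, 17, 19, 20, 21, 22, 23], [[(7, 0), (4, 4), (2, 1), (3, 1), (5, 2), (2, 4), (5, 4), (2, 3)]])]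
  bs := []
  n := 5

def r4 : Rc where
  p := 6
  c := 724958882597364861866725067172417024
  wd := [(6, 0), (0, 0), (4, 0), (4, 1), (0, 3), (2, 0), (0, 2), (2, 1), (3, 0), (0, 4), (2, 2), (7, 0), (3, 1), (3, 2), (5, 0), (1, 0), (0, 1), (1, 4), (0, 5), (1, 2), (1, 1), (1, 5), (5, 1), (1, 3)]
  sts := [(1, [1], []),
    (15, [5, 7, 10, 11, 14, 15, 17, 19, 20, 21, 22, 23], [[(0, 0), (0, 3), (0, 2), (1, 4), (0, 5), (1, 2), (1, 1), (1, 5)]]),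
    (5, [5, 7, 10, 11, 14, 15, 17, 19, 20, 21, 22, 23], [[(0, 3), (2, 0), (2, 1), (1, 0), (0, 1), (1, 4), (1, 1), (1, 5)]]),
    (8, [1, 2, 3, 4, 6, 8, 9, 12, 13, 16, 18], [[(0, 3), (3, 1), (3, 2), (0, 1), (1, 4), (1, 2), (1, 1), (1, 3)]]),
    (2, [1, 2, 3, 4, 6, 8, 9, 12, 13, 16, 18], [[(4, 0), (4, 1), (1, 0), (1, 4), (1, 2), (1, 1), (1, 5), (1, 3)], [(0, 0), (4, 0), (2, 0), (3, 2), (0, 1), (1, 4), (1, 2), (1, 5)]]),
    (14, [5, 7, 10, 11, 14, 15, 17, 19, 20, 21, 22, 23], [[(0, 0), (3, 1), (3, 2), (5, 0), (1, 0), (0, 1), (1, 2), (5, 1)], [(4, 0), (3, 1), (3, 2), (1, 0), (0, 5), (1, 1), (5, 1), (1, 3)]]),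
    (0, [0], [[(6, 0), (3, 1), (5, 0), (0, 1), (1, 4), (0, 5), (5, 1), (1, 3)]]),
    (11, [5, 7, 10, 11, 14, 15, 17, 19, 20, 21, 22, 23], [[(7, 0), (3, 2), (1, 0), (0, 1), (1, 4), (1, 5), (5, 1), (1, 3)]])]
  bs := [1]
  n := 6

def r5 : Rc where
  p := 8
  c := 487212215565085137517041133790987648
  wd := [(4, 0), (0, 0), (0, 7), (0, 2), (0, 4), (2, 0), (5, 0), (1, 0), (0, 5), (0, 3), (2, 3), (1, 4), (0, 1), (3, 0), (1, 7), (1, 6), (0, 6), (1, 5), (3, 1), (2, 1), (1, 1), (2, 2), (1, 2), (1, 3)]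
  sts := [(1, [1], []),
    (7, [5, 7, 10, 11, 14, 15, 17, 19, 20, 21, 22, 23], [[(0, 0), (0, 4), (1, 7), (1, 6), (1, 5), (1, 1), (1, 2), (1, 3)], [(0, 0), (0, 7), (1, 0), (0, 1), (1, 6), (0, 6), (1, 5), (1, 3)]]),
    (5, [5, 7, 10, 11, 14, 15, 17, 19, 20, 21, 22, 23], [[(0, 7), (0, 2), (1, 6), (1, 5), (2, 1), (1, 1), (2, 2), (1, 3)]]),
    (13, [1, 2, 3, 4, 6, 8, 9, 12, 13, 16, 18], [[(0, 0), (0, 1), (3, 0), (1, 7), (1, 6), (0, 6), (2, 1), (1, 2)]]),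
    (0, [0], [[(4, 0), (0, 1), (1, 7), (0, 6), (1, 5), (3, 1), (1, 2), (1, 3)]]),
    (6, [1, 2, 3, 4, 6, 8, 9, 12, 13, 16, 18], [[(5, 0), (1, 7), (1, 6), (3, 1), (2, 1), (2, 2), (1, 2), (1, 3)]])]
  bs := [1]
  n := 8

def r6 : Rc where
  p := 11
  c := 733993124602845496953610675189662112
  wd := [(2, 0), (0, 0), (0, 7), (0, 5), (0, 2), (1, 0), (0, 6), (1, 3), (0, 4), (0, 3), (1, 5), (3, 0), (0, 10), (0, 1), (1, 10), (1, 7), (0, 8), (1, 2), (0, 9), (1, 6), (1, 4), (1, 9), (1, 8), (1, 1)]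
  sts := [(1, [1], []),
    (5, [5, 7, 10, 11, 14, 15, 17, 19, 20, 21, 22, 23], [[(0, 0), (0, 10), (0, 1), (1, 10), (1, 7), (0, 8), (1, 6), (1, 8)]]),
    (0, [0], [[(2, 0), (0, 10), (1, 10), (0, 8), (1, 2), (0, 9), (1, 8), (1, 1)]]),
    (11, [5, 7, 10, 11, 14, 15, 17, 19, 20, 21, 22, 23], [[(3, 0), (0, 1), (1, 7), (0, 8), (1, 2), (1, 9), (1, 8), (1, 1)]])]
  bs := [1]
  n := 11

def r7 : Rc where
  p := 8
  c := 309367174885672305814235982153715968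
  wd := [(4, 0), (0, 0), (0, 3), (0, 2), (0, 4), (2, 0), (5, 0), (1, 0), (0, 1), (0, 7), (2, 3), (1, 4), (0, 5), (3, 0), (1, 3), (1, 6), (0, 6), (1, 1), (3, 1), (2, 1), (1, 5), (2, 2), (1, 2), (1, 7)]
  sts := [(1, [1], []),
    (7, [5, 7, 10, 11, 14, 15, 17, 19, 20, 21, 22, 23], [[(0, 0), (0, 4), (1, 3), (1, 6), (1, 1), (1, 5), (1, 2), (1, 7)], [(0, 0), (0, 3), (1, 0), (0, 5), (1, 6), (0, 6), (1, 1), (1, 7)]]),
    (5, [5, 7, 10, 11, 14, 15, 17, 19, 20, 21, 22, 23], [[(0, 3), (0, 2), (1, 6), (1, 1), (2, 1), (1, 5), (2, 2), (1, 7)]]),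
    (13, [1, 2, 3, 4, 6, 8, 9, 12, 13, 16, 18], [[(0, 0), (0, 5), (3, 0), (1, 3), (1, 6), (0, 6), (2, 1), (1, 2)]]),
    (0, [0], [[(4, 0), (0, 5), (1, 3), (0, 6), (1, 1), (3, 1), (1, 2), (1, 7)]]),
    (6, [1, 2, 3, 4, 6, 8, 9, 12, 13, 16, 18], [[(5, 0), (1, 3), (1, 6), (3, 1), (2, 1), (2, 2), (1, 2), (1, 7)]])]
  bs := [1]
  n := 8

def r8 : Rc where
  p := 11
  c := 309169446077031286161353732123609216
  wd := [(2, 0), (0, 0), (0, 9), (0, 8), (0, 1), (1, 0), (0, 3), (1, 7), (0, 2), (0, 7), (1, 8), (3, 0), (0, 5), (0, 6), (1, 5), (1, 9), (0, 4), (1, 1), (0, 10), (1, 3), (1, 2), (1, 10), (1, 4), (1, 6)]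
  sts := [(1, [1], []),
    (5, [5, 7, 10, 11, 14, 15, 17, 19, 20, 21, 22, 23], [[(0, 0), (0, 5), (0, 6), (1, 5), (1, 9), (0, 4), (1, 3), (1, 4)]]),
    (0, [0], [[(2, 0), (0, 5), (1, 5), (0, 4), (1, 1), (0, 10), (1, 4), (1, 6)]]),
    (11, [5, 7, 10, 11, 14, 15, 17, 19, 20, 21, 22, 23], [[(3, 0), (0, 6), (1, 9), (0, 4), (1, 1), (1, 10), (1, 4), (1, 6)]])]
  bs := [1]
  n := 11

/-- the classes -/
def rc (i : ℕ) : Rc := [r0, r1, r2, r3, r4, r5, r6, r7, r8].getD i r0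

/-- the representatives -/
abbrev cf (i : ℕ) : ℕ := (rc i).c

private noncomputable def _root_.Cfsg.Agent.GolayF.f0 : {f // @Cfsg.Agent.TAB.Sm2.chkR = f} :=
  ⟨_, by delta Cfsg.Agent.H334.Ore.Mat.cA Cfsg.Agent.H729.Trans.mk Cfsg.Agent.H729.Trans.mk._f Cfsg.Agent.H729.Trans.pre Cfsg.Agent.H729.Trans.srcOk Cfsg.Agent.H729.Trans.srcOk._f Cfsg.Agent.H729.Trans.wdOk Cfsg.Agent.TAB.Sm2.chkR Cfsg.Agent.TAB.Sm2.fibB Cfsg.Agent.TAB.Sm2.fibB._f Cfsg.Agent.TAB.Sm2.fibN Cfsg.Agent.TAB.Sm2.fibN._f; rewrite [Cfsg.Agent.GolayF.pimg_eq, Cfsg.Agent.GolayF.isCode_eq, Cfsg.Agent.GolayF.ok_eq, Cfsg.Agent.GolayF.pw_eq, Cfsg.Agent.GolayF.tl_eq]; exact rfl⟩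

theorem k0 : chkR [340831, 1] r0 = true := by (rewrite [Cfsg.Agent.GolayF.f0.2]; decide +kernel)

theorem k1 : chkR [340831, 1] r1 = true := by (rewrite [Cfsg.Agent.GolayF.f0.2]; decide +kernel)

theorem k2 : chkR [340831, 1] r2 = true := by (rewrite [Cfsg.Agent.GolayF.f0.2]; decide +kernel)

theorem k3 : chkR [340831, 1] r3 = true := by (rewrite [Cfsg.Agent.GolayF.f0.2]; decide +kernel)

theorem k4 : chkR [340831, 1] r4 = true := by (rewrite [Cfsg.Agent.GolayF.f0.2]; decide +kernel)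

theorem k5 : chkR [340831, 1] r5 = true := by (rewrite [Cfsg.Agent.GolayF.f0.2]; decide +kernel)

theorem k6 : chkR [340831, 1] r6 = true := by (rewrite [Cfsg.Agent.GolayF.f0.2]; decide +kernel)

theorem k7 : chkR [340831, 1] r7 = true := by (rewrite [Cfsg.Agent.GolayF.f0.2]; decide +kernel)

theorem k8 : chkR [340831, 1] r8 = true := by (rewrite [Cfsg.Agent.GolayF.f0.2]; decide +kernel)

theorem hK : ∀ i < 9, chkR [340831, 1] (rc i) = true := by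
  intro i hi
  interval_cases i
  · exact k0
  · exact k1
  · exact k2
  · exact k3
  · exact k4
  · exact k5
  · exact k6
  · exact k7
  · exact k8

private noncomputable def _root_.Cfsg.Agent.GolayF.f1 : {f // @Cfsg.Agent.TAB.Sm2.chkQ = f} :=
  ⟨_, by delta Cfsg.Agent.H729.Trans.mk Cfsg.Agent.H729.Trans.mk._f Cfsg.Agent.H729.Trans.pre Cfsg.Agent.H729.Trans.srcOk Cfsg.Agent.H729.Trans.srcOk._f Cfsg.Agent.H729.Trans.wdOk Cfsg.Agent.TAB.Sm2.chkQ; rewrite [Cfsg.Agent.GolayF.isCode_eq, Cfsg.Agent.GolayF.ok_eq, Cfsg.Agent.GolayF.pw_eq, Cfsg.Agent.GolayF.tl_eq]; exact rfl⟩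

theorem q0 : chkQ [340831, 1] r5 r7 [(3, 0), (0, 0), (0, 7), (0, 2), (0, 4), (2, 0), (4, 0), (1, 0), (0, 5), (0, 3), (2, 3), (1, 4), (0, 1), (5, 0), (1, 7), (1, 6), (0, 6), (1, 5), (5, 1), (2, 1), (1, 1), (2, 2), (1, 2), (1, 3)]
    [(1, [1, 2, 3, 4, 6, 8, 9, 12, 13, 16, 18], []),
    (7, [5, 7, 10, 11, 14, 15, 17, 19, 20, 21, 22, 23], [[(0, 0), (0, 4), (1, 7), (1, 6), (1, 5), (1, 1), (1, 2), (1, 3)], [(0, 0), (0, 7), (1, 0), (0, 1), (1, 6), (0, 6), (1, 5), (1, 3)]]),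
    (5, [5, 7, 10, 11, 14, 15, 17, 19, 20, 21, 22, 23], [[(0, 7), (0, 2), (1, 6), (1, 5), (2, 1), (1, 1), (2, 2), (1, 3)]]),
    (0, [0], [[(3, 0), (0, 0), (0, 7), (0, 1), (1, 5), (2, 1), (1, 1), (1, 2)]]),
    (6, [1, 2, 3, 4, 6, 8, 9, 12, 13, 16, 18], [[(3, 0), (4, 0), (0, 1), (1, 6), (0, 6), (1, 5), (2, 1), (2, 2)]]),
    (13, [1, 2, 3, 4, 6, 8, 9, 12, 13, 16, 18], [[(3, 0), (0, 1), (1, 7), (0, 6), (1, 5), (5, 1), (1, 2), (1, 3)]])] = true := by (rewrite [Cfsg.Agent.GolayF.f1.2]; decide +kernel)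

theorem q1 : chkQ [340831, 1] r6 r8 [(2, 0), (0, 0), (0, 7), (0, 5), (0, 2), (1, 0), (0, 6), (1, 3), (0, 4), (0, 3), (1, 5), (3, 0), (0, 10), (0, 1), (1, 10), (1, 7), (0, 8), (1, 2), (0, 9), (1, 6), (1, 4), (1, 9), (1, 8), (1, 1)]
    [(1, [1, 2, 3, 4, 6, 8, 9, 12, 13, 16, 18], []),
    (5, [5, 7, 10, 11, 14, 15, 17, 19, 20, 21, 22, 23], [[(0, 0), (0, 10), (0, 1), (1, 10), (1, 7), (0, 8), (1, 6), (1, 8)]]),
    (0, [0], [[(2, 0), (0, 10), (1, 10), (0, 8), (1, 2), (0, 9), (1, 8), (1, 1)]]),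
    (11, [5, 7, 10, 11, 14, 15, 17, 19, 20, 21, 22, 23], [[(3, 0), (0, 1), (1, 7), (0, 8), (1, 2), (1, 9), (1, 8), (1, 1)]])] = true := by (rewrite [Cfsg.Agent.GolayF.f1.2]; decide +kernel)

theorem sq_eq : Spor.squareDodecad = fin 340831 := by decide +kernel

theorem sq_mem : fin 340831 ∈ dodecads := (fin_mem_dodecads_iff (by norm_num)).2 (by (rewrite [Cfsg.Agent.GolayF.isCode_eq, Cfsg.Agent.GolayF.popcount_eq]; decide +kernel))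

/-- the inclusion -/
def inc : Spor.M11 →* M24 where
  toFun g := ⟨(g : Equiv.Perm GolayPt), g.2.1.1⟩
  map_one' := rfl
  map_mul' _ _ := rfl

theorem inc_inj : Function.Injective inc := fun _ _ h =>
  Subtype.ext (congrArg (fun g : M24 => (g : Equiv.Perm GolayPt)) h)

theorem fixS (g : Spor.M11) : inc g • fin 340831 = fin 340831 := sq_eq ▸ g.2.1.2

theorem fin_one : fin 1 = {some 0} := by decide +kernel

theorem hS : ∀ S ∈ [340831, 1], ∀ g : Spor.M11, inc g • fin S = fin S := fun S hS g => by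
  simp only [List.mem_cons, List.not_mem_nil, or_false] at hS
  rcases hS with rfl | rfl
  · exact fixS g
  · have h : inc g • (some 0 : GolayPt) = some 0 := g.2.2
    rw [fin_one, Finset.smul_finset_singleton, h]

theorem hmem (y : M24) (h : ∀ S ∈ [340831, 1], y • fin S = fin S) : ∃ x : Spor.M11, inc x = y :=
  ⟨⟨y, ⟨y.2, by
    have h1 := h _ List.mem_cons_self
    rw [← sq_eq] at h1
    exact h1⟩, by
    have h1 := h 1 (by simp)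
    rw [fin_one, Finset.smul_finset_singleton, Finset.singleton_inj] at h1
    exact h1⟩, rfl⟩

theorem card_eq : Nat.card Spor.M11 = dat.N := by
  show _ = 7920
  rw [← S0387.result _ (sq_eq ▸ sq_mem : Spor.squareDodecad ∈ dodecads) (some 0) (by decide +kernel)]
  exact Nat.card_congr ⟨fun g => ⟨⟨g, g.2.1.1⟩, Subgroup.mem_inf.2 ⟨g.2.1.2, g.2.2⟩⟩,
    fun g => ⟨((g : M24) : Equiv.Perm GolayPt),
      ⟨⟨(g : M24).2, (Subgroup.mem_inf.1 g.2).1⟩, (Subgroup.mem_inf.1 g.2).2⟩⟩, fun _ => rfl, fun _ => rfl⟩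

theorem inv₁ : Inv inc (ptL 340831) := inv_ptL fixS

def tpL : List ℕ := [1, 2, 3, 4, 5, 6, 7, 6, 7]

def bxL : List (ℕ × ℕ) := [(0, 0), (0, 0), (1, 1), (2, 2), (3, 3), (4, 4), (5, 7), (6, 8)]

def prs : List (ℕ × ℕ) := [(5, 7), (6, 8)]

theorem reps : Reps inc 9 cf (fun i => (rc i).n) prs := by
  refine reps_of_srch inc_inj hS hmem rc hK fun p hp => ?_
  simp only [prs, List.mem_cons, List.not_mem_nil, or_false] at hp
  rcases hp with rfl | rfl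
  · exact ⟨by decide, by decide, _, _, q0⟩
  · exact ⟨by decide, by decide, _, _, q1⟩

private noncomputable def _root_.Cfsg.Agent.GolayF.f2 : {f // @Cfsg.Agent.TAB.Sm2.tyB = f} :=
  ⟨_, by delta Cfsg.Agent.H334.Ore.Mat.fc Cfsg.Agent.H729.MData.ppow Cfsg.Agent.H729.MData.ppow._f Cfsg.Agent.TAB.Sm2.cntF Cfsg.Agent.TAB.Sm2.tyB; rewrite [Cfsg.Agent.GolayF.pcomp_eq, Cfsg.Agent.GolayF.pimg_eq, Cfsg.Agent.GolayF.ok_eq, Cfsg.Agent.GolayF.pw_eq]; exact rfl⟩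

theorem t0 : allL (fun i => tyB (ptL 340831) [] dat (fun t => (nth v₁ t, nth v₂ t)) (cf i) (tpL.getD i 0))
    (List.range' 0 9) = true := by (rewrite [Cfsg.Agent.GolayF.f2.2]; decide +kernel)

theorem hT : ∀ i < 9, tyB (ptL 340831) [] dat (fun t => (nth v₁ t, nth v₂ t)) (cf i) (tpL.getD i 0) = true := by
  intro i hi
  exact forall_lt_of_allL t0 i (by omega) (by omega)

/-- the type function and the table -/
theorem tab : ∃ T : TD Spor.M11 dat, T.Mass ∧ Tab T (mkRows rA rB) ∧ ∀ t ∈ ([] : List ℕ), SigConj T t := by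
  obtain ⟨T, hm, h1, h2, h3, h4⟩ := exists_T (tp := fun i => tpL.getD i 0) (bx := fun t => bxL.getD t (0, 0))
    inc_inj inv₁ inv_nil (D := dat) card_eq (by decide +kernel) (by decide +kernel) (by decide +kernel) reps hT
    (by decide +kernel) (by decide +kernel) (by decide +kernel)
  refine ⟨T, hm, tab_of_rows hm h3 (virt_rows card_eq (fun sd hs => ?_) (by decide +kernel) hC)
    (by decide +kernel), fun t ht => ?_⟩
  · rw [List.mem_singleton.1 hs]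
    exact h1
  · exact absurd ht List.not_mem_nil

theorem van : VAN.Van3 Spor.M11 := by
  obtain ⟨T, hm, h, -⟩ := tab
  exact h.van3 (inh_of_mass hm (by decide +kernel)) card_eq [(2, 4), (3, 2), (5, 1), (11, 1)] (by decide +kernel) 1 4 7 (by decide +kernel)

theorem odd : OddRat Spor.M11 := by
  obtain ⟨T, hm, h, -⟩ := tab
  exact h.oddRat (inh_of_mass hm (by decide +kernel)) [] (by decide +kernel) (by decide +kernel)

theorem sig : OddSig Spor.M11 := by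
  obtain ⟨T, hm, h, h'⟩ := tab
  exact h.oddSig (inh_of_mass hm (by decide +kernel)) [] (by decide +kernel) _ h' (by decide +kernel)

theorem deg : DegList Spor.M11
    [1, 10, 11, 44, 45, 55, 10, 10, 16, 16] := by
  obtain ⟨T, hm, h, -⟩ := tab
  have h1 : (mkRows rA rB).deg = [1, 10, 11, 44, 45, 55, 10, 10, 16, 16] := by
    decide +kernel
  exact h1 ▸ h.degList

end Cfsg.Agent.TAB.Sm2.M11

private theorem dce_9e8b6e427e33 : _root_.True := by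
  try have : _root_.True := by simp only [_root_.Cfsg.Agent.TAB.Sm2.M11.prs.eq_1]
  try have : _root_.True := by simp only [_root_.Cfsg.Agent.TAB.Sm2.M11.cert.eq_1]
  exact _root_.True.intro
end

-- part: TAB/Sm2/M12
section
prune_inst 0x41240000000004000060001cc3e3000102000b00012144000004c10c4180400620b29002129980002c707ac0400000015900100000200086004119008004ab60e0a218bc04150006c0e805580c00000000000000000000000000000000000000000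
set_option linter.all false
open scoped Cfsg.Agent.FastGrp
private noncomputable def lq263f7eb8f7 {T : Sort _} (f :
    type_of% (@_root_.List.cons.{0}) →
    type_of% (@_root_.Prod.mk.{0, 0}) →
    type_of% (@_root_.List.nil.{0}) →
    type_of% (@_root_.List.cons.{0} (Nat)) →
    type_of% (@_root_.Cfsg.Agent.TAB.Eng.Op.lin) →
    type_of% (@_root_.Cfsg.Agent.TAB.Eng.Cert.mk) →
    type_of% (@_root_.Cfsg.Agent.TAB.Eng.Op.one) →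
    type_of% (@_root_.Cfsg.Agent.TAB.Eng.Op.gen) →
    type_of% (@_root_.Cfsg.Agent.TAB.Eng.Op.mul) →
    type_of% (@_root_.Cfsg.Agent.TAB.Sm2.chkQ) → T) : T :=
  f (@_root_.List.cons.{0}) (@_root_.Prod.mk.{0, 0}) (@_root_.List.nil.{0}) (@_root_.List.cons.{0} (Nat)) (@_root_.Cfsg.Agent.TAB.Eng.Op.lin) (@_root_.Cfsg.Agent.TAB.Eng.Cert.mk) (@_root_.Cfsg.Agent.TAB.Eng.Op.one) (@_root_.Cfsg.Agent.TAB.Eng.Op.gen) (@_root_.Cfsg.Agent.TAB.Eng.Op.mul) (@_root_.Cfsg.Agent.TAB.Sm2.chkQ)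

/-!
# The character table of `M12` (helper3, TAB)
-/

set_option autoImplicit false
set_option maxRecDepth 100000

namespace Cfsg.Agent.TAB.Sm2.M12

open Cfsg Cfsg.Agent.TAB.Eng Cfsg.Agent.TAB.Use
open Cfsg.Agent.SporadicA.GolayBase Cfsg.Agent.SporadicA.GolayPerm
open Cfsg.Agent.SporadicStructure.M24El Cfsg.Agent.H729.Trans Cfsg.Agent.H729.MData
open scoped Pointwise

def dat : Dat where
  n := 14
  N := 95040
  ordL := (beta% delta% lq263f7eb8f7 fun a _ c _ _ _ _ _ _ _ =>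
 (a 1<|a 2<|a 2<|a 3<|a 3<|a 4<|a 4<|a 5<|a 6<|a 6<|a 8<|a 8<|a 10<|a 11<|c))
  cntL := (beta% delta% lq263f7eb8f7 fun a _ c _ _ _ _ _ _ _ =>
 (a 1<|a 396<|a 495<|a 2640<|a 1760<|a 2970<|a 2970<|a 9504<|a 7920<|a 15840<|a 11880<|a 11880<|a 9504<|a 17280<|c))
  pwL := (beta% delta% lq263f7eb8f7 fun a b c _ _ _ _ _ _ _ =>
 (a c<|a (a (b 1 1)<|c)<|a (a (b 1 2)<|c)<|a (a (b 1 3)<|c)<|a (a (b 1 4)<|c)<|a (a (b 1 5)<|a (b 2 2)<|c)<|a (a (b 1 6)<|a (b 2 2)<|c)<|a (a (b 1 7)<|c)<|a (a (b 1 8)<|a (b 2 3)<|a (b 3 1)<|c)<|a (a (b 1 9)<|a (b 2 4)<|a (b 3 2)<|c)<|a (a (b 1 10)<|a (b 2 5)<|a (b 4 2)<|c)<|a (a (b 1 11)<|a (b 2 6)<|a (b 4 2)<|c)<|a (a (b 1 12)<|a (b 2 7)<|a (b 5 1)<|c)<|a (a (b 1 13)<|c)<|c))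

def v₁ : List ℤ := (beta% delta% lq263f7eb8f7 fun a _ c _ _ _ _ _ _ _ =>
 (a 12<|a 0<|a 4<|a 0<|a 3<|a 0<|a 4<|a 2<|a 0<|a 1<|a 0<|a 2<|a 0<|a 1<|c))

def v₂ : List ℤ := (beta% delta% lq263f7eb8f7 fun a _ c _ _ _ _ _ _ _ =>
 (a 132<|a 0<|a 20<|a 0<|a 6<|a 4<|a 4<|a 2<|a 0<|a 2<|a 0<|a 0<|a 0<|a 0<|c))

def rA : List (List ℤ) := (beta% delta% lq263f7eb8f7 fun a _ c _ _ _ _ _ _ _ =>
 (a (a 1<|a 1<|a 1<|a 1<|a 1<|a 1<|a 1<|a 1<|a 1<|a 1<|a 1<|a 1<|a 1<|a 1<|c)<|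
 a (a 11<|a (-1)<|a 3<|a (-1)<|a 2<|a (-1)<|a 3<|a 1<|a (-1)<|a 0<|a (-1)<|a 1<|a (-1)<|a 0<|c)<|
 a (a 11<|a (-1)<|a 3<|a (-1)<|a 2<|a 3<|a (-1)<|a 1<|a (-1)<|a 0<|a 1<|a (-1)<|a (-1)<|a 0<|c)<|
 a (a 45<|a 5<|a (-3)<|a 3<|a 0<|a 1<|a 1<|a 0<|a (-1)<|a 0<|a (-1)<|a (-1)<|a 0<|a 1<|c)<|
 a (a 54<|a 6<|a 6<|a 0<|a 0<|a 2<|a 2<|a (-1)<|a 0<|a 0<|a 0<|a 0<|a 1<|a (-1)<|c)<|
 a (a 55<|a (-5)<|a (-1)<|a 1<|a 1<|a (-1)<|a 3<|a 0<|a 1<|a (-1)<|a 1<|a (-1)<|a 0<|a 0<|c)<|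
 a (a 55<|a (-5)<|a (-1)<|a 1<|a 1<|a 3<|a (-1)<|a 0<|a 1<|a (-1)<|a (-1)<|a 1<|a 0<|a 0<|c)<|
 a (a 55<|a (-5)<|a 7<|a 1<|a 1<|a (-1)<|a (-1)<|a 0<|a 1<|a 1<|a (-1)<|a (-1)<|a 0<|a 0<|c)<|
 a (a 66<|a 6<|a 2<|a 0<|a 3<|a (-2)<|a (-2)<|a 1<|a 0<|a (-1)<|a 0<|a 0<|a 1<|a 0<|c)<|
 a (a 99<|a (-1)<|a 3<|a 3<|a 0<|a (-1)<|a (-1)<|a (-1)<|a (-1)<|a 0<|a 1<|a 1<|a (-1)<|a 0<|c)<|
 a (a 120<|a 0<|a (-8)<|a 0<|a 3<|a 0<|a 0<|a 0<|a 0<|a 1<|a 0<|a 0<|a 0<|a (-1)<|c)<|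
 a (a 144<|a 4<|a 0<|a (-3)<|a 0<|a 0<|a 0<|a (-1)<|a 1<|a 0<|a 0<|a 0<|a (-1)<|a 1<|c)<|
 a (a 176<|a (-4)<|a 0<|a (-1)<|a (-4)<|a 0<|a 0<|a 1<|a (-1)<|a 0<|a 0<|a 0<|a 1<|a 0<|c)<|c))

def rB : List (List ℤ) := (beta% delta% lq263f7eb8f7 fun a _ c _ _ _ _ _ _ _ =>
 (a (a 32<|a 8<|a 0<|a 2<|a (-4)<|a 0<|a 0<|a 2<|a 2<|a 0<|a 0<|a 0<|a (-2)<|a (-1)<|c)<|c))

def c2 : List Cert := (beta% delta% lq263f7eb8f7 fun a b c _ f g h j k _ =>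
 (a (g 0 (a h<|a (j 0 1 0)<|a (k 0 0)<|a (j 1 1 0)<|a (j 0 1 1)<|a (k 3 0)<|a (k 1 1)<|a (f (a (b 24 5)<|a (b 22 4)<|c))<|a (f (a (b 4 7)<|a (b 40 6)<|a (b 48 4)<|a (b 8 3)<|a (b 43 1)<|c))<|a (f (a (b 56 8)<|a (b 48 7)<|a (b 43 6)<|a (b 12 5)<|a (b 12 4)<|c))<|a (f (a (b 50 9)<|a (b 4 8)<|a (b 46 6)<|a (b 13 5)<|c))<|a (f (a (b 49 9)<|a (b 13 7)<|c))<|a (f (a (b 4 11)<|a (b 5 10)<|c))<|a (f (a (b 1 12)<|c))<|c) (a (b 0 1)<|a (b 1 4)<|a (b 2 8)<|a (b 3 4)<|a (b 4 16)<|a (b 5 4)<|a (b 6 8)<|c))<|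
 a (g 3 (a h<|a (j 0 3 0)<|a (f (a (b 4 1)<|a (b 5 0)<|c))<|a (f (a (b 1 2)<|c))<|c) (a (b 0 1)<|a (b 1 4)<|c))<|
 a (g 4 (a h<|a (j 0 1 0)<|a (f (a (b 35 1)<|a (b 31 0)<|c))<|a (f (a (b 1 2)<|c))<|c) (a (b 0 1)<|a (b 1 2)<|c))<|
 a (g 7 (a h<|a (j 0 1 0)<|a (f (a (b 2 1)<|a (b 31 0)<|c))<|a (f (a (b 1 2)<|c))<|c) (a (b 0 1)<|a (b 1 2)<|c))<|c))

def c3 : List Cert := (beta% delta% lq263f7eb8f7 fun a b c _ f g h j _ _ =>
 (a (g 0 (a h<|a (j 0 1 0)<|a (f (a (b 3 1)<|a (b 11 0)<|c))<|a (f (a (b 1 2)<|c))<|c) (a (b 0 1)<|a (b 1 3)<|c))<|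
 a (g 1 (a h<|a (j 0 2 0)<|a (f (a (b 3 1)<|a (b 11 0)<|c))<|a (f (a (b 1 2)<|c))<|c) (a (b 0 1)<|a (b 1 3)<|c))<|
 a (g 2 (a h<|a (j 0 1 0)<|a (f (a (b 13 1)<|a (b 17 0)<|c))<|a (f (a (b 1 2)<|c))<|c) (a (b 0 1)<|a (b 1 3)<|c))<|c))

def c5 : List Cert := (beta% delta% lq263f7eb8f7 fun a b c _ f g h _ _ _ =>
 (a (g 0 (a h<|a (f (a (b 1 0)<|c))<|c) (a (b 0 1)<|c))<|
 a (g 1 (a h<|a (f (a (b 1 0)<|c))<|c) (a (b 0 1)<|c))<|c))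

def c11 : List Cert := (beta% delta% lq263f7eb8f7 fun a b c _ f g h _ _ _ =>
 (a (g 0 (a h<|a (f (a (b 1 0)<|c))<|c) (a (b 0 1)<|c))<|c))

def cert : List (ℕ × ℕ × List Cert) := [(2, 6, c2), (3, 3, c3), (5, 1, c5), (11, 1, c11)]

theorem h2 : Eng.chkP dat 2 6 (2 ^ 6) [v₁, v₂] c2 (rA ++ rB) = true := by decide +kernel

theorem h3 : Eng.chkP dat 3 3 (3 ^ 3) [v₁, v₂] c3 (rA ++ rB) = true := by decide +kernel

theorem h5 : Eng.chkP dat 5 1 (5 ^ 1) [v₁, v₂] c5 (rA ++ rB) = true := by decide +kernel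

theorem h11 : Eng.chkP dat 11 1 (11 ^ 1) [v₁, v₂] c11 (rA ++ rB) = true := by decide +kernel

theorem hC : ∀ x ∈ cert, Eng.chkP dat x.1 x.2.1 (x.1 ^ x.2.1) [v₁, v₂] x.2.2 (rA ++ rB) = true := by
  intro x hx
  simp only [cert, List.mem_cons, List.not_mem_nil, or_false] at hx
  rcases hx with rfl | rfl | rfl | rfl
  · exact h2
  · exact h3
  · exact h5
  · exact h11

def r0 : Rc where
  p := 2
  c := 232973522026681028205297395523846274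
  wd := (beta% delta% lq263f7eb8f7 fun a b c _ _ _ _ _ _ _ =>
 (a (b 0 0)<|a (b 4 0)<|a (b 0 1)<|a (b 5 0)<|a (b 4 1)<|a (b 2 0)<|a (b 5 1)<|a (b 8 0)<|a (b 9 0)<|a (b 10 0)<|a (b 6 0)<|a (b 7 0)<|a (b 9 1)<|a (b 10 1)<|a (b 6 1)<|a (b 3 0)<|a (b 1 0)<|a (b 7 1)<|a (b 1 1)<|a (b 11 0)<|a (b 8 1)<|a (b 3 1)<|a (b 11 1)<|a (b 2 1)<|c))
  sts := (beta% delta% lq263f7eb8f7 fun a b c _ _ _ _ _ _ _ =>
 (a (b 0<|b (a 0<|c) c)<|
 a (b 16<|b (a 0<|a 1<|a 2<|a 3<|a 4<|a 6<|a 8<|a 9<|a 12<|a 13<|a 16<|a 18<|c) c)<|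
 a (b 5<|b (a 5<|a 7<|a 10<|a 11<|a 14<|a 15<|a 17<|a 19<|a 20<|a 21<|a 22<|a 23<|c) c)<|
 a (b 15<|b (a 5<|a 7<|a 10<|a 11<|a 14<|a 15<|a 17<|a 19<|a 20<|a 21<|a 22<|a 23<|c) (a (a (b 0 0)<|a (b 0 1)<|a (b 2 0)<|a (b 3 0)<|a (b 1 0)<|a (b 1 1)<|a (b 3 1)<|a (b 2 1)<|c)<|c))<|
 a (b 1<|b (a 0<|a 1<|a 2<|a 3<|a 4<|a 6<|a 8<|a 9<|a 12<|a 13<|a 16<|a 18<|c) c)<|
 a (b 3<|b (a 0<|a 1<|a 2<|a 3<|a 4<|a 6<|a 8<|a 9<|a 12<|a 13<|a 16<|a 18<|c) (a (a (b 4 0)<|a (b 0 1)<|a (b 5 0)<|a (b 4 1)<|a (b 5 1)<|a (b 3 0)<|a (b 1 1)<|a (b 2 1)<|c)<|c))<|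
 a (b 10<|b (a 5<|a 7<|a 10<|a 11<|a 14<|a 15<|a 17<|a 19<|a 20<|a 21<|a 22<|a 23<|c) (a (a (b 0 0)<|a (b 4 0)<|a (b 4 1)<|a (b 6 0)<|a (b 6 1)<|a (b 1 1)<|a (b 3 1)<|a (b 2 1)<|c)<|c))<|
 a (b 11<|b (a 5<|a 7<|a 10<|a 11<|a 14<|a 15<|a 17<|a 19<|a 20<|a 21<|a 22<|a 23<|c) (a (a (b 4 0)<|a (b 5 0)<|a (b 6 1)<|a (b 3 0)<|a (b 1 0)<|a (b 7 1)<|a (b 1 1)<|a (b 3 1)<|c)<|c))<|
 a (b 7<|b (a 5<|a 7<|a 10<|a 11<|a 14<|a 15<|a 17<|a 19<|a 20<|a 21<|a 22<|a 23<|c) (a (a (b 0 0)<|a (b 0 1)<|a (b 4 1)<|a (b 8 0)<|a (b 7 1)<|a (b 1 1)<|a (b 8 1)<|a (b 2 1)<|c)<|c))<|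
 a (b 8<|b (a 0<|a 1<|a 2<|a 3<|a 4<|a 6<|a 8<|a 9<|a 12<|a 13<|a 16<|a 18<|c) (a (a (b 0 0)<|a (b 4 0)<|a (b 4 1)<|a (b 9 1)<|a (b 3 0)<|a (b 1 0)<|a (b 1 1)<|a (b 8 1)<|c)<|c))<|
 a (b 9<|b (a 0<|a 1<|a 2<|a 3<|a 4<|a 6<|a 8<|a 9<|a 12<|a 13<|a 16<|a 18<|c) (a (a (b 0 0)<|a (b 0 1)<|a (b 10 1)<|a (b 6 1)<|a (b 3 0)<|a (b 1 0)<|a (b 7 1)<|a (b 8 1)<|c)<|c))<|
 a (b 19<|b (a 5<|a 7<|a 10<|a 11<|a 14<|a 15<|a 17<|a 19<|a 20<|a 21<|a 22<|a 23<|c) (a (a (b 0 0)<|a (b 9 1)<|a (b 6 1)<|a (b 1 0)<|a (b 7 1)<|a (b 1 1)<|a (b 11 1)<|a (b 2 1)<|c)<|c))<|c))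
  bs := [0]
  n := 240

def r1 : Rc where
  p := 2
  c := 984404615340628635531544718971832448
  wd := (beta% delta% lq263f7eb8f7 fun a b c _ _ _ _ _ _ _ =>
 (a (b 2 0)<|a (b 0 0)<|a (b 11 0)<|a (b 1 0)<|a (b 0 1)<|a (b 7 0)<|a (b 8 0)<|a (b 7 1)<|a (b 12 0)<|a (b 3 0)<|a (b 9 0)<|a (b 4 0)<|a (b 3 1)<|a (b 5 0)<|a (b 10 0)<|a (b 13 0)<|a (b 5 1)<|a (b 6 0)<|a (b 1 1)<|a (b 9 1)<|a (b 10 1)<|a (b 4 1)<|a (b 14 0)<|a (b 15 0)<|c))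
  sts := (beta% delta% lq263f7eb8f7 fun a b c _ _ _ _ _ _ _ =>
 (a (b 1<|b (a 1<|c) c)<|
 a (b 3<|b (a 3<|c) c)<|
 a (b 0<|b (a 0<|c) c)<|
 a (b 9<|b (a 0<|a 1<|a 2<|a 3<|a 4<|a 6<|a 8<|a 9<|a 12<|a 13<|a 16<|a 18<|c) c)<|
 a (b 11<|b (a 5<|a 7<|a 10<|a 11<|a 14<|a 15<|a 17<|a 19<|a 20<|a 21<|a 22<|a 23<|c) (a (a (b 0 0)<|a (b 1 0)<|a (b 0 1)<|a (b 3 0)<|a (b 4 0)<|a (b 3 1)<|a (b 1 1)<|a (b 4 1)<|c)<|c))<|
 a (b 13<|b (a 0<|a 1<|a 2<|a 3<|a 4<|a 6<|a 8<|a 9<|a 12<|a 13<|a 16<|a 18<|c) c)<|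
 a (b 17<|b (a 5<|a 7<|a 10<|a 11<|a 14<|a 15<|a 17<|a 19<|a 20<|a 21<|a 22<|a 23<|c) (a (a (b 2 0)<|a (b 0 1)<|a (b 3 0)<|a (b 5 0)<|a (b 5 1)<|a (b 6 0)<|a (b 1 1)<|a (b 4 1)<|c)<|c))<|
 a (b 5<|b (a 5<|a 7<|a 10<|a 11<|a 14<|a 15<|a 17<|a 19<|a 20<|a 21<|a 22<|a 23<|c) (a (a (b 2 0)<|a (b 0 0)<|a (b 7 0)<|a (b 7 1)<|a (b 3 1)<|a (b 6 0)<|a (b 1 1)<|a (b 4 1)<|c)<|c))<|
 a (b 6<|b (a 0<|a 1<|a 2<|a 3<|a 4<|a 6<|a 8<|a 9<|a 12<|a 13<|a 16<|a 18<|c) (a (a (b 2 0)<|a (b 0 0)<|a (b 1 0)<|a (b 0 1)<|a (b 7 0)<|a (b 8 0)<|a (b 5 1)<|a (b 4 1)<|c)<|c))<|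
 a (b 10<|b (a 5<|a 7<|a 10<|a 11<|a 14<|a 15<|a 17<|a 19<|a 20<|a 21<|a 22<|a 23<|c) (a (a (b 0 0)<|a (b 1 0)<|a (b 0 1)<|a (b 9 0)<|a (b 5 0)<|a (b 5 1)<|a (b 1 1)<|a (b 9 1)<|c)<|c))<|
 a (b 14<|b (a 5<|a 7<|a 10<|a 11<|a 14<|a 15<|a 17<|a 19<|a 20<|a 21<|a 22<|a 23<|c) (a (a (b 2 0)<|a (b 1 0)<|a (b 0 1)<|a (b 3 1)<|a (b 10 0)<|a (b 6 0)<|a (b 10 1)<|a (b 4 1)<|c)<|a (a (b 2 0)<|a (b 1 0)<|a (b 7 0)<|a (b 5 1)<|a (b 6 0)<|a (b 1 1)<|a (b 9 1)<|a (b 10 1)<|c)<|c))<|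
 a (b 2<|b (a 0<|a 1<|a 2<|a 3<|a 4<|a 6<|a 8<|a 9<|a 12<|a 13<|a 16<|a 18<|c) (a (a (b 2 0)<|a (b 0 0)<|a (b 11 0)<|a (b 1 0)<|a (b 5 0)<|a (b 1 1)<|a (b 10 1)<|a (b 4 1)<|c)<|c))<|
 a (b 8<|b (a 0<|a 1<|a 2<|a 3<|a 4<|a 6<|a 8<|a 9<|a 12<|a 13<|a 16<|a 18<|c) (a (a (b 2 0)<|a (b 11 0)<|a (b 12 0)<|a (b 10 0)<|a (b 6 0)<|a (b 1 1)<|a (b 9 1)<|a (b 4 1)<|c)<|c))<|
 a (b 15<|b (a 5<|a 7<|a 10<|a 11<|a 14<|a 15<|a 17<|a 19<|a 20<|a 21<|a 22<|a 23<|c) (a (a (b 2 0)<|a (b 11 0)<|a (b 5 0)<|a (b 10 0)<|a (b 13 0)<|a (b 5 1)<|a (b 6 0)<|a (b 10 1)<|c)<|c))<|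
 a (b 22<|b (a 5<|a 7<|a 10<|a 11<|a 14<|a 15<|a 17<|a 19<|a 20<|a 21<|a 22<|a 23<|c) (a (a (b 0 0)<|a (b 3 1)<|a (b 5 0)<|a (b 10 0)<|a (b 13 0)<|a (b 5 1)<|a (b 9 1)<|a (b 14 0)<|c)<|c))<|
 a (b 23<|b (a 5<|a 7<|a 10<|a 11<|a 14<|a 15<|a 17<|a 19<|a 20<|a 21<|a 22<|a 23<|c) (a (a (b 2 0)<|a (b 3 1)<|a (b 10 0)<|a (b 5 1)<|a (b 6 0)<|a (b 1 1)<|a (b 14 0)<|a (b 15 0)<|c)<|c))<|c))
  bs := [1, 3, 0]
  n := 192

def r2 : Rc where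
  p := 3
  c := 606416600436806193522739105874838738
  wd := (beta% delta% lq263f7eb8f7 fun a b c _ _ _ _ _ _ _ =>
 (a (b 0 0)<|a (b 1 0)<|a (b 1 2)<|a (b 4 0)<|a (b 0 2)<|a (b 5 0)<|a (b 1 1)<|a (b 5 1)<|a (b 4 1)<|a (b 2 0)<|a (b 6 0)<|a (b 7 0)<|a (b 2 2)<|a (b 2 1)<|a (b 3 0)<|a (b 6 1)<|a (b 4 2)<|a (b 3 1)<|a (b 0 1)<|a (b 7 2)<|a (b 6 2)<|a (b 5 2)<|a (b 7 1)<|a (b 3 2)<|c))
  sts := (beta% delta% lq263f7eb8f7 fun a b c _ _ _ _ _ _ _ =>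
 (a (b 0<|b (a 0<|c) c)<|
 a (b 1<|b (a 0<|a 1<|a 2<|a 3<|a 4<|a 6<|a 8<|a 9<|a 12<|a 13<|a 16<|a 18<|c) c)<|
 a (b 9<|b (a 0<|a 1<|a 2<|a 3<|a 4<|a 6<|a 8<|a 9<|a 12<|a 13<|a 16<|a 18<|c) c)<|
 a (b 14<|b (a 5<|a 7<|a 10<|a 11<|a 14<|a 15<|a 17<|a 19<|a 20<|a 21<|a 22<|a 23<|c) (a (a (b 1 0)<|a (b 1 2)<|a (b 0 2)<|a (b 2 2)<|a (b 2 1)<|a (b 3 0)<|a (b 3 1)<|a (b 0 1)<|c)<|c))<|
 a (b 3<|b (a 0<|a 1<|a 2<|a 3<|a 4<|a 6<|a 8<|a 9<|a 12<|a 13<|a 16<|a 18<|c) (a (a (b 1 2)<|a (b 4 0)<|a (b 4 1)<|a (b 2 1)<|a (b 4 2)<|a (b 3 1)<|a (b 0 1)<|a (b 3 2)<|c)<|c))<|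
 a (b 5<|b (a 5<|a 7<|a 10<|a 11<|a 14<|a 15<|a 17<|a 19<|a 20<|a 21<|a 22<|a 23<|c) (a (a (b 0 0)<|a (b 1 0)<|a (b 1 2)<|a (b 4 0)<|a (b 5 0)<|a (b 3 0)<|a (b 3 1)<|a (b 3 2)<|c)<|c))<|
 a (b 10<|b (a 5<|a 7<|a 10<|a 11<|a 14<|a 15<|a 17<|a 19<|a 20<|a 21<|a 22<|a 23<|c) (a (a (b 0 0)<|a (b 1 2)<|a (b 2 1)<|a (b 3 0)<|a (b 6 1)<|a (b 4 2)<|a (b 3 1)<|a (b 6 2)<|c)<|a (a (b 1 0)<|a (b 4 0)<|a (b 3 0)<|a (b 6 1)<|a (b 4 2)<|a (b 3 1)<|a (b 0 1)<|a (b 5 2)<|c)<|c))<|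
 a (b 11<|b (a 5<|a 7<|a 10<|a 11<|a 14<|a 15<|a 17<|a 19<|a 20<|a 21<|a 22<|a 23<|c) (a (a (b 0 0)<|a (b 2 2)<|a (b 3 0)<|a (b 4 2)<|a (b 3 1)<|a (b 0 1)<|a (b 7 1)<|a (b 3 2)<|c)<|c))<|c))
  bs := [0]
  n := 36

def r3 : Rc where
  p := 3
  c := 653796642825731244719993064590000140
  wd := (beta% delta% lq263f7eb8f7 fun a b c _ _ _ _ _ _ _ =>
 (a (b 0 0)<|a (b 0 2)<|a (b 1 0)<|a (b 6 0)<|a (b 2 0)<|a (b 3 0)<|a (b 7 0)<|a (b 3 1)<|a (b 2 2)<|a (b 1 2)<|a (b 4 0)<|a (b 4 1)<|a (b 0 1)<|a (b 2 1)<|a (b 8 0)<|a (b 5 0)<|a (b 1 1)<|a (b 3 2)<|a (b 9 0)<|a (b 10 0)<|a (b 4 2)<|a (b 11 0)<|a (b 5 1)<|a (b 5 2)<|c))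
  sts := (beta% delta% lq263f7eb8f7 fun a b c _ _ _ _ _ _ _ =>
 (a (b 0<|b (a 0<|c) c)<|
 a (b 2<|b (a 2<|c) c)<|
 a (b 4<|b (a 0<|a 1<|a 2<|a 3<|a 4<|a 6<|a 8<|a 9<|a 12<|a 13<|a 16<|a 18<|c) c)<|
 a (b 5<|b (a 5<|a 7<|a 10<|a 11<|a 14<|a 15<|a 17<|a 19<|a 20<|a 21<|a 22<|a 23<|c) (a (a (b 0 0)<|a (b 1 0)<|a (b 2 0)<|a (b 3 0)<|a (b 2 2)<|a (b 0 1)<|a (b 1 1)<|a (b 3 2)<|c)<|c))<|
 a (b 10<|b (a 5<|a 7<|a 10<|a 11<|a 14<|a 15<|a 17<|a 19<|a 20<|a 21<|a 22<|a 23<|c) (a (a (b 0 0)<|a (b 0 2)<|a (b 2 0)<|a (b 3 0)<|a (b 4 0)<|a (b 2 1)<|a (b 3 2)<|a (b 4 2)<|c)<|c))<|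
 a (b 15<|b (a 5<|a 7<|a 10<|a 11<|a 14<|a 15<|a 17<|a 19<|a 20<|a 21<|a 22<|a 23<|c) (a (a (b 0 0)<|a (b 0 2)<|a (b 1 0)<|a (b 2 0)<|a (b 2 1)<|a (b 1 1)<|a (b 5 1)<|a (b 5 2)<|c)<|c))<|
 a (b 3<|b (a 0<|a 1<|a 2<|a 3<|a 4<|a 6<|a 8<|a 9<|a 12<|a 13<|a 16<|a 18<|c) (a (a (b 0 2)<|a (b 6 0)<|a (b 3 0)<|a (b 2 1)<|a (b 5 0)<|a (b 1 1)<|a (b 4 2)<|a (b 5 2)<|c)<|c))<|
 a (b 6<|b (a 0<|a 1<|a 2<|a 3<|a 4<|a 6<|a 8<|a 9<|a 12<|a 13<|a 16<|a 18<|c) (a (a (b 0 0)<|a (b 1 0)<|a (b 6 0)<|a (b 7 0)<|a (b 0 1)<|a (b 1 1)<|a (b 4 2)<|a (b 5 2)<|c)<|c))<|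
 a (b 14<|b (a 5<|a 7<|a 10<|a 11<|a 14<|a 15<|a 17<|a 19<|a 20<|a 21<|a 22<|a 23<|c) (a (a (b 0 0)<|a (b 1 0)<|a (b 2 1)<|a (b 8 0)<|a (b 5 0)<|a (b 1 1)<|a (b 3 2)<|a (b 4 2)<|c)<|c))<|
 a (b 18<|b (a 0<|a 1<|a 2<|a 3<|a 4<|a 6<|a 8<|a 9<|a 12<|a 13<|a 16<|a 18<|c) (a (a (b 0 0)<|a (b 0 1)<|a (b 8 0)<|a (b 1 1)<|a (b 3 2)<|a (b 9 0)<|a (b 5 1)<|a (b 5 2)<|c)<|c))<|
 a (b 19<|b (a 5<|a 7<|a 10<|a 11<|a 14<|a 15<|a 17<|a 19<|a 20<|a 21<|a 22<|a 23<|c) (a (a (b 0 2)<|a (b 0 1)<|a (b 2 1)<|a (b 8 0)<|a (b 5 0)<|a (b 1 1)<|a (b 10 0)<|a (b 5 1)<|c)<|c))<|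
 a (b 21<|b (a 5<|a 7<|a 10<|a 11<|a 14<|a 15<|a 17<|a 19<|a 20<|a 21<|a 22<|a 23<|c) (a (a (b 6 0)<|a (b 0 1)<|a (b 2 1)<|a (b 3 2)<|a (b 9 0)<|a (b 10 0)<|a (b 11 0)<|a (b 5 1)<|c)<|c))<|c))
  bs := [0, 2]
  n := 54

def r4 : Rc where
  p := 4
  c := 978275997310813390594855344667823696
  wd := (beta% delta% lq263f7eb8f7 fun a b c _ _ _ _ _ _ _ =>
 (a (b 0 0)<|a (b 1 0)<|a (b 3 0)<|a (b 3 1)<|a (b 3 3)<|a (b 6 0)<|a (b 3 2)<|a (b 4 0)<|a (b 0 3)<|a (b 5 0)<|a (b 2 0)<|a (b 4 3)<|a (b 5 1)<|a (b 0 2)<|a (b 7 0)<|a (b 8 0)<|a (b 0 1)<|a (b 2 3)<|a (b 1 1)<|a (b 2 1)<|a (b 4 2)<|a (b 4 1)<|a (b 2 2)<|a (b 9 0)<|c))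
  sts := (beta% delta% lq263f7eb8f7 fun a b c _ _ _ _ _ _ _ =>
 (a (b 0<|b (a 0<|c) c)<|
 a (b 1<|b (a 1<|c) c)<|
 a (b 10<|b (a 5<|a 7<|a 10<|a 11<|a 14<|a 15<|a 17<|a 19<|a 20<|a 21<|a 22<|a 23<|c) (a (a (b 0 0)<|a (b 0 3)<|a (b 2 0)<|a (b 0 2)<|a (b 0 1)<|a (b 2 3)<|a (b 2 1)<|a (b 2 2)<|c)<|c))<|
 a (b 2<|b (a 0<|a 1<|a 2<|a 3<|a 4<|a 6<|a 8<|a 9<|a 12<|a 13<|a 16<|a 18<|c) (a (a (b 0 0)<|a (b 3 0)<|a (b 3 1)<|a (b 3 3)<|a (b 3 2)<|a (b 0 2)<|a (b 2 3)<|a (b 2 1)<|c)<|a (a (b 0 0)<|a (b 1 0)<|a (b 3 1)<|a (b 3 3)<|a (b 0 3)<|a (b 2 3)<|a (b 1 1)<|a (b 2 2)<|c)<|c))<|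
 a (b 7<|b (a 5<|a 7<|a 10<|a 11<|a 14<|a 15<|a 17<|a 19<|a 20<|a 21<|a 22<|a 23<|c) (a (a (b 0 0)<|a (b 1 0)<|a (b 3 0)<|a (b 3 1)<|a (b 0 2)<|a (b 1 1)<|a (b 4 2)<|a (b 4 1)<|c)<|c))<|
 a (b 9<|b (a 0<|a 1<|a 2<|a 3<|a 4<|a 6<|a 8<|a 9<|a 12<|a 13<|a 16<|a 18<|c) (a (a (b 0 0)<|a (b 1 0)<|a (b 3 0)<|a (b 5 1)<|a (b 2 3)<|a (b 2 1)<|a (b 4 2)<|a (b 2 2)<|c)<|c))<|
 a (b 5<|b (a 5<|a 7<|a 10<|a 11<|a 14<|a 15<|a 17<|a 19<|a 20<|a 21<|a 22<|a 23<|c) (a (a (b 0 0)<|a (b 6 0)<|a (b 5 1)<|a (b 0 2)<|a (b 0 1)<|a (b 4 2)<|a (b 4 1)<|a (b 2 2)<|c)<|c))<|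
 a (b 14<|b (a 5<|a 7<|a 10<|a 11<|a 14<|a 15<|a 17<|a 19<|a 20<|a 21<|a 22<|a 23<|c) (a (a (b 0 0)<|a (b 3 3)<|a (b 0 2)<|a (b 7 0)<|a (b 1 1)<|a (b 2 1)<|a (b 4 2)<|a (b 2 2)<|c)<|c))<|
 a (b 15<|b (a 5<|a 7<|a 10<|a 11<|a 14<|a 15<|a 17<|a 19<|a 20<|a 21<|a 22<|a 23<|c) (a (a (b 1 0)<|a (b 5 1)<|a (b 0 2)<|a (b 7 0)<|a (b 8 0)<|a (b 0 1)<|a (b 2 1)<|a (b 2 2)<|c)<|c))<|
 a (b 23<|b (a 5<|a 7<|a 10<|a 11<|a 14<|a 15<|a 17<|a 19<|a 20<|a 21<|a 22<|a 23<|c) (a (a (b 0 0)<|a (b 5 1)<|a (b 7 0)<|a (b 0 1)<|a (b 2 3)<|a (b 1 1)<|a (b 2 2)<|a (b 9 0)<|c)<|c))<|c))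
  bs := [0, 1]
  n := 32

def r5 : Rc where
  p := 4
  c := 475804665897442130522891683587459090
  wd := (beta% delta% lq263f7eb8f7 fun a b c _ _ _ _ _ _ _ =>
 (a (b 0 0)<|a (b 0 3)<|a (b 4 0)<|a (b 1 0)<|a (b 7 0)<|a (b 2 0)<|a (b 1 2)<|a (b 2 3)<|a (b 8 0)<|a (b 1 1)<|a (b 3 0)<|a (b 5 0)<|a (b 0 2)<|a (b 1 3)<|a (b 3 3)<|a (b 6 0)<|a (b 9 0)<|a (b 2 2)<|a (b 0 1)<|a (b 3 1)<|a (b 6 1)<|a (b 2 1)<|a (b 3 2)<|a (b 5 1)<|c))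
  sts := (beta% delta% lq263f7eb8f7 fun a b c _ _ _ _ _ _ _ =>
 (a (b 0<|b (a 0<|c) c)<|
 a (b 3<|b (a 0<|a 1<|a 2<|a 3<|a 4<|a 6<|a 8<|a 9<|a 12<|a 13<|a 16<|a 18<|c) c)<|
 a (b 5<|b (a 5<|a 7<|a 10<|a 11<|a 14<|a 15<|a 17<|a 19<|a 20<|a 21<|a 22<|a 23<|c) (a (a (b 0 0)<|a (b 0 3)<|a (b 2 0)<|a (b 2 3)<|a (b 0 2)<|a (b 2 2)<|a (b 0 1)<|a (b 2 1)<|c)<|a (a (b 0 3)<|a (b 1 0)<|a (b 2 0)<|a (b 1 2)<|a (b 1 1)<|a (b 1 3)<|a (b 2 2)<|a (b 0 1)<|c)<|c))<|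
 a (b 10<|b (a 5<|a 7<|a 10<|a 11<|a 14<|a 15<|a 17<|a 19<|a 20<|a 21<|a 22<|a 23<|c) (a (a (b 1 0)<|a (b 0 2)<|a (b 1 3)<|a (b 2 2)<|a (b 0 1)<|a (b 3 1)<|a (b 2 1)<|a (b 3 2)<|c)<|c))<|
 a (b 2<|b (a 2<|c) c)<|
 a (b 11<|b (a 5<|a 7<|a 10<|a 11<|a 14<|a 15<|a 17<|a 19<|a 20<|a 21<|a 22<|a 23<|c) (a (a (b 0 0)<|a (b 0 3)<|a (b 4 0)<|a (b 1 0)<|a (b 2 0)<|a (b 3 3)<|a (b 2 2)<|a (b 5 1)<|c)<|c))<|
 a (b 15<|b (a 5<|a 7<|a 10<|a 11<|a 14<|a 15<|a 17<|a 19<|a 20<|a 21<|a 22<|a 23<|c) (a (a (b 0 0)<|a (b 0 3)<|a (b 1 3)<|a (b 6 0)<|a (b 2 2)<|a (b 0 1)<|a (b 3 1)<|a (b 5 1)<|c)<|c))<|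
 a (b 4<|b (a 0<|a 1<|a 2<|a 3<|a 4<|a 6<|a 8<|a 9<|a 12<|a 13<|a 16<|a 18<|c) (a (a (b 0 0)<|a (b 7 0)<|a (b 1 3)<|a (b 3 3)<|a (b 0 1)<|a (b 3 1)<|a (b 6 1)<|a (b 3 2)<|c)<|c))<|
 a (b 8<|b (a 0<|a 1<|a 2<|a 3<|a 4<|a 6<|a 8<|a 9<|a 12<|a 13<|a 16<|a 18<|c) (a (a (b 0 3)<|a (b 8 0)<|a (b 0 2)<|a (b 3 3)<|a (b 0 1)<|a (b 6 1)<|a (b 2 1)<|a (b 3 2)<|c)<|c))<|
 a (b 16<|b (a 0<|a 1<|a 2<|a 3<|a 4<|a 6<|a 8<|a 9<|a 12<|a 13<|a 16<|a 18<|c) (a (a (b 0 0)<|a (b 0 2)<|a (b 3 3)<|a (b 9 0)<|a (b 2 2)<|a (b 0 1)<|a (b 3 2)<|a (b 5 1)<|c)<|c))<|c))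
  bs := [0, 2]
  n := 32

def r6 : Rc where
  p := 5
  c := 611705594954617926202833268491007554
  wd := (beta% delta% lq263f7eb8f7 fun a b c _ _ _ _ _ _ _ =>
 (a (b 0 0)<|a (b 1 0)<|a (b 0 1)<|a (b 4 0)<|a (b 1 2)<|a (b 5 0)<|a (b 1 3)<|a (b 2 0)<|a (b 1 4)<|a (b 0 3)<|a (b 6 0)<|a (b 2 1)<|a (b 7 0)<|a (b 0 2)<|a (b 3 0)<|a (b 2 3)<|a (b 0 4)<|a (b 2 2)<|a (b 1 1)<|a (b 3 1)<|a (b 3 2)<|a (b 2 4)<|a (b 3 3)<|a (b 3 4)<|c))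
  sts := (beta% delta% lq263f7eb8f7 fun a b c _ _ _ _ _ _ _ =>
 (a (b 0<|b (a 0<|c) c)<|
 a (b 1<|b (a 0<|a 1<|a 2<|a 3<|a 4<|a 6<|a 8<|a 9<|a 12<|a 13<|a 16<|a 18<|c) c)<|
 a (b 7<|b (a 5<|a 7<|a 10<|a 11<|a 14<|a 15<|a 17<|a 19<|a 20<|a 21<|a 22<|a 23<|c) (a (a (b 0 1)<|a (b 1 3)<|a (b 2 0)<|a (b 0 2)<|a (b 2 3)<|a (b 2 2)<|a (b 1 1)<|a (b 2 4)<|c)<|c))<|
 a (b 14<|b (a 5<|a 7<|a 10<|a 11<|a 14<|a 15<|a 17<|a 19<|a 20<|a 21<|a 22<|a 23<|c) (a (a (b 0 0)<|a (b 1 0)<|a (b 0 2)<|a (b 2 3)<|a (b 2 2)<|a (b 1 1)<|a (b 3 1)<|a (b 3 4)<|c)<|c))<|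
 a (b 3<|b (a 0<|a 1<|a 2<|a 3<|a 4<|a 6<|a 8<|a 9<|a 12<|a 13<|a 16<|a 18<|c) (a (a (b 0 0)<|a (b 4 0)<|a (b 0 2)<|a (b 3 0)<|a (b 0 4)<|a (b 3 1)<|a (b 2 4)<|a (b 3 4)<|c)<|c))<|
 a (b 5<|b (a 5<|a 7<|a 10<|a 11<|a 14<|a 15<|a 17<|a 19<|a 20<|a 21<|a 22<|a 23<|c) (a (a (b 5 0)<|a (b 0 2)<|a (b 3 0)<|a (b 2 2)<|a (b 1 1)<|a (b 3 2)<|a (b 2 4)<|a (b 3 4)<|c)<|c))<|
 a (b 10<|b (a 5<|a 7<|a 10<|a 11<|a 14<|a 15<|a 17<|a 19<|a 20<|a 21<|a 22<|a 23<|c) (a (a (b 0 0)<|a (b 6 0)<|a (b 2 3)<|a (b 2 2)<|a (b 1 1)<|a (b 3 2)<|a (b 2 4)<|a (b 3 3)<|c)<|c))<|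
 a (b 12<|b (a 0<|a 1<|a 2<|a 3<|a 4<|a 6<|a 8<|a 9<|a 12<|a 13<|a 16<|a 18<|c) (a (a (b 0 0)<|a (b 7 0)<|a (b 3 0)<|a (b 0 4)<|a (b 2 2)<|a (b 1 1)<|a (b 3 3)<|a (b 3 4)<|c)<|c))<|c))
  bs := [0]
  n := 10

def r7 : Rc where
  p := 6
  c := 440886958303998014228207400806580297
  wd := (beta% delta% lq263f7eb8f7 fun a b c _ _ _ _ _ _ _ =>
 (a (b 0 0)<|a (b 0 4)<|a (b 0 5)<|a (b 2 0)<|a (b 0 2)<|a (b 1 0)<|a (b 0 3)<|a (b 1 1)<|a (b 2 5)<|a (b 0 1)<|a (b 1 3)<|a (b 1 5)<|a (b 2 3)<|a (b 2 4)<|a (b 1 4)<|a (b 3 0)<|a (b 2 2)<|a (b 3 1)<|a (b 2 1)<|a (b 3 5)<|a (b 3 3)<|a (b 3 2)<|a (b 3 4)<|a (b 1 2)<|c))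
  sts := (beta% delta% lq263f7eb8f7 fun a b c _ _ _ _ _ _ _ =>
 (a (b 0<|b (a 0<|c) c)<|
 a (b 5<|b (a 5<|a 7<|a 10<|a 11<|a 14<|a 15<|a 17<|a 19<|a 20<|a 21<|a 22<|a 23<|c) (a (a (b 0 0)<|a (b 0 4)<|a (b 1 0)<|a (b 0 3)<|a (b 1 1)<|a (b 0 1)<|a (b 1 3)<|a (b 1 4)<|c)<|c))<|
 a (b 3<|b (a 0<|a 1<|a 2<|a 3<|a 4<|a 6<|a 8<|a 9<|a 12<|a 13<|a 16<|a 18<|c) (a (a (b 0 0)<|a (b 2 0)<|a (b 0 2)<|a (b 1 0)<|a (b 2 3)<|a (b 2 4)<|a (b 2 1)<|a (b 1 2)<|c)<|a (a (b 0 4)<|a (b 0 5)<|a (b 2 0)<|a (b 0 3)<|a (b 1 1)<|a (b 2 4)<|a (b 1 4)<|a (b 2 2)<|c)<|c))<|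
 a (b 15<|b (a 5<|a 7<|a 10<|a 11<|a 14<|a 15<|a 17<|a 19<|a 20<|a 21<|a 22<|a 23<|c) (a (a (b 0 0)<|a (b 2 3)<|a (b 1 4)<|a (b 2 2)<|a (b 3 1)<|a (b 2 1)<|a (b 3 4)<|a (b 1 2)<|c)<|a (a (b 0 4)<|a (b 2 3)<|a (b 2 4)<|a (b 1 4)<|a (b 3 0)<|a (b 2 2)<|a (b 3 5)<|a (b 3 4)<|c)<|a (a (b 0 5)<|a (b 2 3)<|a (b 2 4)<|a (b 3 0)<|a (b 2 1)<|a (b 3 3)<|a (b 3 4)<|a (b 1 2)<|c)<|c))<|c))
  bs := [0]
  n := 12

def r8 : Rc where
  p := 6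
  c := 612258285820134567494113635523431944
  wd := (beta% delta% lq263f7eb8f7 fun a b c _ _ _ _ _ _ _ =>
 (a (b 0 0)<|a (b 4 0)<|a (b 0 3)<|a (b 0 4)<|a (b 6 0)<|a (b 5 0)<|a (b 0 2)<|a (b 5 1)<|a (b 0 1)<|a (b 2 0)<|a (b 1 0)<|a (b 1 2)<|a (b 2 2)<|a (b 2 1)<|a (b 3 0)<|a (b 1 1)<|a (b 4 1)<|a (b 1 3)<|a (b 0 5)<|a (b 1 4)<|a (b 1 5)<|a (b 7 0)<|a (b 3 1)<|a (b 3 2)<|c))
  sts := (beta% delta% lq263f7eb8f7 fun a b c _ _ _ _ _ _ _ =>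
 (a (b 0<|b (a 0<|c) c)<|
 a (b 10<|b (a 5<|a 7<|a 10<|a 11<|a 14<|a 15<|a 17<|a 19<|a 20<|a 21<|a 22<|a 23<|c) (a (a (b 0 4)<|a (b 0 2)<|a (b 0 1)<|a (b 1 0)<|a (b 1 1)<|a (b 1 3)<|a (b 0 5)<|a (b 1 4)<|c)<|c))<|
 a (b 9<|b (a 0<|a 1<|a 2<|a 3<|a 4<|a 6<|a 8<|a 9<|a 12<|a 13<|a 16<|a 18<|c) (a (a (b 0 0)<|a (b 0 2)<|a (b 0 1)<|a (b 2 2)<|a (b 2 1)<|a (b 1 3)<|a (b 0 5)<|a (b 1 5)<|c)<|c))<|
 a (b 14<|b (a 5<|a 7<|a 10<|a 11<|a 14<|a 15<|a 17<|a 19<|a 20<|a 21<|a 22<|a 23<|c) (a (a (b 0 3)<|a (b 2 2)<|a (b 2 1)<|a (b 1 1)<|a (b 0 5)<|a (b 1 5)<|a (b 3 1)<|a (b 3 2)<|c)<|c))<|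
 a (b 1<|b (a 0<|a 1<|a 2<|a 3<|a 4<|a 6<|a 8<|a 9<|a 12<|a 13<|a 16<|a 18<|c) (a (a (b 0 0)<|a (b 2 2)<|a (b 3 0)<|a (b 4 1)<|a (b 1 3)<|a (b 0 5)<|a (b 3 1)<|a (b 3 2)<|c)<|c))<|
 a (b 5<|b (a 5<|a 7<|a 10<|a 11<|a 14<|a 15<|a 17<|a 19<|a 20<|a 21<|a 22<|a 23<|c) (a (a (b 0 4)<|a (b 5 0)<|a (b 2 2)<|a (b 3 0)<|a (b 1 4)<|a (b 1 5)<|a (b 3 1)<|a (b 3 2)<|c)<|c))<|
 a (b 4<|b (a 0<|a 1<|a 2<|a 3<|a 4<|a 6<|a 8<|a 9<|a 12<|a 13<|a 16<|a 18<|c) (a (a (b 6 0)<|a (b 2 2)<|a (b 2 1)<|a (b 4 1)<|a (b 1 3)<|a (b 1 4)<|a (b 1 5)<|a (b 3 2)<|c)<|c))<|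
 a (b 21<|b (a 5<|a 7<|a 10<|a 11<|a 14<|a 15<|a 17<|a 19<|a 20<|a 21<|a 22<|a 23<|c) (a (a (b 0 4)<|a (b 2 2)<|a (b 2 1)<|a (b 1 3)<|a (b 0 5)<|a (b 1 4)<|a (b 7 0)<|a (b 3 1)<|c)<|c))<|c))
  bs := [0]
  n := 6

def r9 : Rc where
  p := 8
  c := 808280301906253117497206241509982345
  wd := (beta% delta% lq263f7eb8f7 fun a b c _ _ _ _ _ _ _ =>
 (a (b 2 0)<|a (b 0 0)<|a (b 0 2)<|a (b 0 6)<|a (b 0 1)<|a (b 1 0)<|a (b 0 7)<|a (b 1 2)<|a (b 0 5)<|a (b 2 1)<|a (b 1 1)<|a (b 1 4)<|a (b 2 3)<|a (b 0 4)<|a (b 1 6)<|a (b 1 3)<|a (b 0 3)<|a (b 1 7)<|a (b 2 2)<|a (b 3 0)<|a (b 4 0)<|a (b 5 0)<|a (b 1 5)<|a (b 3 1)<|c))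
  sts := (beta% delta% lq263f7eb8f7 fun a b c _ _ _ _ _ _ _ =>
 (a (b 1<|b (a 1<|c) c)<|
 a (b 5<|b (a 5<|a 7<|a 10<|a 11<|a 14<|a 15<|a 17<|a 19<|a 20<|a 21<|a 22<|a 23<|c) (a (a (b 0 6)<|a (b 0 1)<|a (b 1 0)<|a (b 0 4)<|a (b 1 6)<|a (b 0 3)<|a (b 1 7)<|a (b 1 5)<|c)<|c))<|
 a (b 0<|b (a 0<|a 1<|a 2<|a 3<|a 4<|a 6<|a 8<|a 9<|a 12<|a 13<|a 16<|a 18<|c) (a (a (b 0 0)<|a (b 0 2)<|a (b 0 1)<|a (b 2 3)<|a (b 0 4)<|a (b 1 6)<|a (b 1 7)<|a (b 2 2)<|c)<|c))<|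
 a (b 19<|b (a 5<|a 7<|a 10<|a 11<|a 14<|a 15<|a 17<|a 19<|a 20<|a 21<|a 22<|a 23<|c) (a (a (b 2 0)<|a (b 2 3)<|a (b 1 6)<|a (b 0 3)<|a (b 1 7)<|a (b 2 2)<|a (b 1 5)<|a (b 3 1)<|c)<|c))<|
 a (b 20<|b (a 5<|a 7<|a 10<|a 11<|a 14<|a 15<|a 17<|a 19<|a 20<|a 21<|a 22<|a 23<|c) (a (a (b 0 2)<|a (b 2 3)<|a (b 0 4)<|a (b 1 3)<|a (b 2 2)<|a (b 4 0)<|a (b 1 5)<|a (b 3 1)<|c)<|c))<|
 a (b 21<|b (a 5<|a 7<|a 10<|a 11<|a 14<|a 15<|a 17<|a 19<|a 20<|a 21<|a 22<|a 23<|c) (a (a (b 0 6)<|a (b 2 3)<|a (b 0 4)<|a (b 1 7)<|a (b 2 2)<|a (b 3 0)<|a (b 5 0)<|a (b 1 5)<|c)<|c))<|c))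
  bs := [1]
  n := 8

def r10 : Rc where
  p := 8
  c := 887294099073346992471376840766931149
  wd := (beta% delta% lq263f7eb8f7 fun a b c _ _ _ _ _ _ _ =>
 (a (b 0 0)<|a (b 0 4)<|a (b 3 0)<|a (b 0 6)<|a (b 0 7)<|a (b 2 0)<|a (b 0 5)<|a (b 1 0)<|a (b 0 2)<|a (b 4 0)<|a (b 1 1)<|a (b 1 4)<|a (b 5 0)<|a (b 0 1)<|a (b 1 2)<|a (b 2 3)<|a (b 3 1)<|a (b 1 7)<|a (b 0 3)<|a (b 2 1)<|a (b 2 2)<|a (b 1 6)<|a (b 1 3)<|a (b 1 5)<|c))
  sts := (beta% delta% lq263f7eb8f7 fun a b c _ _ _ _ _ _ _ =>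
 (a (b 0<|b (a 0<|c) c)<|
 a (b 7<|b (a 5<|a 7<|a 10<|a 11<|a 14<|a 15<|a 17<|a 19<|a 20<|a 21<|a 22<|a 23<|c) (a (a (b 0 0)<|a (b 0 4)<|a (b 0 5)<|a (b 0 1)<|a (b 1 2)<|a (b 1 7)<|a (b 1 6)<|a (b 1 3)<|c)<|a (a (b 0 4)<|a (b 0 6)<|a (b 0 7)<|a (b 1 0)<|a (b 0 1)<|a (b 1 7)<|a (b 1 6)<|a (b 1 5)<|c)<|c))<|
 a (b 5<|b (a 5<|a 7<|a 10<|a 11<|a 14<|a 15<|a 17<|a 19<|a 20<|a 21<|a 22<|a 23<|c) (a (a (b 0 0)<|a (b 0 4)<|a (b 0 1)<|a (b 2 3)<|a (b 1 7)<|a (b 0 3)<|a (b 2 1)<|a (b 1 5)<|c)<|a (a (b 0 0)<|a (b 0 7)<|a (b 0 1)<|a (b 1 2)<|a (b 0 3)<|a (b 2 1)<|a (b 2 2)<|a (b 1 3)<|c)<|c))<|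
 a (b 2<|b (a 0<|a 1<|a 2<|a 3<|a 4<|a 6<|a 8<|a 9<|a 12<|a 13<|a 16<|a 18<|c) (a (a (b 0 0)<|a (b 3 0)<|a (b 0 1)<|a (b 1 2)<|a (b 2 3)<|a (b 3 1)<|a (b 1 7)<|a (b 2 2)<|c)<|a (a (b 0 0)<|a (b 0 6)<|a (b 0 1)<|a (b 1 2)<|a (b 3 1)<|a (b 2 1)<|a (b 1 6)<|a (b 1 5)<|c)<|c))<|
 a (b 9<|b (a 0<|a 1<|a 2<|a 3<|a 4<|a 6<|a 8<|a 9<|a 12<|a 13<|a 16<|a 18<|c) (a (a (b 4 0)<|a (b 1 2)<|a (b 3 1)<|a (b 1 7)<|a (b 2 1)<|a (b 2 2)<|a (b 1 6)<|a (b 1 3)<|c)<|c))<|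
 a (b 12<|b (a 0<|a 1<|a 2<|a 3<|a 4<|a 6<|a 8<|a 9<|a 12<|a 13<|a 16<|a 18<|c) (a (a (b 0 0)<|a (b 5 0)<|a (b 1 2)<|a (b 3 1)<|a (b 1 7)<|a (b 0 3)<|a (b 1 3)<|a (b 1 5)<|c)<|c))<|c))
  bs := [0]
  n := 8

def r11 : Rc where
  p := 10
  c := 487355407008968297723845245838334061
  wd := (beta% delta% lq263f7eb8f7 fun a b c _ _ _ _ _ _ _ =>
 (a (b 0 0)<|a (b 2 0)<|a (b 0 8)<|a (b 2 1)<|a (b 0 3)<|a (b 1 0)<|a (b 0 9)<|a (b 1 9)<|a (b 0 5)<|a (b 0 4)<|a (b 1 5)<|a (b 1 4)<|a (b 0 6)<|a (b 0 1)<|a (b 3 0)<|a (b 1 1)<|a (b 0 2)<|a (b 1 6)<|a (b 0 7)<|a (b 1 7)<|a (b 1 8)<|a (b 3 1)<|a (b 1 2)<|a (b 1 3)<|c))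
  sts := (beta% delta% lq263f7eb8f7 fun a b c _ _ _ _ _ _ _ =>
 (a (b 0<|b (a 0<|c) c)<|
 a (b 5<|b (a 5<|a 7<|a 10<|a 11<|a 14<|a 15<|a 17<|a 19<|a 20<|a 21<|a 22<|a 23<|c) (a (a (b 0 8)<|a (b 0 6)<|a (b 0 1)<|a (b 1 1)<|a (b 0 7)<|a (b 1 8)<|a (b 1 2)<|a (b 1 3)<|c)<|c))<|
 a (b 1<|b (a 0<|a 1<|a 2<|a 3<|a 4<|a 6<|a 8<|a 9<|a 12<|a 13<|a 16<|a 18<|c) (a (a (b 0 0)<|a (b 2 0)<|a (b 0 1)<|a (b 1 1)<|a (b 1 6)<|a (b 0 7)<|a (b 1 7)<|a (b 1 3)<|c)<|c))<|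
 a (b 14<|b (a 5<|a 7<|a 10<|a 11<|a 14<|a 15<|a 17<|a 19<|a 20<|a 21<|a 22<|a 23<|c) (a (a (b 0 0)<|a (b 0 6)<|a (b 3 0)<|a (b 0 2)<|a (b 1 6)<|a (b 0 7)<|a (b 1 2)<|a (b 1 3)<|c)<|c))<|c))
  bs := [0]
  n := 10

def r12 : Rc where
  p := 11
  c := 928547313600734290544751504697593122
  wd := (beta% delta% lq263f7eb8f7 fun a b c _ _ _ _ _ _ _ =>
 (a (b 0 0)<|a (b 0 8)<|a (b 0 1)<|a (b 0 2)<|a (b 0 4)<|a (b 1 0)<|a (b 0 5)<|a (b 1 8)<|a (b 0 3)<|a (b 0 9)<|a (b 1 3)<|a (b 1 7)<|a (b 0 6)<|a (b 0 7)<|a (b 1 10)<|a (b 1 4)<|a (b 0 10)<|a (b 2 0)<|a (b 3 0)<|a (b 1 1)<|a (b 1 9)<|a (b 1 2)<|a (b 1 6)<|a (b 1 5)<|c))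
  sts := (beta% delta% lq263f7eb8f7 fun a b c _ _ _ _ _ _ _ =>
 (a (b 0<|b (a 0<|c) c)<|
 a (b 5<|b (a 5<|a 7<|a 10<|a 11<|a 14<|a 15<|a 17<|a 19<|a 20<|a 21<|a 22<|a 23<|c) (a (a (b 0 8)<|a (b 0 6)<|a (b 0 7)<|a (b 1 10)<|a (b 1 4)<|a (b 0 10)<|a (b 1 1)<|a (b 1 6)<|c)<|c))<|
 a (b 17<|b (a 5<|a 7<|a 10<|a 11<|a 14<|a 15<|a 17<|a 19<|a 20<|a 21<|a 22<|a 23<|c) (a (a (b 0 0)<|a (b 0 1)<|a (b 0 7)<|a (b 1 10)<|a (b 1 4)<|a (b 0 10)<|a (b 2 0)<|a (b 1 9)<|c)<|c))<|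
 a (b 18<|b (a 0<|a 1<|a 2<|a 3<|a 4<|a 6<|a 8<|a 9<|a 12<|a 13<|a 16<|a 18<|c) (a (a (b 0 0)<|a (b 0 6)<|a (b 1 10)<|a (b 0 10)<|a (b 2 0)<|a (b 3 0)<|a (b 1 6)<|a (b 1 5)<|c)<|c))<|c))
  bs := [0]
  n := 11

def r13 : Rc where
  p := 11
  c := 466623872679272148571030642665595395
  wd := (beta% delta% lq263f7eb8f7 fun a b c _ _ _ _ _ _ _ =>
 (a (b 0 0)<|a (b 0 4)<|a (b 0 6)<|a (b 0 1)<|a (b 0 2)<|a (b 1 0)<|a (b 0 8)<|a (b 1 4)<|a (b 0 7)<|a (b 0 10)<|a (b 1 7)<|a (b 1 9)<|a (b 0 3)<|a (b 0 9)<|a (b 1 5)<|a (b 1 2)<|a (b 0 5)<|a (b 2 0)<|a (b 3 0)<|a (b 1 6)<|a (b 1 10)<|a (b 1 1)<|a (b 1 3)<|a (b 1 8)<|c))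
  sts := (beta% delta% lq263f7eb8f7 fun a b c _ _ _ _ _ _ _ =>
 (a (b 0<|b (a 0<|c) c)<|
 a (b 5<|b (a 5<|a 7<|a 10<|a 11<|a 14<|a 15<|a 17<|a 19<|a 20<|a 21<|a 22<|a 23<|c) (a (a (b 0 4)<|a (b 0 3)<|a (b 0 9)<|a (b 1 5)<|a (b 1 2)<|a (b 0 5)<|a (b 1 6)<|a (b 1 3)<|c)<|c))<|
 a (b 17<|b (a 5<|a 7<|a 10<|a 11<|a 14<|a 15<|a 17<|a 19<|a 20<|a 21<|a 22<|a 23<|c) (a (a (b 0 0)<|a (b 0 6)<|a (b 0 9)<|a (b 1 5)<|a (b 1 2)<|a (b 0 5)<|a (b 2 0)<|a (b 1 10)<|c)<|c))<|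
 a (b 18<|b (a 0<|a 1<|a 2<|a 3<|a 4<|a 6<|a 8<|a 9<|a 12<|a 13<|a 16<|a 18<|c) (a (a (b 0 0)<|a (b 0 3)<|a (b 1 5)<|a (b 0 5)<|a (b 2 0)<|a (b 3 0)<|a (b 1 3)<|a (b 1 8)<|c)<|c))<|c))
  bs := [0]
  n := 11

/-- the classes -/
def rc (i : ℕ) : Rc := (beta% delta% lq263f7eb8f7 fun a _ c _ _ _ _ _ _ _ =>
 (a r0<|a r1<|a r2<|a r3<|a r4<|a r5<|a r6<|a r7<|a r8<|a r9<|a r10<|a r11<|a r12<|a r13<|c).getD i r0)

/-- the representatives -/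
abbrev cf (i : ℕ) : ℕ := (rc i).c

private noncomputable def _root_.Cfsg.Agent.GolayF.f0_v3 : {f // @Cfsg.Agent.TAB.Sm2.chkR = f} :=
  ⟨_, by delta Cfsg.Agent.H334.Ore.Mat.cA Cfsg.Agent.H729.Trans.mk Cfsg.Agent.H729.Trans.mk._f Cfsg.Agent.H729.Trans.pre Cfsg.Agent.H729.Trans.srcOk Cfsg.Agent.H729.Trans.srcOk._f Cfsg.Agent.H729.Trans.wdOk Cfsg.Agent.TAB.Sm2.chkR Cfsg.Agent.TAB.Sm2.fibB Cfsg.Agent.TAB.Sm2.fibB._f Cfsg.Agent.TAB.Sm2.fibN Cfsg.Agent.TAB.Sm2.fibN._f; rewrite [Cfsg.Agent.GolayF.pimg_eq, Cfsg.Agent.GolayF.isCode_eq, Cfsg.Agent.GolayF.ok_eq, Cfsg.Agent.GolayF.pw_eq, Cfsg.Agent.GolayF.tl_eq]; exact rfl⟩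

theorem k0 : chkR [340831] r0 = true := by (rewrite [Cfsg.Agent.GolayF.f0_v3.2]; decide +kernel)

theorem k1 : chkR [340831] r1 = true := by (rewrite [Cfsg.Agent.GolayF.f0_v3.2]; decide +kernel)

theorem k2 : chkR [340831] r2 = true := by (rewrite [Cfsg.Agent.GolayF.f0_v3.2]; decide +kernel)

theorem k3 : chkR [340831] r3 = true := by (rewrite [Cfsg.Agent.GolayF.f0_v3.2]; decide +kernel)

theorem k4 : chkR [340831] r4 = true := by (rewrite [Cfsg.Agent.GolayF.f0_v3.2]; decide +kernel)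

theorem k5 : chkR [340831] r5 = true := by (rewrite [Cfsg.Agent.GolayF.f0_v3.2]; decide +kernel)

theorem k6 : chkR [340831] r6 = true := by (rewrite [Cfsg.Agent.GolayF.f0_v3.2]; decide +kernel)

theorem k7 : chkR [340831] r7 = true := by (rewrite [Cfsg.Agent.GolayF.f0_v3.2]; decide +kernel)

theorem k8 : chkR [340831] r8 = true := by (rewrite [Cfsg.Agent.GolayF.f0_v3.2]; decide +kernel)

theorem k9 : chkR [340831] r9 = true := by (rewrite [Cfsg.Agent.GolayF.f0_v3.2]; decide +kernel)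

theorem k10 : chkR [340831] r10 = true := by (rewrite [Cfsg.Agent.GolayF.f0_v3.2]; decide +kernel)

theorem k11 : chkR [340831] r11 = true := by (rewrite [Cfsg.Agent.GolayF.f0_v3.2]; decide +kernel)

theorem k12 : chkR [340831] r12 = true := by (rewrite [Cfsg.Agent.GolayF.f0_v3.2]; decide +kernel)

theorem k13 : chkR [340831] r13 = true := by (rewrite [Cfsg.Agent.GolayF.f0_v3.2]; decide +kernel)

theorem hK : ∀ i < 14, chkR [340831] (rc i) = true := by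
  intro i hi
  interval_cases i
  · exact k0
  · exact k1
  · exact k2
  · exact k3
  · exact k4
  · exact k5
  · exact k6
  · exact k7
  · exact k8
  · exact k9
  · exact k10
  · exact k11
  · exact k12
  · exact k13

private noncomputable def _root_.Cfsg.Agent.GolayF.f1_v3 : {f // @Cfsg.Agent.TAB.Sm2.chkQ = f} :=
  ⟨_, by delta Cfsg.Agent.H729.Trans.mk Cfsg.Agent.H729.Trans.mk._f Cfsg.Agent.H729.Trans.pre Cfsg.Agent.H729.Trans.srcOk Cfsg.Agent.H729.Trans.srcOk._f Cfsg.Agent.H729.Trans.wdOk Cfsg.Agent.TAB.Sm2.chkQ; rewrite [Cfsg.Agent.GolayF.isCode_eq, Cfsg.Agent.GolayF.ok_eq, Cfsg.Agent.GolayF.pw_eq, Cfsg.Agent.GolayF.tl_eq]; exact rfl⟩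

theorem q0 : (beta% delta% lq263f7eb8f7 fun a b c _ _ _ _ _ _ l =>
 l (a 340831<|c) r12 r13 (a (b 0 0)<|a (b 0 8)<|a (b 0 1)<|a (b 0 2)<|a (b 0 4)<|a (b 1 0)<|a (b 0 5)<|a (b 1 8)<|a (b 0 3)<|a (b 0 9)<|a (b 1 3)<|a (b 1 7)<|a (b 0 6)<|a (b 0 7)<|a (b 1 10)<|a (b 1 4)<|a (b 0 10)<|a (b 2 0)<|a (b 3 0)<|a (b 1 1)<|a (b 1 9)<|a (b 1 2)<|a (b 1 6)<|a (b 1 5)<|c)
 (a (b 0<|b (a 0<|a 1<|a 2<|a 3<|a 4<|a 6<|a 8<|a 9<|a 12<|a 13<|a 16<|a 18<|c) c)<|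
 a (b 5<|b (a 5<|a 7<|a 10<|a 11<|a 14<|a 15<|a 17<|a 19<|a 20<|a 21<|a 22<|a 23<|c) (a (a (b 0 8)<|a (b 0 6)<|a (b 0 7)<|a (b 1 10)<|a (b 1 4)<|a (b 0 10)<|a (b 1 1)<|a (b 1 6)<|c)<|c))<|
 a (b 17<|b (a 5<|a 7<|a 10<|a 11<|a 14<|a 15<|a 17<|a 19<|a 20<|a 21<|a 22<|a 23<|c) (a (a (b 0 0)<|a (b 0 1)<|a (b 0 7)<|a (b 1 10)<|a (b 1 4)<|a (b 0 10)<|a (b 2 0)<|a (b 1 9)<|c)<|c))<|
 a (b 18<|b (a 0<|a 1<|a 2<|a 3<|a 4<|a 6<|a 8<|a 9<|a 12<|a 13<|a 16<|a 18<|c) (a (a (b 0 0)<|a (b 0 6)<|a (b 1 10)<|a (b 0 10)<|a (b 2 0)<|a (b 3 0)<|a (b 1 6)<|a (b 1 5)<|c)<|c))<|c) :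
 Bool) = true := by (rewrite [Cfsg.Agent.GolayF.f1_v3.2]; decide +kernel)

theorem sq_eq : Spor.squareDodecad = fin 340831 := by decide +kernel

theorem sq_mem : fin 340831 ∈ dodecads := (fin_mem_dodecads_iff (by norm_num)).2 (by (rewrite [Cfsg.Agent.GolayF.isCode_eq, Cfsg.Agent.GolayF.popcount_eq]; decide +kernel))

/-- the inclusion -/
def inc : Spor.M12 →* M24 where
  toFun g := ⟨(g : Equiv.Perm GolayPt), g.2.1⟩
  map_one' := rfl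
  map_mul' _ _ := rfl

theorem inc_inj : Function.Injective inc := fun _ _ h =>
  Subtype.ext (congrArg (fun g : M24 => (g : Equiv.Perm GolayPt)) h)

theorem fixS (g : Spor.M12) : inc g • fin 340831 = fin 340831 := sq_eq ▸ g.2.2

theorem hS : ∀ S ∈ [340831], ∀ g : Spor.M12, inc g • fin S = fin S := fun S hS g => by
  rw [List.mem_singleton.1 hS]
  exact fixS g

theorem hmem (y : M24) (h : ∀ S ∈ [340831], y • fin S = fin S) : ∃ x : Spor.M12, inc x = y :=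
  ⟨⟨y, y.2, by
    have h1 := h _ List.mem_cons_self
    rw [← sq_eq] at h1
    exact h1⟩, rfl⟩

theorem card_eq : Nat.card Spor.M12 = dat.N := by
  show _ = 95040
  rw [← S0382.result _ (sq_eq ▸ sq_mem : Spor.squareDodecad ∈ dodecads)]
  exact Nat.card_congr ⟨fun g => ⟨⟨g, g.2.1⟩, g.2.2⟩,
    fun g => ⟨((g : M24) : Equiv.Perm GolayPt), ⟨(g : M24).2, g.2⟩⟩, fun _ => rfl, fun _ => rfl⟩

def l₂ : List ℕ := (beta% delta% lq263f7eb8f7 fun a _ c d _ _ _ _ _ _ =>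
 (let e:=(let e:=(let e:=(let e:=(let e:=(d 31554<|d 396116<|d 72588<|d 277580<|d 69395<|c);
 (d 4196943<|d 8464984<|d 334433<|
 d 797449<|e));
 (let e:=(d 39257<|d 371206<|d 1063445<|d 2365978<|e);
 (d 4536592<|d 10558<|d 2173253<|d 1378634<|e)));
 (let e:=(let e:=(d 346141<|
 d 596054<|d 272595<|d 8657159<|e);
 (d 145176<|d 530245<|d 337856<|d 210955<|e));
 (let e:=(d 104010<|d 2106966<|d 1312345<|d 280334<|e);
 (d 267634<|d 4470275<|d 8721940<|d 75309<|e))));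
 (let e:=(let e:=(let e:=(d 1127686<|d 2430217<|d 304405<|d 8398155<|
 d 4261212<|e);
 (d 861210<|d 459847<|d 95313<|d 5279<|e));
 (let e:=(d 4203377<|d 140167<|d 283537<|d 525274<|e);
 (d 213833<|d 1090380<|
 d 3216208<|d 8455014<|e)));
 (let e:=(let e:=(d 1053483<|d 361272<|d 2392899<|d 12849992<|e);
 (d 615188<|d 4231958<|d 10486557<|d 2372388<|e));
 (let e:=(d 987906<|d 5571333<|d 6365962<|d 9708306<|e);
 (d 1315526<|d 2110153<|d 99029<|d 8499969<|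
 e)))));
 (let e:=(let e:=(let e:=(let e:=(d 402026<|d 21116<|d 8716939<|d 4465308<|d 78514<|e);
 (d 2949708<|d 832080<|d 4538962<|d 8524371<|e));
 (let e:=(d 786999<|d 1647171<|d 4403780<|
 d 8675909<|e);
 (d 2564625<|d 4788761<|d 57883<|d 1245726<|e)));
 (let e:=(let e:=(d 2183687<|d 1405448<|d 430605<|d 8925710<|e);
 (d 1122713<|
 d 4264387<|d 8401364<|d 262637<|e));
 (let e:=(d 2384216<|d 602472<|d 307594<|d 2425238<|e);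
 (d 2232654<|d 9240913<|d 237906<|d 1065303<|e))));
 (let e:=(let e:=(let e:=(d 352547<|d 201013<|d 1454401<|d 381252<|d 4989254<|e);
 (d 2634003<|d 8474906<|d 4587803<|d 1839388<|
 e));
 (let e:=(d 463064<|d 8855820<|d 4223245<|d 622863<|e);
 (d 1384564<|d 2162811<|d 864389<|d 90318<|e)));
 (let e:=(let e:=(d 5255258<|d 663645<|
 d 8683614<|d 45159<|e);
 (d 4563017<|d 806987<|d 9506893<|d 6557781<|e));
 (let e:=(d 2207772<|d 4526126<|d 8663097<|d 10825794<|e);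
 (a 3416079<|a 1413139<|a 421910<|a 12656663<|e)))))))

private noncomputable def _root_.Cfsg.Agent.GolayF.f2_v3 : {f // @Cfsg.Agent.TAB.Sm2.cwL = f} :=
  ⟨_, by delta Cfsg.Agent.TAB.Sm2.cwL; rewrite [Cfsg.Agent.GolayF.enc_eq, Cfsg.Agent.GolayF.popcount_eq]; exact rfl⟩

theorem l₂_eq : cwL 8 340831 6 = l₂ := by (rewrite [Cfsg.Agent.GolayF.f2_v3.2]; decide +kernel)

theorem inv₂ : Inv inc l₂ := l₂_eq ▸ inv_cwL fixS

theorem inv₁ : Inv inc (ptL 340831) := inv_ptL fixS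

def tpL : List ℕ := (beta% delta% lq263f7eb8f7 fun a _ c _ _ _ _ _ _ _ =>
 (a 1<|a 2<|a 3<|a 4<|a 5<|a 6<|a 7<|a 8<|a 9<|a 10<|a 11<|a 12<|a 13<|a 13<|c))

def bxL : List (ℕ × ℕ) := (beta% delta% lq263f7eb8f7 fun a b c _ _ _ _ _ _ _ =>
 (a (b 0 0)<|a (b 0 0)<|a (b 1 1)<|a (b 2 2)<|a (b 3 3)<|a (b 4 4)<|a (b 5 5)<|a (b 6 6)<|a (b 7 7)<|a (b 8 8)<|a (b 9 9)<|a (b 10 10)<|a (b 11 11)<|a (b 12 13)<|c))

def prs : List (ℕ × ℕ) := [(12, 13)]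

theorem reps : Reps inc 14 cf (fun i => (rc i).n) prs := by
  refine reps_of_srch inc_inj hS hmem rc hK fun p hp => ?_
  simp only [prs, List.mem_cons, List.not_mem_nil, or_false] at hp
  subst hp
  exact ⟨by decide, by decide, _, _, q0⟩

private noncomputable def _root_.Cfsg.Agent.GolayF.f3 : {f // @Cfsg.Agent.TAB.Sm2.tyB = f} :=
  ⟨_, by delta Cfsg.Agent.H334.Ore.Mat.fc Cfsg.Agent.H729.MData.ppow Cfsg.Agent.H729.MData.ppow._f Cfsg.Agent.TAB.Sm2.cntF Cfsg.Agent.TAB.Sm2.tyB; rewrite [Cfsg.Agent.GolayF.pcomp_eq, Cfsg.Agent.GolayF.pimg_eq, Cfsg.Agent.GolayF.ok_eq, Cfsg.Agent.GolayF.pw_eq]; exact rfl⟩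

theorem t0 : allL (fun i => tyB (ptL 340831) l₂ dat (fun t => (nth v₁ t, nth v₂ t)) (cf i) (tpL.getD i 0))
    (List.range' 0 14) = true := by (rewrite [Cfsg.Agent.GolayF.f3.2]; decide +kernel)

theorem hT : ∀ i < 14, tyB (ptL 340831) l₂ dat (fun t => (nth v₁ t, nth v₂ t)) (cf i) (tpL.getD i 0) = true := by
  intro i hi
  exact forall_lt_of_allL t0 i (by omega) (by omega)

/-- the type function and the table -/
theorem tab : ∃ T : TD Spor.M12 dat, T.Mass ∧ Tab T (mkRows rA rB) ∧ (∀ t ∈ ([] : List ℕ), SigConj T t) ∧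
    ∃ x, T.ty x = 10 ∧ Nat.card (Subgroup.centralizer ({x} : Set Spor.M12)) ≤ 8 := by
  obtain ⟨T, hm, h1, h2, h3, h4⟩ := exists_T (tp := fun i => tpL.getD i 0) (bx := fun t => bxL.getD t (0, 0))
    inc_inj inv₁ inv₂ (D := dat) card_eq (by decide +kernel) (by decide +kernel) (by decide +kernel) reps hT
    (by decide +kernel) (by decide +kernel) (by decide +kernel)
  refine ⟨T, hm, tab_of_rows hm h3 (virt_rows card_eq (fun sd hs => ?_) (by decide +kernel) hC)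
    (by decide +kernel), fun t ht => ?_, ?_⟩
  · simp only [List.mem_cons, List.not_mem_nil, or_false] at hs
    rcases hs with rfl | rfl
    · exact h1
    · exact h2
  · exact absurd ht List.not_mem_nil
  · obtain ⟨x, -, hx⟩ := h4 9 (by decide) (by decide +kernel)
    exact ⟨x, hx⟩

theorem van : VAN.Van3 Spor.M12 := by
  obtain ⟨T, hm, h, -, x, hx, hx'⟩ := tab
  exact van3_col h (inh_of_mass hm (by decide +kernel)) card_eq [(2, 6), (3, 3), (5, 1), (11, 1)] (by decide +kernel)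
    hx' hx 13 (rw' rA rB) 12 13 (by decide +kernel) (by decide +kernel)

theorem odd : OddRat Spor.M12 := by
  obtain ⟨T, hm, h, -⟩ := tab
  exact h.oddRat (inh_of_mass hm (by decide +kernel)) [] (by decide +kernel) (by decide +kernel)

theorem sig : OddSig Spor.M12 := by
  obtain ⟨T, hm, h, h', -⟩ := tab
  exact h.oddSig (inh_of_mass hm (by decide +kernel)) [] (by decide +kernel) _ h' (by decide +kernel)

theorem deg : DegList Spor.M12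
    (beta% delta% lq263f7eb8f7 fun a _ c _ _ _ _ _ _ _ =>
 (a 1<|a 11<|a 11<|a 45<|a 54<|a 55<|a 55<|a 55<|a 66<|a 99<|a 120<|a 144<|a 176<|a 16<|a 16<|c)) := by
  obtain ⟨T, hm, h, -⟩ := tab
  have h1 : (mkRows rA rB).deg = (beta% delta% lq263f7eb8f7 fun a _ c _ _ _ _ _ _ _ =>
 (a 1<|a 11<|a 11<|a 45<|a 54<|a 55<|a 55<|a 55<|a 66<|a 99<|a 120<|a 144<|a 176<|a 16<|a 16<|c) :
 List ℕ) := by
    decide +kernel
  exact h1 ▸ h.degList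

end Cfsg.Agent.TAB.Sm2.M12

private theorem dce_b50c0bcd2ae8 : _root_.True := by
  try have : _root_.True := by simp only [_root_.Cfsg.Agent.TAB.Sm2.M12.cert.eq_1]
  try have : _root_.True := by simp only [_root_.Cfsg.Agent.TAB.Sm2.M12.prs.eq_1]
  exact _root_.True.intro
end

-- part: TAB/Sm2/M22
section
set_option linter.all false
open scoped Cfsg.Agent.FastGrp

/-!
# The character table of `M22` (helper3, TAB)
-/

set_option autoImplicit false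
set_option maxRecDepth 100000

namespace Cfsg.Agent.TAB.Sm2.M22

open Cfsg Cfsg.Agent.TAB.Eng Cfsg.Agent.TAB.Use
open Cfsg.Agent.SporadicA.GolayBase Cfsg.Agent.SporadicA.GolayPerm
open Cfsg.Agent.SporadicStructure.M24El Cfsg.Agent.H729.Trans Cfsg.Agent.H729.MData
open scoped Pointwise

def dat : Dat where
  n := 10
  N := 443520
  ordL := [1, 2, 3, 4, 4, 5, 6, 7, 8, 11]
  cntL := [1, 1155, 12320, 27720, 13860, 88704, 36960, 126720, 55440, 80640]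
  pwL := [[], [(1, 1)], [(1, 2)], [(1, 3), (2, 1)], [(1, 4), (2, 1)], [(1, 5)], [(1, 6), (2, 2), (3, 1)], [(1, 7)], [(1, 8), (2, 4), (4, 1)], [(1, 9)]]

def v₁ : List ℤ := [24, 8, 6, 4, 4, 4, 2, 3, 2, 2]

def v₂ : List ℤ := [77, 13, 5, 1, 5, 2, 1, 0, 1, 0]

def rA : List (List ℤ) := [[1, 1, 1, 1, 1, 1, 1, 1, 1, 1],
  [21, 5, 3, 1, 1, 1, -1, 0, -1, -1],
  [55, 7, 1, -1, 3, 0, 1, -1, 1, 0],
  [99, 3, 0, -1, 3, -1, 0, 1, -1, 0],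
  [154, 10, 1, 2, -2, -1, 1, 0, 0, 0],
  [210, 2, 3, -2, -2, 0, -1, 0, 0, 1],
  [231, 7, -3, -1, -1, 1, 1, 0, -1, 0],
  [385, 1, -2, 1, 1, 0, -2, 0, 1, 0]]

def rB : List (List ℤ) := [[90, -6, 0, 2, 2, 0, 0, -1, -2, 2],
  [560, -16, 2, 0, 0, 0, 2, 0, 0, -1]]

def c2 : List Cert := [⟨0, [.one, .gen 0 1 0, .mul 0 0, .gen 1 1 0, .lin [(64, 3), (120, 2), (54, 1)], .lin [(76, 4), (16, 3), (11, 2), (68, 1)], .lin [(75, 5), (68, 4), (41, 2)], .lin [(88, 6), (55, 5)], .lin [(1, 7)]], [(0, 1), (1, 16), (2, 4), (3, 16), (4, 8)]⟩,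
  ⟨2, [.one, .gen 0 1 0, .lin [(70, 1), (95, 0)], .lin [(1, 2)]], [(0, 1), (1, 4)]⟩]

def c3 : List Cert := [⟨0, [.one, .lin [(1, 0)]], [(0, 1)]⟩,
  ⟨1, [.one, .gen 0 1 0, .lin [(1, 1), (1, 0)], .lin [(1, 2)]], [(0, 1), (1, 3)]⟩]

def c5 : List Cert := [⟨0, [.one, .lin [(1, 0)]], [(0, 1)]⟩]

def c7 : List Cert := [⟨0, [.one, .lin [(1, 0)]], [(0, 1)]⟩]

def c11 : List Cert := [⟨0, [.one, .lin [(1, 0)]], [(0, 1)]⟩]

def cert : List (ℕ × ℕ × List Cert) := [(2, 7, c2), (3, 2, c3), (5, 1, c5), (7, 1, c7), (11, 1, c11)]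

theorem h2 : Eng.chkP dat 2 7 (2 ^ 7) [v₁, v₂] c2 (rA ++ rB) = true := by decide +kernel

theorem h3 : Eng.chkP dat 3 2 (3 ^ 2) [v₁, v₂] c3 (rA ++ rB) = true := by decide +kernel

theorem h5 : Eng.chkP dat 5 1 (5 ^ 1) [v₁, v₂] c5 (rA ++ rB) = true := by decide +kernel

theorem h7 : Eng.chkP dat 7 1 (7 ^ 1) [v₁, v₂] c7 (rA ++ rB) = true := by decide +kernel

theorem h11 : Eng.chkP dat 11 1 (11 ^ 1) [v₁, v₂] c11 (rA ++ rB) = true := by decide +kernel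

theorem hC : ∀ x ∈ cert, Eng.chkP dat x.1 x.2.1 (x.1 ^ x.2.1) [v₁, v₂] x.2.2 (rA ++ rB) = true := by
  intro x hx
  simp only [cert, List.mem_cons, List.not_mem_nil, or_false] at hx
  rcases hx with rfl | rfl | rfl | rfl | rfl
  · exact h2
  · exact h3
  · exact h5
  · exact h7
  · exact h11

def cL : List ℕ := [966158389308529030942218518639679904, 971674527269832880431752993353340000,
  976721369067768948096133406861728160, 968617185868928776273660872791459424,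
  963956304443641300529522121529536576, 974265648109078940214804430252913312,
  961068877354262454538544732454554656, 972301492090467176557215791638463008,
  971068790014835402623168903417832896, 973927421301535459106453854890594400,
  968530233104700586423409967985410496]

def nL : List ℕ := [384, 36, 16, 32, 5, 12, 7, 7, 8, 11, 11]

/-- the representatives -/
abbrev cf (i : ℕ) : ℕ := cL.getD i 0

def l₂ : List ℕ := [13062145, 9347075, 11100169, 14716939, 8966165, 12656663, 10846245, 8536111, 15335473, 8663097, 9506893, 11575377, 13893731, 14254209,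
  9465987, 9830549, 11010247, 12599513, 8593633, 11731203, 9748745, 9969957, 12747077, 9240913, 10506593, 14950785, 9048457, 8421811,
  12325377, 13771273, 9519665, 8675909, 8524371, 8946281, 10666625, 8716939, 12587685, 8499969, 13124355, 10486557, 10630149, 13370381,
  10765331, 8619033, 12641313, 8983587, 10110017, 11535529, 8688833, 13636881, 8398155, 8471941, 9471495, 14747201, 8922769, 8783649,
  15747077, 9963547, 9607201, 13121601, 8505411, 10881097, 8431757, 10557585, 9193633, 8657159, 8546577, 12650793, 9112069, 12880401,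
  10496547, 9440193, 9776129, 8391797, 12717187, 11046145, 8412681]

private noncomputable def _root_.Cfsg.Agent.GolayF.f0_v4 : {f // @Cfsg.Agent.TAB.Sm2.cwL = f} :=
  ⟨_, by delta Cfsg.Agent.TAB.Sm2.cwL; rewrite [Cfsg.Agent.GolayF.enc_eq, Cfsg.Agent.GolayF.popcount_eq]; exact rfl⟩

theorem l₂_eq : cwL 8 8388609 2 = l₂ := by (rewrite [Cfsg.Agent.GolayF.f0_v4.2]; decide +kernel)

theorem inv₂ : Inv H729.M22Deg.inc l₂ := l₂_eq ▸ inv_cwL fun g => by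
  have h : fin 8388609 = {none, some 0} := by decide +kernel
  have h1 : H729.M22Deg.inc g • (none : GolayPt) = none := g.2.1.2
  have h2 : H729.M22Deg.inc g • (some 0 : GolayPt) = some 0 := g.2.2
  rw [h, Finset.smul_finset_insert, Finset.smul_finset_singleton, h1, h2]

theorem inv₁ : Inv H729.M22Deg.inc (ptL 16777215) := inv_ptL fun _ => smul_full _

theorem card_eq : Nat.card Spor.M22 = dat.N := H729.M22Deg.card_M22

def tpL : List ℕ := [1, 2, 3, 4, 5, 6, 7, 7, 8, 9, 9]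

def bxL : List (ℕ × ℕ) := [(0, 0), (0, 0), (1, 1), (2, 2), (3, 3), (4, 4), (5, 5), (6, 7), (8, 8), (9, 10)]

def prs : List (ℕ × ℕ) := [(6, 7), (9, 10)]

theorem reps : Reps H729.M22Deg.inc 11 cf (fun i => nL.getD i 0) prs :=
  reps_of_data H729.M22Deg.inc_injective H334.Ore.M22.hF H334.Ore.M22.hmem _ H334.Ore.M22Data.hC H334.Ore.M22.hA'
    H334.Ore.M22Data.hP rfl (by decide +kernel) (by decide +kernel) (by decide +kernel)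

private noncomputable def _root_.Cfsg.Agent.GolayF.f1_v4 : {f // @Cfsg.Agent.TAB.Sm2.tyB = f} :=
  ⟨_, by delta Cfsg.Agent.H334.Ore.Mat.fc Cfsg.Agent.H729.MData.ppow Cfsg.Agent.H729.MData.ppow._f Cfsg.Agent.TAB.Sm2.cntF Cfsg.Agent.TAB.Sm2.tyB; rewrite [Cfsg.Agent.GolayF.pcomp_eq, Cfsg.Agent.GolayF.pimg_eq, Cfsg.Agent.GolayF.ok_eq, Cfsg.Agent.GolayF.pw_eq]; exact rfl⟩

theorem t0 : allL (fun i => tyB (ptL 16777215) l₂ dat (fun t => (nth v₁ t, nth v₂ t)) (cf i) (tpL.getD i 0))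
    (List.range' 0 11) = true := by (rewrite [Cfsg.Agent.GolayF.f1_v4.2]; decide +kernel)

theorem hT : ∀ i < 11, tyB (ptL 16777215) l₂ dat (fun t => (nth v₁ t, nth v₂ t)) (cf i) (tpL.getD i 0) = true := by
  intro i hi
  exact forall_lt_of_allL t0 i (by omega) (by omega)

/-- the type function and the table -/
theorem tab : ∃ T : TD Spor.M22 dat, T.Mass ∧ Tab T (mkRows rA rB) ∧ ∀ t ∈ ([] : List ℕ), SigConj T t := by
  obtain ⟨T, hm, h1, h2, h3, h4⟩ := exists_T (tp := fun i => tpL.getD i 0) (bx := fun t => bxL.getD t (0, 0))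
    H729.M22Deg.inc_injective inv₁ inv₂ (D := dat) card_eq (by decide +kernel) (by decide +kernel) (by decide +kernel) reps hT
    (by decide +kernel) (by decide +kernel) (by decide +kernel)
  refine ⟨T, hm, tab_of_rows hm h3 (virt_rows card_eq (fun sd hs => ?_) (by decide +kernel) hC)
    (by decide +kernel), fun t ht => ?_⟩
  · simp only [List.mem_cons, List.not_mem_nil, or_false] at hs
    rcases hs with rfl | rfl
    · exact h1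
    · exact h2
  · exact absurd ht List.not_mem_nil

theorem van : VAN.Van3 Spor.M22 := by
  obtain ⟨T, hm, h, -⟩ := tab
  exact h.van3 (inh_of_mass hm (by decide +kernel)) card_eq [(2, 7), (3, 2), (5, 1), (7, 1), (11, 1)] (by decide +kernel) 2 5 7 (by decide +kernel)

theorem all : AllRat Spor.M22 := by
  obtain ⟨T, hm, h, -⟩ := tab
  exact h.allRat (inh_of_mass hm (by decide +kernel)) [7, 9] (by decide +kernel) (by decide +kernel)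

theorem sig : OddSig Spor.M22 := by
  obtain ⟨T, hm, h, h'⟩ := tab
  exact h.oddSig (inh_of_mass hm (by decide +kernel)) [(7, 0, 7, 3)] (by decide +kernel) _ h' (by decide +kernel)

theorem deg : DegList Spor.M22
    [1, 21, 55, 99, 154, 210, 231, 385, 45, 45, 280, 280] := by
  obtain ⟨T, hm, h, -⟩ := tab
  have h1 : (mkRows rA rB).deg = [1, 21, 55, 99, 154, 210, 231, 385, 45, 45, 280, 280] := by
    decide +kernel
  exact h1 ▸ h.degList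

end Cfsg.Agent.TAB.Sm2.M22

private theorem dce_df9ba186e03b : _root_.True := by
  try have : _root_.True := by simp only [_root_.Cfsg.Agent.TAB.Sm2.M22.cert.eq_1]
  exact _root_.True.intro
end

-- part: TAB/Sm2/M23
section
set_option linter.all false
open scoped Cfsg.Agent.FastGrp

/-!
# The character table of `M23` (helper3, TAB)
-/

set_option autoImplicit false
set_option maxRecDepth 100000

namespace Cfsg.Agent.TAB.Sm2.M23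

open Cfsg Cfsg.Agent.TAB.Eng Cfsg.Agent.TAB.Use
open Cfsg.Agent.SporadicA.GolayBase Cfsg.Agent.SporadicA.GolayPerm
open Cfsg.Agent.SporadicStructure.M24El Cfsg.Agent.H729.Trans Cfsg.Agent.H729.MData
open scoped Pointwise

def dat : Dat where
  n := 12
  N := 10200960
  ordL := [1, 2, 3, 4, 5, 6, 7, 8, 11, 14, 15, 23]
  cntL := [1, 3795, 56672, 318780, 680064, 850080, 1457280, 1275120, 1854720, 1457280, 1360128, 887040]
  pwL := [[], [(1, 1)], [(1, 2)], [(1, 3), (2, 1)], [(1, 4)], [(1, 5), (2, 2), (3, 1)], [(1, 6)], [(1, 7), (2, 3), (4, 1)], [(1, 8)], [(1, 9), (2, 6), (7, 1)], [(1, 10), (3, 4), (5, 2)], [(1, 11)]]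

def v₁ : List ℤ := [24, 8, 6, 4, 4, 2, 3, 2, 2, 1, 1, 1]

def v₂ : List ℤ := []

def rA : List (List ℤ) := [[1, 1, 1, 1, 1, 1, 1, 1, 1, 1, 1, 1],
  [22, 6, 4, 2, 2, 0, 1, 0, 0, -1, -1, -1],
  [230, 22, 5, 2, 0, 1, -1, 0, -1, 1, 0, 0],
  [231, 7, 6, -1, 1, -2, 0, -1, 0, 0, 1, 1],
  [253, 13, 1, 1, -2, 1, 1, -1, 0, -1, 1, 0],
  [1035, 27, 0, -1, 0, 0, -1, 1, 1, -1, 0, 0],
  [2024, 8, -1, 0, -1, -1, 1, 0, 0, 1, -1, 0]]

def rB : List (List ℤ) := [[90, -6, 0, 2, 0, 0, -1, -2, 2, 1, 0, -2],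
  [462, 14, -6, -2, 2, 2, 0, -2, 0, 0, -1, 2],
  [1540, -28, 10, -4, 0, 2, 0, 0, 0, 0, 0, -1],
  [1792, 0, -8, 0, 2, 0, 0, 0, -1, 0, 2, -2],
  [1980, -36, 0, 4, 0, 0, -1, 0, 0, -1, 0, 2]]

def c2 : List Cert := [⟨0, [.one, .gen 0 1 0, .mul 0 0, .lin [(64, 2), (120, 1), (54, 0)], .lin [(64, 3), (77, 1)], .lin [(88, 4), (55, 3)], .lin [(1, 5)]], [(0, 1), (1, 16), (2, 16), (3, 8)]⟩,
  ⟨2, [.one, .gen 0 1 0, .lin [(70, 1), (95, 0)], .lin [(1, 2)]], [(0, 1), (1, 4)]⟩,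
  ⟨6, [.one, .gen 0 1 0, .lin [(67, 1), (63, 0)], .lin [(1, 2)]], [(0, 1), (1, 2)]⟩]

def c3 : List Cert := [⟨0, [.one, .lin [(1, 0)]], [(0, 1)]⟩,
  ⟨1, [.one, .gen 0 1 0, .lin [(1, 1), (1, 0)], .lin [(1, 2)]], [(0, 1), (1, 3)]⟩,
  ⟨4, [.one, .gen 0 1 0, .lin [(7, 1), (5, 0)], .lin [(1, 2)]], [(0, 1), (1, 3)]⟩]

def c5 : List Cert := [⟨0, [.one, .lin [(1, 0)]], [(0, 1)]⟩,
  ⟨2, [.one, .lin [(1, 0)]], [(0, 1)]⟩]

def c7 : List Cert := [⟨0, [.one, .lin [(1, 0)]], [(0, 1)]⟩,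
  ⟨1, [.one, .lin [(1, 0)]], [(0, 1)]⟩]

def c11 : List Cert := [⟨0, [.one, .lin [(1, 0)]], [(0, 1)]⟩]

def c23 : List Cert := [⟨0, [.one, .lin [(1, 0)]], [(0, 1)]⟩]

def cert : List (ℕ × ℕ × List Cert) := [(2, 7, c2), (3, 2, c3), (5, 1, c5), (7, 1, c7), (11, 1, c11), (23, 1, c23)]

theorem h2 : Eng.chkP dat 2 7 (2 ^ 7) [v₁] c2 (rA ++ rB) = true := by decide +kernel

theorem h3 : Eng.chkP dat 3 2 (3 ^ 2) [v₁] c3 (rA ++ rB) = true := by decide +kernel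

theorem h5 : Eng.chkP dat 5 1 (5 ^ 1) [v₁] c5 (rA ++ rB) = true := by decide +kernel

theorem h7 : Eng.chkP dat 7 1 (7 ^ 1) [v₁] c7 (rA ++ rB) = true := by decide +kernel

theorem h11 : Eng.chkP dat 11 1 (11 ^ 1) [v₁] c11 (rA ++ rB) = true := by decide +kernel

theorem h23 : Eng.chkP dat 23 1 (23 ^ 1) [v₁] c23 (rA ++ rB) = true := by decide +kernel

theorem hC : ∀ x ∈ cert, Eng.chkP dat x.1 x.2.1 (x.1 ^ x.2.1) [v₁] x.2.2 (rA ++ rB) = true := by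
  intro x hx
  simp only [cert, List.mem_cons, List.not_mem_nil, or_false] at hx
  rcases hx with rfl | rfl | rfl | rfl | rfl | rfl
  · exact h2
  · exact h3
  · exact h5
  · exact h7
  · exact h11
  · exact h23

def cL : List ℕ := [980300456624277555258171200517441699, 963225086571282922171847167606754605,
  969690129507075176546547461736478156, 984716542135906806873716780210567211,
  974960402297316522504383265668385292, 971066846074928915393171660241182897,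
  962061302581611087296964346981714028, 979132756755844017910169606556066003,
  978069831078519570716573740216824083, 960716361430353610035354410332529868,
  976382975643422735591640723023248646, 979374823669607264849363846196199668,
  979155369683378504585279639241629221, 972833497517399943230256495216677110,
  982252470930009687161553335856700853, 967486415537473815578637697434492545]

def nL : List ℕ := [2688, 180, 32, 15, 12, 14, 14, 8, 11, 11, 14, 14, 15, 15, 23, 23]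

/-- the representatives -/
abbrev cf (i : ℕ) : ℕ := cL.getD i 0

theorem inv₁ : Inv H334.Ore.M23.inc23 (ptL 16777215) := inv_ptL fun _ => smul_full _

theorem card_eq : Nat.card Spor.M23 = dat.N := H334.Ore.M23.card_M23

def tpL : List ℕ := [1, 2, 3, 4, 5, 6, 6, 7, 8, 8, 9, 9, 10, 10, 11, 11]

def bxL : List (ℕ × ℕ) := [(0, 0), (0, 0), (1, 1), (2, 2), (3, 3), (4, 4), (5, 6), (7, 7), (8, 9), (10, 11), (12, 13), (14, 15)]

def prs : List (ℕ × ℕ) := [(5, 6), (8, 9), (10, 11), (12, 13), (14, 15)]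

theorem reps : Reps H334.Ore.M23.inc23 16 cf (fun i => nL.getD i 0) prs :=
  reps_of_data H334.Ore.M23.inc23_injective H334.Ore.M23.hF H334.Ore.M23.hmem _ H334.Ore.M23Data.hC H334.Ore.M23.hA'
    H334.Ore.M23Data.hP rfl (by decide +kernel) (by decide +kernel) (by decide +kernel)

theorem t0 : allL (fun i => tyB (ptL 16777215) [] dat (fun t => (nth v₁ t, nth v₂ t)) (cf i) (tpL.getD i 0))
    (List.range' 0 16) = true := by decide +kernel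

theorem hT : ∀ i < 16, tyB (ptL 16777215) [] dat (fun t => (nth v₁ t, nth v₂ t)) (cf i) (tpL.getD i 0) = true := by
  intro i hi
  exact forall_lt_of_allL t0 i (by omega) (by omega)

/-- the type function and the table -/
theorem tab : ∃ T : TD Spor.M23 dat, T.Mass ∧ Tab T (mkRows rA rB) ∧ ∀ t ∈ ([10] : List ℕ), SigConj T t := by
  obtain ⟨T, hm, h1, h2, h3, h4⟩ := exists_T (tp := fun i => tpL.getD i 0) (bx := fun t => bxL.getD t (0, 0))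
    H334.Ore.M23.inc23_injective inv₁ inv_nil (D := dat) card_eq (by decide +kernel) (by decide +kernel) (by decide +kernel) reps hT
    (by decide +kernel) (by decide +kernel) (by decide +kernel)
  refine ⟨T, hm, tab_of_rows hm h3 (virt_rows card_eq (fun sd hs => ?_) (by decide +kernel) hC)
    (by decide +kernel), fun t ht => ?_⟩
  · rw [List.mem_singleton.1 hs]
    exact h1
  · simp only [List.mem_cons, List.not_mem_nil, or_false] at ht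
    rcases ht with rfl
    · obtain ⟨x, hx, hx', -⟩ := h4 12 (by decide) (by decide +kernel)
      obtain ⟨y, hy⟩ := H334.Ore.M23.hmem 962564473708678222308972665800178336 (by decide +kernel) (by decide +kernel)
      exact ⟨x, 0, 15, 2, hx', by decide +kernel, isConj_pow H334.Ore.M23.inc23_injective hx hy (by decide +kernel)⟩

theorem van : VAN.Van3 Spor.M23 := by
  obtain ⟨T, hm, h, -⟩ := tab
  exact h.van3 (inh_of_mass hm (by decide +kernel)) card_eq [(2, 7), (3, 2), (5, 1), (7, 1), (11, 1), (23, 1)] (by decide +kernel) 1 4 8 (by decide +kernel)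

theorem odd : OddRat Spor.M23 := by
  obtain ⟨T, hm, h, -⟩ := tab
  exact h.oddRat (inh_of_mass hm (by decide +kernel)) [6, 10] (by decide +kernel) (by decide +kernel)

theorem sig : OddSig Spor.M23 := by
  obtain ⟨T, hm, h, h'⟩ := tab
  exact h.oddSig (inh_of_mass hm (by decide +kernel)) [(6, 0, 7, 3)] (by decide +kernel) _ h' (by decide +kernel)

theorem deg : DegList Spor.M23
    [1, 22, 230, 231, 253, 1035, 2024, 45, 45, 231, 231, 770, 770, 896, 896, 990, 990] := by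
  obtain ⟨T, hm, h, -⟩ := tab
  have h1 : (mkRows rA rB).deg = [1, 22, 230, 231, 253, 1035, 2024, 45, 45, 231, 231, 770, 770, 896, 896, 990, 990] := by
    decide +kernel
  exact h1 ▸ h.degList

end Cfsg.Agent.TAB.Sm2.M23

private theorem dce_82de2f8f8d2f : _root_.True := by
  try have : _root_.True := by simp only [_root_.Cfsg.Agent.TAB.Sm2.M23.cert.eq_1]
  exact _root_.True.intro
end

-- part: TAB/Co/Half
section
prune_inst 0x24000000001800000000000020000000000000002040000000010040a04100010220000218140c1028000000000000000020000000000000000000000024000080080000000000002000000000000000000000000000000000000000000000000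
set_option linter.all false
open scoped Cfsg.Agent.FastGrp

/-!
# Half of the sum of two rows of norm two (helper88, TAB)

`virt_half` : a virtual row `u` of norm two whose coefficient in the regular character does not divide the group order
shares its constituents with another row.
-/

set_option autoImplicit false

namespace Cfsg.Agent.TAB.Co

open Cfsg Cfsg.Agent.TAB.Eng Cfsg.Agent.TAB.Use Cfsg.Agent.Characters Cfsg.Agent.Characters.Core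
open Cfsg.Agent.Characters.Brauer Cfsg.Agent.H447.CTab
open scoped ComplexConjugate

universe u

theorem even_of_share {I : Type*} [Fintype I] {μ ν : I → ℤ} {n : ℤ} (hn : n ≤ 2) (h1 : ∑ z, μ z * μ z = 2)
    (h2 : ∑ z, ν z * ν z = n) (h3 : ∑ z, μ z * ν z = 0) {x : I} (hx : μ x ≠ 0) (hx' : ν x ≠ 0) :
    n = 2 ∧ ∀ z, ∃ c : ℤ, μ z + ν z = c + c := by
  classical
  have key : ∀ {f : I → ℤ}, ∑ z, f z * f z ≤ 2 → f x ≠ 0 → f x = 1 ∨ f x = -1 := fun {f} h h' => by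
    have h4 : f x * f x ≤ ∑ z, f z * f z :=
      Finset.single_le_sum (f := fun z => f z * f z) (fun y _ => mul_self_nonneg _) (Finset.mem_univ x)
    have h5 : f x < 2 := by nlinarith
    have h6 : -2 < f x := by nlinarith
    omega
  have h4 := key h1.le hx
  have h5 := key (h2.le.trans hn) hx'
  obtain ⟨e, he, h6⟩ : ∃ e : ℤ, (e = 1 ∨ e = -1) ∧ (μ x + e * ν x) * (μ x + e * ν x) = 4 := by
    rcases h4 with h4 | h4 <;> rcases h5 with h5 | h5 <;> rw [h4, h5]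
    exacts [⟨1, Or.inl rfl, by norm_num⟩, ⟨-1, Or.inr rfl, by norm_num⟩, ⟨-1, Or.inr rfl, by norm_num⟩,
      ⟨1, Or.inl rfl, by norm_num⟩]
  have h7 : ∑ z, (μ z + e * ν z) * (μ z + e * ν z) = 2 + n := by
    have h8 : ∀ z, (μ z + e * ν z) * (μ z + e * ν z) = μ z * μ z + ν z * ν z + 2 * e * (μ z * ν z) := fun z => by
      rcases he with rfl | rfl <;> ring
    simp only [h8, Finset.sum_add_distrib, ← Finset.mul_sum, h1, h2, h3, mul_zero, add_zero]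
  rw [← Finset.add_sum_erase _ _ (Finset.mem_univ x), h6] at h7
  have h8 : 0 ≤ ∑ z ∈ Finset.univ.erase x, (μ z + e * ν z) * (μ z + e * ν z) :=
    Finset.sum_nonneg fun z _ => mul_self_nonneg _
  refine ⟨by omega, fun z => ?_⟩
  by_cases hz : z = x
  · refine ⟨(μ z + ν z) / 2, ?_⟩
    rw [hz]
    omega
  · have h9 := (Finset.sum_eq_zero_iff_of_nonneg fun z _ => mul_self_nonneg (μ z + e * ν z)).1 (by omega) z
      (Finset.mem_erase.2 ⟨hz, Finset.mem_univ z⟩)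
    rw [mul_self_eq_zero] at h9
    refine ⟨(μ z + ν z) / 2, ?_⟩
    rcases he with rfl | rfl <;> omega

/-- the check : `L` contains the other rows with their coefficients in the regular character -/
noncomputable def okHalf (D : Dat) (u v w : List ℤ) (a : ℕ) (L : List (ℤ × List ℤ)) : Bool :=
  D.cntL.length == D.n && D.N % a != 0 && ip D u u == D.N * 2 &&
  (L.all fun p => ip D u p.2 == D.N * 0 && (ip D p.2 p.2 == D.N * 1 || (ip D p.2 p.2 == D.N * 2 &&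
    (p.2 == v || (List.range D.n).any fun t => decide (0 < D.cnt t) && (nth u t + nth p.2 t) % 2 != 0)))) &&
  (List.range D.n).all fun t => nth u t + nth v t == nth w t + nth w t &&
    a * nth u t + (L.map fun p => p.1 * nth p.2 t).sum == if D.ord t = 1 then (D.N : ℤ) else 0

variable {G : Type u} [Group G] [Finite G] {D : Dat} {T : TD G D}

omit [Finite G] in
theorem inner_list [Fintype G] {ψ : G → ℂ} : ∀ L : List (ℤ × List ℤ), (∀ p ∈ L, classInner (fn T p.2) ψ = 0) →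
    classInner (fun g => (((L.map fun p => p.1 * nth p.2 (T.ty g)).sum : ℤ) : ℂ)) ψ = 0
  | [], _ => by
    have h : (fun g : G => (((([] : List (ℤ × List ℤ)).map fun p => p.1 * nth p.2 (T.ty g)).sum : ℤ) : ℂ)) = 0 := by
      funext g; simp
    rw [h, classInner_zero_left]
  | p :: L, h => by
    have h1 : (fun g : G => ((((p :: L).map fun p => p.1 * nth p.2 (T.ty g)).sum : ℤ) : ℂ)) =
        (p.1 : ℂ) • fn T p.2 + fun g => (((L.map fun p => p.1 * nth p.2 (T.ty g)).sum : ℤ) : ℂ) := by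
      funext g; simp
    rw [h1, classInner_add_left, classInner_smul_left, h p List.mem_cons_self,
      inner_list L fun q hq => h q (List.mem_cons_of_mem _ hq), mul_zero, add_zero]

/-- **half of the sum is virtual** -/
theorem virt_half (hm : T.Mass) {u v w : List ℤ} {a : ℕ} {L : List (ℤ × List ℤ)} (hu : Virt T (nth u))
    (hL : ∀ p ∈ L, Virt T (nth p.2)) (hc : okHalf D u v w a L = true) : Virt T (nth w) := by
  classical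
  have := Fintype.ofFinite G
  have := finite_irr (G := G)
  have := Fintype.ofFinite (IrrCharacter G)
  simp only [okHalf, Bool.and_eq_true, beq_iff_eq, bne_iff_ne, ne_eq, List.all_eq_true, List.mem_range,
    Bool.or_eq_true, List.any_eq_true, decide_eq_true_eq] at hc
  obtain ⟨⟨⟨⟨hl, ha⟩, huu⟩, h1⟩, h2⟩ := hc
  have hip : ∀ {r s : List ℤ} (hr : Virt T (nth r)) (hs : Virt T (nth s)) {z : ℤ}, ip D r s = D.N * z →
      ∑ x, mu hr x * mu hs x = z := fun {r s} hr hs z h => by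
    have h3 := inner_of_ip hm hl h
    rw [show classInner (fn T r) (fn T s) = _ from inner_sum_mu hr hs] at h3
    exact_mod_cast h3
  by_contra hw
  have h3 := hip hu hu huu
  obtain ⟨x, -, hx⟩ := Finset.exists_ne_zero_of_sum_ne_zero (h3 ▸ two_ne_zero)
  have hx' : mu hu x ≠ 0 := left_ne_zero_of_mul hx
  have h4 : ∀ p ∈ L, classInner (fn T p.2) (x : G → ℂ) = 0 := fun p hp => by
    rw [show classInner (fn T p.2) (x : G → ℂ) = _ from inner_mu (hL p hp) x, Int.cast_eq_zero]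
    by_contra h5
    obtain ⟨h6, h7⟩ := h1 p hp
    rcases h7 with h7 | ⟨h7, h8⟩
    · exact absurd (even_of_share one_le_two h3 (hip _ _ h7) (hip hu _ h6) hx' h5).1 (by decide)
    · choose c hc using (even_of_share le_rfl h3 (hip _ _ h7) (hip hu _ h6) hx' h5).2
      have h10 : IsGeneralizedCharacter G (∑ z : IrrCharacter G, c z • (z : G → ℂ)) :=
        Subring.sum_mem (genRing G) fun z _ => zsmul_mem (S := Subring (G → ℂ)) (K := genRing G)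
          (isGeneralizedCharacter_of_isCharacter (isIrr_isCharacter z.2)) _
      have h11 : ∀ g : G, (∑ z : IrrCharacter G, c z • (z : G → ℂ)) g + (∑ z : IrrCharacter G, c z • (z : G → ℂ)) g =
          ((nth u (T.ty g) + nth p.2 (T.ty g) : ℤ) : ℂ) := fun g => by
        rw [Int.cast_add, apply_mu hu g, apply_mu (hL p hp) g, ← Finset.sum_add_distrib, Finset.sum_apply,
          ← Finset.sum_add_distrib]
        refine Finset.sum_congr rfl fun z _ => ?_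
        rw [← add_mul, ← Int.cast_add, hc z, Pi.smul_apply, zsmul_eq_mul, Int.cast_add, add_mul]
      rcases h8 with h8 | ⟨t, ht, h8, h9⟩
      · refine hw ?_
        have h12 : (fun g => (nth w (T.ty g) : ℂ)) = ∑ z : IrrCharacter G, c z • (z : G → ℂ) := funext fun g => by
          have h13 := h11 g
          rw [h8, (h2 _ (T.lt g)).1, Int.cast_add] at h13
          linear_combination (-1 / 2) * h13
        rw [Virt, h12]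
        exact h10
      · rw [← hm.2 t ht] at h8
        obtain ⟨⟨g, rfl⟩⟩ := (Nat.card_pos_iff.1 h8).1
        exact h9 (even_of_integral (gen_integral h10 g) (h11 g))
  obtain ⟨d, hd, hd'⟩ : ∃ d : ℕ, (x : G → ℂ) 1 = d ∧ d ∣ Nat.card G := by
    obtain ⟨_, n, ρ, hρ, rfl⟩ := x
    exact ⟨_, Representation.char_one ρ, S0135.result ρ⟩
  have h5 : ((a : ℂ) • fn T u + fun g => (((L.map fun p => p.1 * nth p.2 (T.ty g)).sum : ℤ) : ℂ)) =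
      fun g => if g = 1 then (Nat.card G : ℂ) else 0 := by
    funext g
    have h6 := congrArg (Int.cast : ℤ → ℂ) (h2 _ (T.lt g)).2
    rw [← T.ord, ← hm.1] at h6
    simp only [orderOf_eq_one_iff, Int.cast_add, Int.cast_mul, Int.cast_natCast, Int.cast_ite, Int.cast_zero] at h6
    exact h6
  have h6 := congrArg (fun f => classInner f (x : G → ℂ)) h5
  simp only [classInner_add_left, classInner_smul_left, inner_list L h4, add_zero] at h6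
  rw [show classInner (fn T u) (x : G → ℂ) = _ from inner_mu hu x, classInner_def,
    Finset.sum_eq_single 1 (fun g _ hg => by rw [if_neg hg, zero_mul]) fun h => absurd (Finset.mem_univ _) h,
    if_pos rfl, hd, Complex.conj_natCast, inv_mul_cancel_left₀ card_ne_zero_complex] at h6
  have h7 : (a : ℤ) * mu hu x = d := by exact_mod_cast h6
  refine ha (Nat.mod_eq_zero_of_dvd (Dvd.dvd.trans ?_ (hm.1 ▸ hd')))
  exact Int.natCast_dvd_natCast.1 ⟨_, h7.symm⟩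

end Cfsg.Agent.TAB.Co

private theorem dce_208ab347be83 : _root_.True := by
  try have : _root_.True := by simp only [_root_.Cfsg.Agent.TAB.Co.okHalf.eq_1]
  exact _root_.True.intro
end

-- part: TAB/Co/Pair
section
prune_inst 0x40200000000018000060001c02c3000100000800012004000004c10c40a0400021b2b000009094085c4878004000000150001000000000000001180080002e40800200ac0414000000a005500000000000000000000000000000000000000000000
set_option linter.all false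
open scoped Cfsg.Agent.FastGrp

/-!
# Pairs of characters whose sum has even values (helper88, TAB)

`oddRat2`, `allRat2`, `oddSig2` : the checks of `Use.Main` with one more test : the halves of the values of the sum of
the pair at `g` and `g ^ 2` have different parities.
-/

set_option autoImplicit false

namespace Cfsg.Agent.TAB.Co

open Cfsg Cfsg.Agent.TAB.Eng Cfsg.Agent.TAB.Use Cfsg.Agent.Characters Cfsg.Agent.ODD.Red

universe u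

variable {G : Type u} [Group G] [Finite G] {D : Dat} {T : TD G D} {R : Rows} {χ : ℕ → G → ℂ}

/-- the exponent of `σ` at an element of the type `t` is the square of a unit -/
def GoodSq (T : TD G D) (σ : ℂ ≃+* ℂ) (t : ℕ) : Prop :=
  ∃ (g : G) (m : ℕ), T.ty g = t ∧ m.Coprime (orderOf g) ∧ ∀ z : ℂ, z ^ orderOf g = 1 → σ z = z ^ (m * m)

/-- the test -/
def halfB (D : Dat) (R : Rows) (L : List ℕ) (j : ℕ) : Bool :=
  R.rel.any fun r =>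
    (r.1.any fun q => decide (q.1 < R.n) && q.1 != j && (r.1 == [(j, 1), (q.1, 1)] || r.1 == [(q.1, 1), (j, 1)])) &&
      L.any fun t => (r.2.getD (D.pwf t 2) 0 - r.2.getD t 0) % 4 != 0

theorem fix_of_half (hE : Enum G R.n R.d χ) (hR : _root_.Cfsg.Agent.TAB.Use.Rel T R χ) {σ : ℂ ≃+* ℂ} {L : List ℕ}
    (hL : ∀ t ∈ L, GoodSq T σ t) {j : ℕ} (hj : j < R.n) (h : halfB D R L j = true) : _root_.Cfsg.Agent.ODD.Red.Fix σ (χ j) := by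
  simp only [halfB, Bool.and_eq_true, List.any_eq_true, decide_eq_true_eq, bne_iff_ne, ne_eq, Bool.or_eq_true,
    beq_iff_eq] at h
  obtain ⟨r, hr, ⟨⟨k, c⟩, -, ⟨hk, hne⟩, h⟩, t, ht, h6⟩ := h
  refine (Sz.pair_map hE hR hr hj hk hne h σ).resolve_right fun h1 => h6 ?_
  obtain ⟨g, m, rfl, hm, hσ⟩ := hL t ht
  obtain ⟨τ, hτ⟩ := GaloisBasic.exists_ringEquiv_pow (orderOf_pos g).ne' hm
  have hc := Core.isIrr_isCharacter (hE.irr j hj)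
  have hsq : ∀ x : G, τ (τ (χ j x)) = χ j x := fun x => by
    rcases Sz.pair_map hE hR hr hj hk hne h τ with h2 | h2
    · rw [h2, h2]
    · rcases Sz.pair_map hE hR hr hk hj (Ne.symm hne) h.symm τ with h3 | h3
      · exact absurd (hE.inj k hk j hj (funext fun y => τ.injective ((h3 y).trans (h2 y).symm))) hne
      · rw [h2, h3]
  have key : ∀ x : G, x ^ orderOf g = 1 → χ j x + χ j x = ((r.2.getD (T.ty x) 0 : ℤ) : ℂ) := fun x hx => by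
    have h2 : σ (χ j x) = _ := GaloisBasic.map_apply (σ : ℂ →+* ℂ) hσ hc (orderOf_pos g).ne' hx
    have h3 : τ (χ j x) = _ := GaloisBasic.map_apply (τ : ℂ →+* ℂ) hτ hc (orderOf_pos g).ne' hx
    have h4 : τ (χ j (x ^ m)) = _ := GaloisBasic.map_apply (τ : ℂ →+* ℂ) hτ hc (g := x ^ m) (orderOf_pos g).ne'
      (by rw [← pow_mul, mul_comm, pow_mul, hx, one_pow])
    have h5 := hsq x
    rw [h3, h4, ← pow_mul, ← h2, h1] at h5
    rw [← Sz.pair_sum hR hr h x, h5]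
  have h2 := key g (pow_orderOf_eq_one g)
  have h3 := key (g ^ 2) (by rw [← pow_mul, mul_comm, pow_mul, pow_orderOf_eq_one, one_pow])
  rw [T.pow] at h3
  obtain ⟨a, ha⟩ := Int.dvd_of_emod_eq_zero (even_of_integral (GaloisBasic.isIntegral_apply hc _) h2)
  obtain ⟨b, hb⟩ := Int.dvd_of_emod_eq_zero (even_of_integral (GaloisBasic.isIntegral_apply hc _) h3)
  rw [ha] at h2
  rw [hb] at h3
  have h4 := Sz.gen_cong' (Brauer.isGeneralizedCharacter_of_isCharacter hc) (g := g) (a := a) (b := b) Nat.prime_two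
    (by push_cast at h2; linear_combination h2 / 2) (by push_cast at h3; linear_combination h3 / 2)
  push_cast at h4
  omega

/-- types whose order is not divisible by four -/
def twoL (D : Dat) (L : List ℕ) : Bool := L.all fun t => decide (t < D.n) && D.ord t % 4 != 0

omit [Finite G] in
theorem goodSq_two (hI : Inh T) {L : List ℕ} (hL : twoL D L = true) {τ : ℂ ≃+* ℂ} (hτ : Two τ) :
    ∀ t ∈ L, GoodSq T τ t := fun t ht => by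
  have h := List.all_eq_true.1 hL t ht
  simp only [Bool.and_eq_true, decide_eq_true_eq, bne_iff_ne, ne_eq] at h
  obtain ⟨g, rfl⟩ := hI t h.1
  refine ⟨g, 1, rfl, Nat.coprime_one_left _, fun z hz => ?_⟩
  rw [pow_one]
  rw [← T.ord] at h
  rcases Nat.even_or_odd' (orderOf g) with ⟨m, hm | hm⟩
  · exact Sz.two_fix hτ (m := m) (Nat.odd_iff.2 (by omega)) (hm ▸ hz)
  · exact hτ _ z ⟨m, hm⟩ hz

omit [Finite G] in
theorem goodSq_sig (hI : Inh T) {L : List (ℕ × ℕ × ℕ × ℕ)} (hL : sqL D L = true) {σ : ℂ ≃+* ℂ} (hσ : Sig σ) :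
    ∀ t ∈ L.map Prod.fst, GoodSq T σ t := fun t ht => by
  obtain ⟨x, hx, rfl⟩ := List.mem_map.1 ht
  have h := List.all_eq_true.1 hL x hx
  rw [Bool.and_eq_true, beq_iff_eq] at h
  have h1 : x.1 < D.n := by
    have := h.1
    simp only [expB, Bool.and_eq_true, decide_eq_true_eq] at this
    exact this.1.1.1.1
  obtain ⟨g, hg⟩ := hI x.1 h1
  rw [← hg] at h ⊢
  exact ⟨g, _, rfl, by rw [T.ord]; exact h.2, hσ.pow_of_chk h.1⟩

theorem oddRat2 (h : Tab T R) (hI : Inh T) (L L' : List ℕ) (hL : oddL D L = true) (hL' : twoL D L' = true)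
    (hc : ((List.range R.n).all fun j => R.d j % 2 == 0 || fixB R L j || halfB D R L' j) = true) : OddRat G := by
  obtain ⟨χ, hE, hR⟩ := h
  intro ψ hψ ho τ hτ
  obtain ⟨j, hj, rfl⟩ := hE.all ψ hψ
  have h1 := List.all_eq_true.1 hc j (List.mem_range.2 hj)
  rw [hE.charDegree_eq hj, Nat.odd_iff] at ho
  simp only [ho, Bool.or_eq_true, beq_iff_eq, one_ne_zero, false_or] at h1
  exact h1.elim (fix_of_chk hE hR (good_two hI hL hτ) hj) (fix_of_half hE hR (goodSq_two hI hL' hτ) hj)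

theorem oddSig2 (h : Tab T R) (hI : Inh T) (L : List (ℕ × ℕ × ℕ × ℕ)) (hL : sqL D L = true)
    (hc : ((List.range R.n).all fun j => R.d j % 2 == 0 || fixB R (L.map Prod.fst) j ||
      halfB D R (L.map Prod.fst) j) = true) : OddSig G := by
  obtain ⟨χ, hE, hR⟩ := h
  intro ψ hψ ho σ hσ
  obtain ⟨j, hj, rfl⟩ := hE.all ψ hψ
  have h1 := List.all_eq_true.1 hc j (List.mem_range.2 hj)
  rw [hE.charDegree_eq hj, Nat.odd_iff] at ho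
  simp only [ho, Bool.or_eq_true, beq_iff_eq, one_ne_zero, false_or] at h1
  refine h1.elim (fix_of_chk hE hR (fun t ht => ?_) hj) (fix_of_half hE hR (goodSq_sig hI hL hσ) hj)
  obtain ⟨x, hx, rfl⟩ := List.mem_map.1 ht
  exact good_sig hI hL hσ x hx

end Cfsg.Agent.TAB.Co

private theorem dce_0d321a0794c1 : _root_.True := by
  try have : _root_.True := by simp only [_root_.Cfsg.Agent.TAB.Co.halfB.eq_1]
  exact _root_.True.intro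
end

-- part: TAB/He/Dat
section
set_option linter.all false

/-!
# The table of `He` : numerical data and certificates (helper88, TAB)

The types are 0:1a 1:2a 2:2b 3:3a 4:3b 5:4a 6:4b 7:4c 8:5a 9:6a 10:7ab 11:7c 12:7de 13:8a 14:10a 15:12b 16:14ab 17:14cd
18:15a 19:17ab 20:21ab 21:28ab 22:6b 23:12a 24:21cd.
-/

set_option autoImplicit false
set_option maxRecDepth 100000

namespace Cfsg.Agent.TAB.He

open Cfsg Cfsg.Agent.TAB.Eng Cfsg.Agent.TAB.Use Cfsg.Agent.TAB.Co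

/-- the types -/
def D : Dat where
n := 25
N := 4030387200
ordL := [1, 2, 2, 3, 3, 4, 4, 4, 5, 6, 7, 7, 7, 8, 10, 12, 14, 14, 15, 17, 21, 28, 6, 12, 21]
cntL := [1, 24990, 187425, 533120, 7996800, 5997600, 10495800, 31487400, 13434624, 55977600, 6854400, 3916800,
    82252800, 251899200, 201519360, 335865600, 143942400, 575769600, 268692480, 474163200, 383846400, 287884800,
    167932800, 335865600, 383846400]
pwL := [[],
[(1, 1)],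
[(1, 2)],
[(1, 3)],
[(1, 4)],
[(1, 5), (2, 1)],
[(1, 6), (2, 2)],
[(1, 7), (2, 2)],
[(1, 8)],
[(1, 9), (2, 3), (3, 1)],
[(1, 10)],
[(1, 11)],
[(1, 12)],
[(1, 13), (2, 7), (4, 2)],
[(1, 14), (2, 8), (5, 1)],
[(1, 15), (2, 9), (3, 5), (4, 3), (6, 1)],
[(1, 16), (2, 10), (7, 1)],
[(1, 17), (2, 12), (7, 2)],
[(1, 18), (3, 8), (5, 3)],
[(1, 19)],
[(1, 20), (3, 11), (7, 3)],
[(1, 21), (2, 16), (4, 10), (7, 5), (14, 1)],
[(1, 22), (2, 4), (3, 2)],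
[(1, 23), (2, 22), (3, 6), (4, 4), (6, 2)],
[(1, 24), (3, 10), (7, 4)]]

/-- the seeds : the characters of degrees 2058, 1275, 680 and the numbers of square roots and fourth roots -/
def seeds : List (List ℤ) := [
[2058, 154, 42, 42, 0, 14, 18, 2, 8, 10, 0, 0, 0, 2, 4, 2, 0, 0, 2, 1, 0, 0, 0, 0, 0],
[1275, 75, 27, 15, 0, 7, 3, 3, 0, 3, -6, 1, 1, -1, 0, 1, -2, -1, 0, 0, 1, 0, 0, 0, 0],
[680, 56, 8, 14, -1, 0, 8, 0, 5, 2, 8, -6, 1, 0, 1, 0, 0, 1, -1, 0, 0, 0, -1, -1, -1],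
[212416, 240, 224, 106, 22, 0, 0, 8, 16, 6, 22, 1, 8, 0, 0, 0, 2, 0, 1, 1, 1, 0, 2, 0, 1],
[48193216, 0, 1344, 736, 64, 0, 0, 0, 16, 0, 64, 1, 8, 0, 0, 0, 0, 0, 1, 1, 1, 0, 0, 0, 1]]

/-- the sums of the Galois orbits of irreducible characters, but for the degrees 22050 and 7650 -/
def rest : List (List ℤ) := [
[1, 1, 1, 1, 1, 1, 1, 1, 1, 1, 1, 1, 1, 1, 1, 1, 1, 1, 1, 1, 1, 1, 1, 1, 1],
[680, 56, 8, 14, -1, 0, 8, 0, 5, 2, 8, -6, 1, 0, 1, 0, 0, 1, -1, 0, 0, 0, -1, -1, -1],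
[1275, 75, 27, 15, 0, 7, 3, 3, 0, 3, -6, 1, 1, -1, 0, 1, -2, -1, 0, 0, 1, 0, 0, 0, 0],
[1920, 64, 0, 21, 0, 8, 0, 0, -5, 1, 9, 9, 2, 0, -1, -1, 1, 0, 1, -1, 0, 1, 0, 0, 0],
[4080, 16, 48, -6, 0, 0, 0, 0, 5, -2, 6, 13, -1, 0, 1, 0, 2, -1, -1, 0, 1, 0, 0, 0, 0],
[4352, 128, 0, 14, 8, 0, 0, 0, 2, 2, -2, -9, -2, 0, -2, 0, 2, 0, -1, 0, 0, 0, 0, 0, 1],
[6272, -64, 0, 35, 8, -8, 0, 0, -3, -1, 7, 0, 0, 0, 1, 1, -1, 0, 0, -1, 0, -1, 0, 0, 1],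
[6528, 64, 0, -15, 0, -8, 0, 0, 3, 1, -3, 11, 4, 0, -1, 1, 1, 0, 0, 0, -1, -1, 0, 0, 0],
[10880, -64, 0, -1, 8, 8, 0, 0, 5, -1, -5, 2, 2, 0, 1, -1, -1, 0, -1, 0, -1, 1, 0, 0, 1],
[11900, 140, 28, 20, -7, 0, 4, 4, 0, -4, 0, -7, 0, 0, 0, 0, 0, 0, 0, 0, -1, 0, 1, 1, 0],
[13720, -56, 56, -14, 7, 0, 8, 0, -5, -2, 0, 0, 0, 0, -1, 0, 0, 0, 1, 1, 0, 0, -1, -1, 0],
[14400, 0, -64, 0, 6, 0, 0, 0, 0, 0, 8, -6, 1, 0, 0, 0, 0, -1, 0, 1, 0, 0, 2, 0, -1],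
[17493, 21, 21, -21, 0, -7, -3, 5, -7, 3, 0, 0, 0, 1, 1, -1, 0, 0, -1, 0, 0, 0, 0, 0, 0],
[20825, -55, -7, 35, -1, 1, -7, 1, 0, -1, -7, 0, 0, 1, 0, 1, 1, 0, 0, 0, 0, 1, -1, -1, -1],
[23324, -196, 28, 14, -7, 0, 4, -4, -1, 2, 0, 0, 0, 0, -1, 0, 0, 0, -1, 0, 0, 0, 1, 1, 0],
[102, 22, 6, 12, 0, 6, 6, -2, 2, 4, -3, 4, -3, 2, 2, 0, 1, -1, 2, 0, -2, -1, 0, 0, 0],
[306, 18, -14, 0, 6, -6, 2, 2, 6, 0, 5, 12, -2, 2, -2, 0, -3, 0, 0, 0, 0, 1, -2, 2, -1],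
[2058, -70, 42, 42, 0, -14, -6, 2, 8, 2, 0, 0, 0, -2, 0, -2, 0, 0, 2, 1, 0, 0, 0, 0, 0],
[2550, 70, -42, 30, 0, -2, 6, -2, 0, -2, -12, 2, 2, 2, 0, -2, 0, 0, 0, 0, 2, -2, 0, 0, 0],
[14994, 162, -14, 0, 6, -6, 2, -6, -6, 0, -7, 0, 0, -2, 2, 0, 1, 0, 0, 0, 0, 1, -2, 2, -1],
[15300, 180, -28, 0, -6, -12, 4, -4, 0, 0, -2, 12, -2, 0, 0, 0, -2, 0, 0, 0, 0, 2, 2, -2, 1],
[22950, -90, -90, 0, 0, 6, 6, 6, 0, 0, -3, 18, -3, -2, 0, 0, 1, 1, 0, 0, 0, -1, 0, 0, 0],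
[43008, 0, 0, -48, 0, 0, 0, 0, 8, 0, 0, -14, 0, 0, 0, 0, 0, 0, 2, -2, 1, 0, 0, 0, 0]]

/-- the sum -/
def u : List ℤ := [29700, 180, 36, 0, 0, 12, -12, -4, 0, 0, 6, 6, -1, 0, 0, 0, -2, 1, 0, 1, 0, -2, 0, 0, 0]

/-- the difference -/
def v : List ℤ := [14400, 0, -64, 0, -12, 0, 0, 0, 0, 0, 8, -6, 1, 0, 0, 0, 0, -1, 0, 1, 0, 0, -4, 0, 2]

/-- the character of degree 22050 -/
def w : List ℤ := [22050, 90, -14, 0, -6, 6, -6, -2, 0, 0, 7, 0, 0, 0, 0, 0, -1, 0, 0, 1, 0, -1, -2, 0, 1]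

/-- the rational character of degree 7650 -/
def w2 : List ℤ := [7650, 90, 50, 0, 6, 6, -6, -2, 0, 0, -1, 6, -1, 0, 0, 0, -1, 1, 0, 0, 0, -1, 2, 0, -1]

/-- the coefficients in the regular character -/
def wts : List ℤ := [7200, 1, 680, 1275, 1920, 4080, 4352, 6272, 6528, 10880, 11900, 13720, 14400, 17493, 20825,
    23324, 51, 153, 1029, 1275, 7497, 7650, 11475, 21504]

/-- the orbits -/
def blocks : List (List (ℕ × ℤ)) := [[(0, 1)], [(1, 1)], [(2, 1)], [(3, 1)], [(4, 1)], [(5, 1)], [(6, 1)], [(7, 1)],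
    [(8, 1)], [(9, 1)], [(10, 1)], [(11, 1)], [(12, 1)], [(13, 1)], [(14, 1)], [(15, 1), (16, 1)], [(17, 1), (18, 1)],
    [(19, 1), (20, 1)], [(21, 1), (22, 1)], [(23, 1), (24, 1)], [(25, 1), (26, 1)], [(27, 1), (28, 1)], [(29, 1), (30,
    1)], [(31, 1)], [(32, 1)]]

/-- the degrees -/
def degL : List ℕ := [1, 680, 1275, 1920, 4080, 4352, 6272, 6528, 10880, 11900, 13720, 14400, 17493, 20825, 23324, 51,
    51, 153, 153, 1029, 1029, 1275, 1275, 7497, 7497, 7650, 7650, 11475, 11475, 21504, 21504, 22050, 7650]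

/-- the table -/
def RR : Rows := ⟨degL, blocks.zip (rest ++ [w, w2])⟩

/-- the primes and the sections -/
def PL : List (ℕ × ℕ × List ℕ) := [(2, 10, [0, 3, 4, 8, 10, 12]),
  (3, 3, [0, 1, 2, 5, 6, 8, 10, 11]),
  (5, 2, [0, 1, 3]),
  (7, 3, [0, 1, 2, 3, 4, 5]),
  (17, 1, [0])]

/-- the certificates -/
def CA : List (ℕ × ℕ × List Cert) := [
  (2, 10, [
⟨0, [.gen 0 1 0, .gen 1 1 0, .mul 1 0, .mul 1 1, .gen 2 1 0, .gen 3 1 0, .gen 4 1 0, .lin [(931, 0)], .lin [(118, 6), (844, 5), (782, 4), (931, 3),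
      (363, 2)], .lin [(1, 3)], .lin [(375, 8), (478, 7), (307, 6)], .lin [(209, 8), (418, 7)], .lin [(1, 8)]], [(6, 1), (3, 4), (4, 4), (5, 8), (1,
      16), (0, 64)]⟩,
⟨3, [.one, .gen 1 1 0, .mul 0 0, .lin [(123, 2), (688, 1), (213, 0)], .lin [(585, 3), (439, 2)], .lin [(1, 4)]], [(2, 1), (0, 2), (1, 8)]⟩,
⟨4, [.one, .gen 3 1 0, .mul 0 0, .lin [(158, 1), (691, 0)], .lin [(931, 2)], .lin [(1, 4)]], [(2, 1), (0, 2), (1, 8)]⟩,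
⟨8, [.one, .gen 0 1 0, .lin [(8, 1), (767, 0)], .lin [(1, 2)]], [(0, 1), (1, 4)]⟩,
⟨10, [.one, .gen 1 1 0, .mul 0 0, .lin [(250, 1), (895, 0)], .lin [(853, 2)], .lin [(1, 4)]], [(2, 1), (0, 2), (1, 8)]⟩,
⟨12, [.one, .gen 1 1 0, .lin [(513, 1), (511, 0)], .lin [(1, 2)]], [(0, 1), (1, 2)]⟩]),
  (3, 3, [
⟨0, [.one, .gen 0 1 0, .lin [(14, 0)], .lin [(1, 2)]], [(2, 1), (0, 3)]⟩,
⟨1, [.one, .gen 0 1 0, .lin [(4, 1), (14, 0)], .lin [(1, 2)]], [(0, 1), (1, 9)]⟩,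
⟨2, [.one, .gen 0 1 0, .lin [(3, 1), (7, 0)], .lin [(1, 2)]], [(0, 1), (1, 3)]⟩,
⟨5, [.one, .gen 0 1 0, .lin [(8, 1), (11, 0)], .lin [(1, 2)]], [(0, 1), (1, 3)]⟩,
⟨6, [.one, .gen 1 1 0, .lin [(3, 1), (17, 0)], .lin [(1, 2)]], [(0, 1), (1, 3)]⟩,
⟨8, [.one, .gen 0 1 0, .lin [(22, 1), (4, 0)], .lin [(1, 2)]], [(0, 1), (1, 3)]⟩,
⟨10, [.one, .gen 1 1 0, .lin [(3, 1), (14, 0)], .lin [(1, 2)]], [(0, 1), (1, 3)]⟩,
⟨11, [.one, .gen 2 1 0, .lin [(3, 1), (14, 0)], .lin [(1, 2)]], [(0, 1), (1, 3)]⟩]),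
  (5, 2, [
⟨0, [.one, .lin [(1, 0)]], [(0, 1)]⟩,
⟨1, [.one, .gen 2 1 0, .lin [(11, 1), (19, 0)], .lin [(1, 2)]], [(0, 1), (1, 5)]⟩,
⟨3, [.one, .gen 0 1 0, .lin [(4, 1), (13, 0)], .lin [(1, 2)]], [(0, 1), (1, 5)]⟩]),
  (7, 3, [
⟨0, [.one, .gen 1 1 0, .gen 2 1 0, .lin [(72, 2), (160, 1), (111, 0)], .lin [(6, 3), (1, 2)], .lin [(1, 4)]], [(1, 1), (3, 7), (0, 7)]⟩,
⟨1, [.one, .gen 0 1 0, .lin [(7, 1), (216, 0)], .lin [(1, 2)]], [(0, 1), (1, 7)]⟩,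
⟨2, [.one, .gen 0 1 0, .lin [(7, 1), (8, 0)], .lin [(1, 2)]], [(0, 1), (1, 7)]⟩,
⟨3, [.one, .gen 0 1 0, .lin [(7, 1), (8, 0)], .lin [(1, 2)]], [(0, 1), (1, 7)]⟩,
⟨4, [.one, .gen 3 1 0, .lin [(89, 1), (261, 0)], .lin [(1, 2)]], [(0, 1), (1, 7)]⟩,
⟨5, [.one, .gen 0 1 0, .lin [(7, 1), (73, 0)], .lin [(1, 2)]], [(0, 1), (1, 7)]⟩]),
  (17, 1, [
⟨0, [.one, .lin [(1, 0)]], [(0, 1)]⟩])]

theorem ok_A : Sm1.okC D PL CA seeds (u :: v :: rest) = true := by decide +kernel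

theorem ok_H : okHalf D u v w 14850 (wts.zip (v :: rest)) = true := by decide +kernel

theorem ok_R : Sm1.okR D RR = true := by decide +kernel

/-- **the consequences of the table** -/
theorem fin {G : Type*} [Group G] [Finite G] (h : Seeded G D seeds) (hk : 33 ≤ Nat.card (ConjClasses G)) :
    VAN.Van3 G ∧ OddRat G ∧ OddSig G ∧ DegList G degL := by
  obtain ⟨T, hm, hs⟩ := h
  have h1 := Sm1.virt_okC hm.1 hs ok_A
  have h2 := h1 u List.mem_cons_self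
  have h3 := virt_half hm h2 (fun p hp => h1 _ (List.mem_cons_of_mem _ (List.of_mem_zip hp).2)) ok_H
  have h4 : Virt T (nth w2) := (h2.add (h3.smul (-1))).congr (by decide +kernel)
  have hT : Tab T RR := Sm1.tab_of_cls hm (fun r hr => List.forall_mem_append.2
    ⟨fun r hr => h1 r (List.mem_cons_of_mem _ (List.mem_cons_of_mem _ hr)),
      List.forall_mem_cons.2 ⟨h3, List.forall_mem_singleton.2 h4⟩⟩ _ (List.of_mem_zip hr).2) ok_R hk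
  have hI : Inh T := inh_of_mass hm (by decide +kernel)
  exact ⟨hT.van3 hI hm.1 [(2, 10), (3, 3), (5, 2), (7, 3), (17, 1)] (by decide) 1 17 19
      (by decide +kernel), oddRat2 hT hI [10, 19] [17] rfl rfl (by decide +kernel),
    oddSig2 hT hI [(10, 0, 7, 3), (19, 0, 17, 6), (17, 1, 7, 3)] rfl (by decide +kernel), hT.degList⟩

end Cfsg.Agent.TAB.He
end
end
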