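import Cfsg.Agent.TAB.Sm2.M11_m3
import Cfsg.Agent.H334.Ore.M24
import Cfsg.Agent.H729.TransFast
import Cfsg.Agent.TAB.F22.FxB_m3
import Cfsg.Agent.H841.TwG_m3
import Cfsg.Prelude.Def_Spor_Fi24
import Cfsg.Agent.DS.Sp.F24A
import Cfsg.Agent.DS.Sp.F24SB
import Cfsg.Agent.H841.SylFiveD
import Cfsg.Agent.S1698
import Cfsg.Agent.Prune
set_option linter.all false

section
prune_inst 0x7f00000000000000000000000000000000000000000000000000000000000000000000000000000000000000000000000000000000000000000000000000000000000000000000000000000000000000003fffffffffffffffffffffffffffbeffbdffffffff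

-- part: TAB/Sm2/M24
section
set_option linter.all false

/-!
# The character table of `M24` (helper3, TAB)
-/

set_option autoImplicit false
set_option maxRecDepth 100000

namespace Cfsg.Agent.TAB.Sm2.M24

open Cfsg Cfsg.Agent.TAB.Eng Cfsg.Agent.TAB.Use
open Cfsg.Agent.SporadicA.GolayBase Cfsg.Agent.SporadicA.GolayPerm
open Cfsg.Agent.SporadicStructure.M24El Cfsg.Agent.H729.Trans Cfsg.Agent.H729.MData
open scoped Pointwise

def dat : Dat where
  n := 21
  N := 244823040
  ordL := [1, 2, 2, 3, 3, 4, 4, 4, 5, 6, 6, 7, 8, 10, 11, 12, 12, 14, 15, 21, 23]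
  cntL := [1, 11385, 31878, 226688, 485760, 637560, 1912680, 2550240, 4080384, 10200960, 10200960, 11658240, 15301440, 12241152, 22256640, 20401920, 20401920, 34974720, 32643072, 23316480, 21288960]
  pwL := [[], [(1, 1)], [(1, 2)], [(1, 3)], [(1, 4)], [(1, 5), (2, 1)], [(1, 6), (2, 1)], [(1, 7), (2, 2)], [(1, 8)], [(1, 9), (2, 3), (3, 1)], [(1, 10), (2, 4), (3, 2)], [(1, 11)], [(1, 12), (2, 6), (4, 1)], [(1, 13), (2, 8), (5, 2)], [(1, 14)], [(1, 15), (2, 9), (3, 5), (4, 3), (6, 1)], [(1, 16), (2, 10), (3, 7), (4, 4), (6, 2)], [(1, 17), (2, 11), (7, 1)], [(1, 18), (3, 8), (5, 3)], [(1, 19), (3, 11), (7, 4)], [(1, 20)]]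

def v₁ : List ℤ := [24, 8, 0, 6, 0, 0, 4, 0, 4, 2, 0, 3, 2, 0, 2, 0, 0, 1, 1, 0, 1]

def v₂ : List ℤ := [2576, 112, 32, 20, 14, 0, 8, 0, 6, 4, 2, 0, 4, 2, 2, 0, 0, 0, 0, 0, 0]

def rA : List (List ℤ) := [[1, 1, 1, 1, 1, 1, 1, 1, 1, 1, 1, 1, 1, 1, 1, 1, 1, 1, 1, 1, 1],
  [23, 7, -1, 5, -1, -1, 3, -1, 3, 1, -1, 2, 1, -1, 1, -1, -1, 0, 0, -1, 0],
  [252, 28, 12, 9, 0, 4, 4, 0, 2, 1, 0, 0, 0, 2, -1, 1, 0, 0, -1, 0, -1],
  [253, 13, -11, 10, 1, -3, 1, 1, 3, -2, 1, 1, -1, -1, 0, 0, 1, -1, 0, 1, 0],
  [483, 35, 3, 6, 0, 3, 3, 3, -2, 2, 0, 0, -1, -2, -1, 0, 0, 0, 1, 0, 0],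
  [1035, 27, 35, 0, 6, 3, -1, 3, 0, 0, 2, -1, 1, 0, 1, 0, 0, -1, 0, -1, 0],
  [1265, 49, -15, 5, 8, -7, 1, -3, 0, 1, 0, -2, 1, 0, 0, -1, 0, 0, 0, 1, 0],
  [1771, -21, 11, 16, 7, 3, -5, -1, 1, 0, -1, 0, -1, 1, 0, 0, -1, 0, 1, 0, 0],
  [2024, 8, 24, -1, 8, 8, 0, 0, -1, -1, 0, 1, 0, -1, 0, -1, 0, 1, -1, 1, 0],
  [2277, 21, -19, 0, 6, -3, 1, -3, -3, 0, 2, 2, -1, 1, 0, 0, 0, 0, 0, -1, 0],
  [3312, 48, 16, 0, -6, 0, 0, 0, -3, 0, -2, 1, 0, 1, 1, 0, 0, -1, 0, 1, 0],
  [3520, 64, 0, 10, -8, 0, 0, 0, 0, -2, 0, -1, 0, 0, 0, 0, 0, 1, 0, -1, 1],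
  [5313, 49, 9, -15, 0, 1, -3, -3, 3, 1, 0, 0, -1, -1, 0, 1, 0, 0, 0, 0, 0],
  [5544, -56, 24, 9, 0, -8, 0, 0, -1, 1, 0, 0, 0, -1, 0, 1, 0, 0, -1, 0, 1],
  [5796, -28, 36, -9, 0, -4, 4, 0, 1, -1, 0, 0, 0, 1, -1, -1, 0, 0, 1, 0, 0],
  [10395, -21, -45, 0, 0, 3, -1, 3, 0, 0, 0, 0, 1, 0, 0, 0, 0, 0, 0, 0, -1]]

def rB : List (List ℤ) := [[90, -6, 10, 0, 6, -6, 2, 2, 0, 0, -2, -1, -2, 0, 2, 0, 2, 1, 0, -1, -2],
  [462, 14, -18, -6, 0, -2, -2, 6, 2, 2, 0, 0, -2, 2, 0, -2, 0, 0, -1, 0, 2],
  [1540, -28, 20, 10, -14, 4, -4, -4, 0, 2, 2, 0, 0, 0, 0, -2, 2, 0, 0, 0, -1],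
  [1980, -36, -20, 0, 6, 12, 4, -4, 0, 0, -2, -1, 0, 0, 0, 0, 2, -1, 0, -1, 2],
  [2070, -42, -10, 0, -6, 6, 6, -2, 0, 0, 2, -2, -2, 0, 2, 0, -2, 0, 0, 1, 0]]

def c2 : List Cert := [⟨0, [.one, .gen 0 1 0, .mul 0 0, .mul 0 1, .gen 1 1 0, .gen 0 1 1, .gen 0 1 2, .lin [(960, 5), (56, 4), (758, 3)], .lin [(16, 7), (166, 6), (360, 5), (495, 4), (97, 3), (764, 2)], .lin [(362, 8), (320, 7), (206, 6), (824, 3), (829, 2)], .lin [(24, 9), (704, 8), (887, 7), (1022, 4)], .lin [(420, 10), (848, 9), (565, 5)], .lin [(536, 11), (959, 10)], .lin [(1, 12)]], [(0, 1), (1, 16), (2, 32), (3, 16), (4, 32), (5, 16), (6, 16)]⟩,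
  ⟨3, [.one, .gen 0 1 0, .mul 0 0, .lin [(4, 2), (424, 1), (555, 0)], .lin [(518, 3), (767, 2)], .lin [(1, 4)]], [(0, 1), (1, 4), (2, 4)]⟩,
  ⟨4, [.one, .gen 0 3 0, .gen 1 1 0, .lin [(4, 2), (641, 1), (1022, 0)], .lin [(858, 3), (85, 1)], .lin [(1, 4)]], [(0, 1), (1, 4), (2, 4)]⟩,
  ⟨8, [.one, .gen 0 1 0, .lin [(4, 1), (767, 0)], .lin [(1, 2)]], [(0, 1), (1, 4)]⟩,
  ⟨11, [.one, .gen 0 1 0, .lin [(515, 1), (511, 0)], .lin [(1, 2)]], [(0, 1), (1, 2)]⟩]

def c3 : List Cert := [⟨0, [.one, .gen 0 1 0, .lin [(9, 1), (3, 0)], .lin [(3, 2), (1, 1)], .lin [(1, 3)]], [(0, 1), (1, 9), (2, 9)]⟩,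
  ⟨1, [.one, .gen 0 1 0, .lin [(22, 1), (4, 0)], .lin [(1, 2)]], [(0, 1), (1, 3)]⟩,
  ⟨2, [.one, .gen 0 2 0, .lin [(3, 1), (1, 0)], .lin [(1, 2)]], [(0, 1), (1, 3)]⟩,
  ⟨5, [.one, .gen 0 2 0, .lin [(22, 1), (4, 0)], .lin [(1, 2)]], [(0, 1), (1, 3)]⟩,
  ⟨7, [.one, .gen 0 4 0, .lin [(3, 1), (1, 0)], .lin [(1, 2)]], [(0, 1), (1, 3)]⟩,
  ⟨8, [.one, .gen 0 1 0, .lin [(13, 1), (17, 0)], .lin [(1, 2)]], [(0, 1), (1, 3)]⟩,
  ⟨11, [.one, .gen 0 1 0, .lin [(3, 1), (17, 0)], .lin [(1, 2)]], [(0, 1), (1, 3)]⟩]

def c5 : List Cert := [⟨0, [.one, .lin [(1, 0)]], [(0, 1)]⟩,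
  ⟨2, [.one, .lin [(1, 0)]], [(0, 1)]⟩,
  ⟨3, [.one, .lin [(1, 0)]], [(0, 1)]⟩]

def c7 : List Cert := [⟨0, [.one, .lin [(1, 0)]], [(0, 1)]⟩,
  ⟨1, [.one, .lin [(1, 0)]], [(0, 1)]⟩,
  ⟨4, [.one, .lin [(1, 0)]], [(0, 1)]⟩]

def c11 : List Cert := [⟨0, [.one, .lin [(1, 0)]], [(0, 1)]⟩]

def c23 : List Cert := [⟨0, [.one, .lin [(1, 0)]], [(0, 1)]⟩]

def cert : List (ℕ × ℕ × List Cert) := [(2, 10, c2), (3, 3, c3), (5, 1, c5), (7, 1, c7), (11, 1, c11), (23, 1, c23)]

theorem h2 : Eng.chkP dat 2 10 (2 ^ 10) [v₁, v₂] c2 (rA ++ rB) = true := by decide +kernel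

theorem h3 : Eng.chkP dat 3 3 (3 ^ 3) [v₁, v₂] c3 (rA ++ rB) = true := by decide +kernel

theorem h5 : Eng.chkP dat 5 1 (5 ^ 1) [v₁, v₂] c5 (rA ++ rB) = true := by decide +kernel

theorem h7 : Eng.chkP dat 7 1 (7 ^ 1) [v₁, v₂] c7 (rA ++ rB) = true := by decide +kernel

theorem h11 : Eng.chkP dat 11 1 (11 ^ 1) [v₁, v₂] c11 (rA ++ rB) = true := by decide +kernel

theorem h23 : Eng.chkP dat 23 1 (23 ^ 1) [v₁, v₂] c23 (rA ++ rB) = true := by decide +kernel

theorem hC : ∀ x ∈ cert, Eng.chkP dat x.1 x.2.1 (x.1 ^ x.2.1) [v₁, v₂] x.2.2 (rA ++ rB) = true := by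
  intro x hx
  simp only [cert, List.mem_cons, List.not_mem_nil, or_false] at hx
  rcases hx with rfl | rfl | rfl | rfl | rfl | rfl
  · exact h2
  · exact h3
  · exact h5
  · exact h7
  · exact h11
  · exact h23

def cL : List ℕ := [817407390404986744204366159001526304, 544731467543530313478419418836575493,
  693793083484272819170454468079749312, 917150455939460404939281612745760357,
  192613887460257670335523932379526859, 766078480764522267812074796576527779,
  630337107645975966183283128165411569, 970531382982415564833320819807602177,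
  271787644222412330678682982691407336, 441366995423741609312549231512542638,
  352520454927167266887859745207964736, 639394897622536056909024109674466560,
  351844052827762829049910944796316010, 59958983596740834366188217924985573,
  20384579791191895985424879750235369, 145797950094761687161608633680418285,
  54061143792467787905420018783885681, 296418681862333505317491920136189480,
  692782671643430358498584137066202775, 311800539162905419356353909696843884,
  682877364871969722836355392054863185, 152660159869748298187992742290470223,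
  801752737117678585333135729932738209, 798750777926542184211457386217854674,
  547179429011475480724681305400648085]

def nL : List ℕ := [21504, 7680, 1080, 504, 384, 128, 96, 60, 24, 24, 42, 42, 16, 20, 11, 12, 12, 14, 14, 15, 15, 21, 21, 23, 23]

/-- the representatives -/
abbrev cf (i : ℕ) : ℕ := cL.getD i 0

def l₂ : List ℕ := [8245261, 15953934, 12382234, 8101915, 15130653, 11472927, 16748578, 15495207, 5697579, 13348909, 10743859, 16375860, 4108341, 7815223,
  13484091, 9949244, 14557246, 1667135, 16719941, 11980871, 2076750, 14213199, 7860304, 16339027, 15380566, 3006551, 14585945, 9920603,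
  13463644, 4444255, 10350689, 13099110, 15974505, 8216682, 12202091, 2584685, 11128942, 7241839, 5189747, 13791349, 6082678, 10190967,
  11509880, 6877305, 15093882, 8065148, 12337277, 3334270, 12038281, 16662667, 15573134, 2814095, 15454360, 6647963, 4153500, 16265373,
  7770270, 11649183, 7332001, 12275877, 3535014, 15900839, 9400490, 13983917, 6013102, 10260655, 16044209, 8024242, 12394675, 15151284,
  11452598, 6918327, 6140088, 10150073, 13832379, 5132477, 12644542, 499903, 12312770, 8171715, 14807237, 7295174, 5992649, 14012618,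
  9421005, 12988623, 11432145, 15171795, 12423380, 8044757, 16015574, 3354839, 5169370, 9023707, 13869276, 1372381, 10113246, 6095071,
  13291747, 5738725, 14233830, 1990887, 15536361, 6533354, 10805483, 3776749, 11993326, 7360751, 14631152, 9875698, 5366003, 782580,
  13410549, 8737015, 11628792, 7741689, 16285946, 6668540, 10653949, 2896126, 16445697, 6795527, 14496011, 13553934, 15687954, 11890965,
  3920150, 16548119, 1044761, 14369053, 5628190, 9613599, 6254884, 13750567, 15069480, 7033131, 16126253, 7909678, 14131505, 10375475,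
  9285942, 4907319, 8307000, 12161337, 3617082, 15753531, 11170108, 7151933, 14909758, 2412863, 6275395, 9138503, 12538184, 16163146,
  3273035, 7070028, 11317581, 15024463, 12906835, 10412372, 5878101, 14094678, 14889305, 7180634, 11190619, 15782236, 3637597, 12132702,
  3076450, 15311203, 11776356, 7659877, 16400742, 4002151, 13525353, 8884587, 14516588, 1757549, 9728366, 5448047, 16527728, 3891569,
  11911538, 7508339, 6386038, 10887543, 5591417, 1876347, 4632956, 8511869, 999806, 13111679, 11391363, 16236932, 12464518, 7954823,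
  12837259, 10088844, 6201741, 1528207, 8327569, 15839634, 3596691, 7139732, 11248021, 14832023, 14053784, 10453402, 5820827, 12947869,
  4927902, 9200031, 14475682, 1814947, 8843685, 13566375, 16458152, 3961257, 11719082, 7700907, 3117484, 15253933, 6709678, 10564015,
  13201841, 4706738, 14324148, 1950133, 9658806, 5517751, 10961337, 2744762, 11837884, 3801535, 13611456, 14438853, 5435846, 9806279,
  6738377, 15233482, 3088843, 7680460, 11690445, 3981774, 9687505, 1929682, 14295507, 4678101, 13222358, 954839, 3846616, 7553498,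
  11801051, 15598044, 2707933, 6332895, 7983584, 12485089, 11362788, 6959589, 14979558, 2343399, 1565160, 13677033, 6164970, 10043883,
  12800492, 9085422, 14868976, 2470385, 11211250, 7094771, 3559924, 15794677, 9228792, 4948473, 12919290, 160251, 5792252, 1151486,
  16114179, 11530756, 10211851, 5202447, 7262739, 15962645, 8204822, 12214807, 13087258, 5960220, 10330653, 13914655, 14598693, 9908775,
  15393322, 2994731, 7840300, 11596333, 4084270, 16319023, 2089522, 14201395, 4583989, 13324854, 7459386, 11960891, 15503932, 2867773,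
  10838590, 6435391, 14578242, 13472327, 16364104, 4121161, 7803467, 15356493, 6615630, 10723919, 13361745, 2052693, 9564758, 5677655,
  10867289, 2847322, 15475291, 11940444, 7430749, 3707487, 15118945, 11485795, 16077412, 12362342, 5231208, 12677739, 10183276, 6042221,
  13800046, 1426031, 12243568, 8225393, 15934066, 3437171, 7234164, 11088501, 2593398, 14729847, 13951608, 1290873, 10293882, 5915259,
  13042301, 4825726, 15413891, 7762565, 16306822, 4162183, 13431433, 14619276, 9888398, 5354127, 16687760, 3797649, 12014226, 15549077,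
  6546070, 10793623, 5751449, 14246554, 1979035, 8614557, 905886, 13271711, 13890208, 6116003, 5157542, 9036455, 12436136, 8032937,
  16003754, 3367595, 6910636, 11412141, 9409201, 13001395, 10252980, 5972661, 13992630, 1233591, 2552504, 14787257, 7275194, 11031227,
  15876796, 3478205, 520899, 6152900, 10138309, 13845191, 15164104, 11440842, 6931147, 3396300, 16024269, 8004302, 13972177, 6001362,
  10273491, 13030100, 9380566, 4747991, 8147672, 12255961, 3515098, 11068124, 14750430, 2507487, 4141792, 16278241, 7783138, 11637475,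
  15434468, 2937573, 10646246, 6628071, 9851625, 1635050, 8762092, 4383469, 13386478, 725743, 6509297, 2794227, 7385844, 3752694,
  13251320, 877305, 8635130, 4494075, 1999612, 9446143, 14394118, 1897223, 15696649, 10908427, 16540428, 3879693, 11899662, 7521039,
  14537488, 5468947, 13513493, 8897303, 11789080, 7648025, 16388890, 4014875, 6771484, 3056414, 3658529, 12153634, 8266531, 14902053,
  7193382, 11178791, 10400552, 5890857, 14107434, 9261869, 258862, 12886831, 7058224, 11330353, 15012659, 12518196, 7885621, 3253047,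
  12768057, 5010234, 9118523, 13710140, 1467197, 10011454, 7172929, 14930754, 8295236, 12174149, 3629894, 15741767, 9298762, 4895563,
  5854030, 10355535, 16139089, 7922514, 15049556, 2290517, 11293526, 7013207, 6234968, 9991001, 1495898, 13730651, 9147228, 5030749,
  12739422, 340831, 14357345, 5616482, 9626467, 13169508, 1024869, 4608871, 7500648, 11871081, 3900266, 10929004, 6394733, 2646895,
  8876912, 13534066, 643955, 5489524, 9737077, 1717110, 15287160, 3019641, 10531706, 7603070, 10445697, 14062467, 4969349, 12940166,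
  15815561, 12100491, 14857100, 2483085, 11223950, 7082895, 9106322, 5088147, 1553300, 13689749, 6177686, 10032023, 11350936, 6972313,
  14992282, 2331547, 7963548, 3175326, 15618976, 10986402, 6353827, 3859364, 7541670, 11813799, 4666281, 13210538, 967595, 5559212,
  9667501, 1909678, 7693232, 11678641, 3969970, 10605492, 6718389, 15213494, 1790904, 14418873, 5415866, 570301, 8786878, 4277183,
  11858880, 7578561, 16581570, 3822531, 10949573, 2732998, 14336968, 1938377, 9647050, 5530571, 947148, 13181901, 4686798, 8442831,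
  3130320, 15242193, 6697938, 10576851, 3941333, 11699158, 4322264, 8823769, 9782236, 5379037, 12960737, 4940770, 9188323, 14033892,
  1143781, 5800935, 7119848, 2446314, 14812139, 12063724, 10068976, 13652978, 1508339, 5051380, 9061365, 320502, 3195897, 2302972,
  4158467, 15451143, 14672904, 8778767, 15578129, 16667668, 12035094, 7402519, 13267995, 5714973, 14259230, 2016287, 10155046, 6136871,
  11457577, 15148075, 12399660, 8021037, 16041006, 3380271, 6018097, 13988914, 9397301, 13014071, 15905848, 3531833, 12272698, 8131643,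
  14767165, 11052095, 13874243, 5174341, 16020553, 8049738, 12420171, 15176780, 11428942, 6894671, 9426002, 14009429, 5989462, 10237015,
  7291993, 14804058, 2536539, 8168540, 3495006, 15860831, 15430752, 6673507, 4179044, 16290917, 7746662, 11625575, 13415530, 779371,
  5370988, 9872493, 11998321, 3781746, 10810484, 6530165, 15533174, 2774135, 1995896, 14230649, 5735546, 9491579, 13288572, 889981,
  8598654, 4482175, 15135874, 8107140, 12379269, 16061575, 5215371, 13816973, 6059150, 10167439, 15950993, 8242322, 12227731, 2610325,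
  11105430, 7218327, 10310809, 1307802, 13935771, 9352348, 4842653, 13059230, 14562465, 9946275, 13489316, 4420775, 7820456, 4105386,
  10740908, 6599853, 15340718, 2966703, 13345970, 849075, 5694644, 9548981, 2036918, 14173367, 15492280, 2831545, 10851514, 6472891,
  3724476, 7414974, 13460675, 9925828, 14582982, 1692871, 3011784, 15377609, 10704075, 16336076, 4068557, 11580622, 14218448, 2073809,
  5657811, 13309141, 4568278, 8578263, 11977944, 7443673, 3695835, 6452444, 10822877, 2852062, 16098528, 3339489, 12342498, 8062179,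
  15090917, 6874342, 10196200, 6079721, 13788394, 1389803, 5186796, 8942829, 447726, 12682479, 7247088, 11126001, 2581746, 14693619,
  12199156, 3441911, 4805882, 9307387, 13899004, 1262845, 10458373, 14050567, 11253002, 7136523, 3601676, 15836429, 8324366, 12080399,
  6206738, 10085651, 12842260, 5068055, 7959832, 12461337, 11388188, 6984989, 14955806, 2319647, 16598305, 7595298, 11842851, 15639844,
  2749733, 10966310, 9663785, 1955114, 14320939, 4703533, 13198638, 931119, 6714673, 15258930, 3114291, 7705908, 11715893, 3958070,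
  13571384, 8840506, 4306235, 1811772, 5395774, 9766207, 11003201, 15603011, 7558469, 3843399, 13227337, 4683082, 14300492, 1926477,
  9684302, 5543247, 16483664, 3986769, 11695442, 7677267, 3093844, 15230293, 6735190, 10589527, 9811288, 5432665, 14435674, 1774939,
  8803677, 587102, 14079328, 10429794, 5797219, 12924261, 4953446, 9225575, 12117352, 15799658, 3556715, 7099756, 11208045, 2467182,
  5105008, 9090417, 12797299, 10048884, 6161781, 13673846, 2348408, 14976377, 6956410, 3159421, 5633409, 14374274, 1041798, 13153671,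
  16553352, 3917193, 11888010, 7484811, 6411662, 10913167, 13550993, 8861075, 14493076, 1734037, 9754006, 5473687, 6792600, 10548633,
  3036570, 15271323, 11736476, 7619997, 14914977, 7157154, 11167139, 15758756, 3614117, 12158374, 4912552, 9282985, 12866987, 10372524,
  5838253, 1107375, 7906737, 16123314, 3233203, 7030196, 11277749, 2274742, 13747640, 1480121, 9975226, 357820, 12723645, 5014974,
  8283584, 12137921, 3642818, 15779267, 11195844, 7177669, 14886342, 2389447, 14091721, 5875146, 12903884, 243149, 9246158, 4867535,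
  15029712, 11314642, 3270100, 7869910, 9135576, 4994521, 12752346, 378331, 9995741, 1451486, 1005025, 8517090, 4629987, 1881572,
  5588454, 9573863, 10892776, 6383081, 2659819, 7505388, 5453296, 9725425, 1754610, 8881652, 4249077, 599543, 3999224, 10503678,
  14251525, 5756422, 6551049, 15554058, 12011021, 3794446, 9893393, 14616083, 13428246, 767511, 4167192, 16303641, 7759386, 11613723,
  15410716, 2913821, 10671646, 6653471, 8189472, 12297761, 15881763, 7280165, 14792230, 2549287, 13997609, 5977642, 10249771, 13006380,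
  9405998, 4773423, 15189552, 11417138, 6907443, 3372596, 16000565, 8029750, 9041464, 5154361, 480827, 6112828, 10098237, 1357374,
  7317058, 11073091, 15918660, 3520069, 12260934, 8144455, 9385545, 13026891, 10278476, 5998157, 13968974, 1209935, 12412496, 8009297,
  16029266, 3393107, 6936148, 11437653, 13850200, 10135130, 517724, 12629597, 5117534, 8996447, 5727841, 14272098, 2004579, 8640101,
  882278, 13248103, 16647784, 3757673, 7382635, 2799212, 6506094, 10753647, 13391473, 4388466, 8758899, 1631861, 9848438, 5314167,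
  6633080, 10643065, 2934394, 11634300, 10335874, 5957251, 13084293, 9328263, 12220040, 8201865, 15959690, 3462795, 7259788, 11114125,
  2569870, 14706319, 5207696, 12703379, 10208916, 6067861, 13776534, 1402519, 15079065, 6862490, 3319453, 12322462, 10843809, 2872994,
  15500963, 11966116, 7456421, 3684007, 13321897, 4581034, 8566443, 14198444, 9524910, 5637807, 16324272, 4081329, 11593394, 2991796,
  6575798, 10684087, 9905848, 5273273, 1672891, 4429500, 8701629, 681662, 7435970, 11937475, 15480516, 2844357, 10864326, 6461127,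
  5682888, 9561801, 2049738, 14161611, 4544205, 829135, 10729168, 6612689, 15353554, 2954963, 7800532, 11556565, 13469400, 710361,
  8681178, 4400859, 1652444, 5293790, 9365216, 4830945, 13047522, 5920484, 10290917, 1287910, 14735080, 2590441, 11085546, 3434220,
  1431280, 13797105, 6039282, 12674804, 407285, 8951542, 3282682, 6817533, 16201472, 12502786, 7968515, 14997253, 6977286, 11347719,
  6182665, 13694730, 1550091, 5093132, 9103117, 12785423, 11228945, 2488082, 14853907, 12105492, 15812374, 3544855, 12936985, 4966170,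
  9213723, 14059292, 1169181, 5777183, 9824036, 5420837, 14423846, 1787687, 3106600, 15218473, 6723370, 10602283, 3966765, 11675438,
  14313264, 1914673, 9672498, 5556019, 972596, 13207349, 4663094, 8419127, 11818808, 7538489, 6350652, 2692926, 1832768, 14460737,
  9787203, 13584196, 8828742, 4319047, 7718728, 11704137, 3946314, 10581836, 6694733, 15238990, 4691793, 13186898, 943955, 5535572,
  9643861, 1935190, 2729817, 10946394, 6313819, 3819356, 11376480, 6997857, 14968674, 2307939, 7939940, 3200870, 12822376, 325481,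
  9066346, 5048171, 1513324, 13649773, 3581808, 12060531, 14817140, 2443125, 5805944, 1140602, 9185148, 165759, 15329152, 3061633,
  6768515, 4020100, 16385925, 7645062, 8902536, 13510538, 620427, 5465996, 9713549, 1742734, 7526288, 11896721, 3876754, 10905492,
  6371221, 2672535, 1894296, 5576602, 9586587, 13129628, 984989, 8497054, 6260640, 10016673, 1472418, 13707171, 9123748, 5007269,
  12765094, 366503, 3258280, 7882666, 15009708, 2250669, 12892080, 255921, 9258930, 4855731, 11175864, 2369467, 12744641, 5035970,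
  9144259, 13735876, 1492933, 9988038, 7018440, 11290569, 2287562, 3213263, 10360784, 5851089, 1095635, 4892628, 219094, 12847063,
  15738840, 2398172, 11749344, 7608289, 10528741, 3016678, 1714153, 9734122, 641004, 4208622, 2652144, 6391794, 4605944, 8460281,
  8316934, 12171271, 10385421, 14125071, 12568593, 16136211, 7043093, 15063062, 13760537, 6248474, 9168926, 5027871, 14379043, 1038375,
  3930152, 16558121, 11884587, 15681580, 10926126, 6416431, 13563952, 14489653, 5486646, 9758775, 6789177, 15284282, 3041339, 7632956,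
  11741245, 4032574, 14407748, 5601351, 11921484, 7518285, 16521294, 3885135, 14526546, 1767507, 8894549, 13518935, 16410712, 4012121,
  11769946, 7653467, 3070044, 15304797, 6760542, 10516575, 8280161, 15792226, 3647587, 7190628, 11200613, 14882919, 14104680, 10405994,
  5871723, 12900461, 4880494, 9250927, 15034481, 7063666, 11311219, 16156788, 3266677, 7874679, 9132153, 391290, 12757115, 10008700,
  13715582, 1448063, 16611456, 7592067, 15636613, 10971271, 14334090, 1960075, 4716684, 13195407, 3127442, 15263891, 11729044, 7710869,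
  16451734, 3954839, 13576345, 8837275, 14469276, 1808541, 9779358, 5400735, 12957859, 10463396, 5830821, 14047398, 14842025, 7133354,
  11241643, 15833260, 3590317, 12085422, 1538225, 10082482, 6195379, 12830901, 5073078, 9058487, 12458168, 7948473, 3193019, 6990012,
  2316478, 14944447, 14084289, 10426563, 9238726, 4958407, 8358088, 12114121, 3569866, 15804619, 11221196, 7104717, 14862542, 2463951,
  5101777, 12810450, 6174932, 10053845, 1558742, 13670615, 14989528, 2353369, 11356378, 6953179, 11000032, 15608034, 2717923, 7563492,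
  11811045, 3840230, 13232360, 964841, 4671723, 1923308, 14289133, 5548270, 3991792, 7674098, 11684083, 15227124, 3082485, 10594550,
  5429496, 9799929, 1779962, 8808700, 4274429, 575743, 9959682, 13494533, 7825673, 16369930, 4102411, 10737933, 2980110, 15345935,
  13342995, 5691669, 14186774, 2042135, 15489305, 6486298, 10856731, 3729693, 11946270, 7411999, 11483425, 15124771, 12376356, 8096037,
  16066854, 3307815, 5220650, 8976683, 13822252, 1423661, 10164526, 6048047, 15948080, 12233010, 2615604, 14727477, 7215414, 11094327,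
  10316088, 5912889, 13932858, 1296699, 4839740, 9341245, 16095553, 8075586, 12347715, 15104324, 11503942, 6871367, 6093128, 10201417,
  13785419, 5183821, 12695886, 452943, 11139408, 7252305, 2578771, 8210772, 12196181, 3455318, 13093208, 9320794, 4811099, 1276252,
  13904221, 5933406, 4454753, 13457762, 9914725, 1698150, 15374696, 3000681, 10709354, 6568299, 4073836, 11569519, 2070896, 14207345,
  5663090, 9517427, 13314420, 817525, 8575350, 4557175, 7448952, 3692922, 10819964, 6441341, 5142915, 13842821, 6134150, 10144135,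
  11463048, 6928777, 15145354, 8018316, 12388749, 3385742, 6023568, 10271121, 13978003, 9394580, 13019542, 129431, 3529112, 15894937,
  8137114, 14772636, 2505117, 11049374, 7780768, 11659681, 4147618, 16259491, 6642085, 2927015, 5339562, 9841067, 13384108, 747949,
  8767918, 4364719, 15567280, 2808241, 10779058, 6498739, 3750324, 7391670, 8632760, 4516281, 13257146, 858555, 5704124, 9460157,
  15419841, 6678978, 10664387, 16296388, 11622854, 7735751, 8747465, 776650, 13404619, 9869772, 5360077, 1587663, 12003792, 7371217,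
  3770835, 6527444, 10799573, 2779606, 14227928, 1984985, 9497050, 895452, 4479454, 8587743, 10123744, 6105569, 13863394, 1366499,
  5163492, 9017829, 473574, 12610023, 16009704, 3348969, 2161132, 6883822, 12982769, 4766194, 1223157, 10226166, 11020793, 2525690,
  6273537, 12777991, 16177672, 12528138, 7895563, 15022605, 7051790, 11323919, 9271827, 14117396, 10394134, 5884439, 7203352, 11188761,
  14895643, 12147228, 8260125, 15772190, 15325729, 6781474, 16398884, 4024869, 11782694, 7641639, 8907305, 13507115, 5462573, 1747503,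
  11909680, 7531057, 16534066, 3873331, 10902069, 2685494, 14387768, 1890873, 9599546, 5581371, 997948, 13134397, 4639294, 8493631,
  11762241, 4053570, 16419395, 6801989, 15297094, 3029575, 14502473, 5499466, 9747019, 13544012, 653901, 8870478, 15669840, 10938962,
  6404691, 3910228, 7494230, 11864663, 4618841, 13163098, 1018459, 5610076, 9620061, 1862238, 9157218, 5040739, 1505892, 13740645,
  6228582, 9984615, 11303528, 7023209, 15043178, 2284139, 7916140, 3226222, 5864048, 10365553, 9292404, 4889205, 12860022, 223863,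
  3623544, 15735417, 2402941, 11143806, 13617794, 9820805, 1800838, 14428807, 3103369, 10615434, 6728331, 3979916, 7686798, 11672207,
  14310033, 5569170, 9677459, 13220500, 977557, 4659863, 7551640, 11823769, 3852954, 10979996, 6347421, 2697887, 16190113, 7973538,
  15002276, 2341541, 11344550, 6965927, 6187688, 10042025, 1546922, 13683371, 9099948, 5081773, 12790446, 293551, 11233968, 7092913,
  14850738, 2476723, 12094133, 3549878, 12933816, 9218746, 1174204, 5774014, 7011008, 11381441, 14965443, 12470980, 7936709, 3205831,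
  12819145, 5061322, 9071307, 13662924, 1518285, 10062542, 15846096, 3578577, 12073682, 2456276, 14822101, 7113430, 5810905, 14027482,
  1137371, 4934364, 9181917, 178910, 14457568, 1821409, 9792226, 5389027, 4315878, 8817383, 11709160, 3934955, 6691564, 10570477,
  4696816, 8452849, 940786, 13175539, 9640692, 5524213, 2726648, 6318842, 15514370, 2878211, 7469828, 11971333, 13335304, 4578059,
  2083596, 14195469, 5651214, 9530127, 4094736, 16329489, 7834386, 11590419, 15387412, 2988821, 10697494, 6581015, 9902873, 1686298,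
  8715036, 4434717, 13437726, 678687, 13925153, 5954338, 10324771, 13081380, 9333542, 4799271, 8198952, 12208937, 3468074, 11119404,
  14703406, 2558767, 5196593, 12708658, 441139, 6073140, 1399606, 13765431, 15084344, 2194233, 6851387, 3316540, 9362241, 13052739,
  10304324, 5925701, 13945670, 1284935, 2603848, 14740297, 7228234, 11082571, 15928140, 3431245, 13810512, 1436497, 10177362, 6036307,
  12671829, 8956759, 12356440, 3287899, 6830940, 2214750, 3717985, 11934562, 7424867, 2841444, 15469413, 6466406, 9558888, 5671785,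
  14166890, 4549484, 8534893, 826222, 6609776, 10718065, 2960242, 11561844, 715640, 4397946, 8670075, 1641341, 12295040, 8178561,
  15887234, 3488643, 7285636, 11041669, 2546566, 14781319, 14003080, 1244041, 10247050, 5966731, 12995469, 4778894, 6904722, 11406227,
  15997844, 3361685, 5151640, 9030553, 486298, 12598171, 10103708, 1346463, 916384, 13282209, 8608675, 14240676, 1973157, 9485222,
  6540200, 10787753, 2767786, 7351213, 9882544, 5348273, 1600435, 4357044, 8727477, 756662, 11602874, 2902972, 5725120, 2010050,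
  8645572, 4504517, 13245382, 871367, 3763144, 7379914, 2788301, 10759118, 13396944, 736209, 8756178, 4377555, 1629140, 5319638,
  10640344, 6622169, 14760928, 2517985, 11062242, 3509220, 9374696, 4742121, 109547, 1199086, 7998448, 2104311, 1326072, 12618748,
  14474243, 13581318, 16456713, 7715850, 11725835, 15268876, 3124237, 6708239, 4713491, 1965076, 14330901, 9657367, 10976280, 15633434,
  2743323, 7588892, 11836445, 3816478, 11398178, 6994979, 7953446, 12454951, 5078057, 12835882, 6200364, 10079277, 1535022, 13646895,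
  8334384, 12090417, 3595314, 15830067, 11246644, 7130165, 14838838, 2440247, 14044217, 5827642, 12954684, 195645, 9198654, 4918335,
  12500032, 7990337, 16206914, 11361349, 2358342, 14986311, 1563721, 10058826, 6171723, 12807245, 5098574, 9083983, 14867537, 7109714,
  11218003, 15809620, 3566677, 12110934, 4963416, 9235545, 12917851, 10423388, 5790813, 1158239, 13601889, 8813667, 14445668, 1784933,
  9804902, 5426279, 6745192, 10599529, 3087466, 15223915, 11689068, 7670893, 9694320, 5553265, 14294130, 1920115, 4676724, 961654,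
  3837049, 11807866, 2714748, 6331518, 9174145, 6245509, 13757574, 1490055, 15060105, 7040138, 11287691, 16133260, 3243149, 7900303,
  14130320, 10382482, 5848211, 12876949, 4906134, 9276567, 12168344, 15752346, 3607707, 7150748, 11160733, 2419870, 16436384, 4037793,
  11746466, 7629987, 3046564, 15281317, 6786214, 10542247, 9764008, 5483689, 14486698, 1727659, 8854701, 638126, 6421680, 10923185,
  11881652, 7478453, 1035448, 13147321, 4603066, 8481979, 1846461, 9604286, 6765761, 15310018, 3067075, 7658692, 11766981, 4009158,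
  13524168, 8891594, 4259019, 1764556, 5446862, 9718991, 3890384, 16518353, 7515346, 2669781, 10886358, 6376663, 5598424, 9583833,
  1875162, 8510684, 4623581, 13118686, 13720801, 10005731, 12762340, 388325, 9129190, 4988135, 7879912, 3263722, 11308268, 2239727,
  9256176, 4877553, 12897522, 236787, 5868788, 1080566, 14879992, 2383097, 7331072, 14777603, 12283140, 8142085, 15899910, 3525895,
  13024521, 9391371, 13982988, 10267918, 16051472, 3390737, 12393746, 8015123, 15142165, 6925590, 10149144, 6130969, 13839642, 1342747,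
  5139740, 8994077, 498974, 12635423, 14269728, 2026785, 5709091, 13262117, 4521254, 8629543, 12029224, 7396649, 3747115, 6503724,
  10775853, 2805038, 8772913, 752946, 13380915, 9846068, 5336373, 1613111, 2932024, 6638906, 10624315, 16256316, 13299010, 900419,
  5745988, 9502021, 1989958, 14224711, 15543624, 2784585, 10804554, 6524235, 3775820, 7368014, 5365074, 9866579, 13409620, 773461,
  8744278, 4341079, 7740760, 11619673, 10661212, 2887007, 3505504, 15871329, 8162658, 14798180, 2530661, 11025766, 5983592, 10231145,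
  1228138, 4762989, 12979566, 89455, 11423088, 6888817, 2157939, 3345782, 12615032, 470393, 9014650, 1363324, 11951489, 3734914,
  10861956, 6483333, 15486342, 2825607, 2047368, 14183817, 5688714, 9543051, 13340044, 843149, 8551822, 4533647, 15351184, 2977169,
  10734994, 6593939, 4099476, 11546007, 4414873, 699803, 5291420, 1658270, 13069728, 9346466, 4836771, 1301924, 13929893, 5909926,
  11099560, 7212457, 14724522, 3415470, 6053296, 10161585, 1420722, 8973748, 12656054, 413111, 3304888, 2198973, 10341824, 5938625,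
  13909442, 1273283, 4816324, 9317829, 3452361, 12193226, 2575820, 14687693, 458192, 12692945, 5180882, 8936915, 13782484, 1383893,
  6868440, 2178522, 2862560, 6446562, 10816995, 3689957, 4562408, 8572393, 814570, 9514476, 11574768, 6565364, 5246459, 663036,
  15625729, 10984963, 16616964, 3857925, 11828742, 7548423, 982538, 13217291, 9682444, 5565965, 14306830, 1908239, 7691793, 3976723,
  6733332, 10612245, 3100182, 15212055, 14433816, 1797657, 9817626, 5414427, 4292126, 8793631, 10444320, 14069282, 1179171, 4976164,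
  9223717, 12930599, 15822376, 3554857, 12099114, 2481708, 14847533, 7089710, 12795441, 5086770, 9096755, 13688372, 1543733, 10038838,
  6970936, 11341369, 2338362, 3165759, 12975680, 4939331, 14032453, 5815878, 11259464, 7118409, 14827082, 2453067, 12070477, 3575374,
  6213200, 10067537, 1523282, 13659731, 9076308, 5058133, 12815958, 319063, 3210840, 7933530, 14962268, 2301533, 7577184, 11849313,
  3829346, 10956388, 6323813, 2723431, 1945192, 5529194, 9637483, 13180524, 937581, 8449646, 15249008, 10575474, 6688371, 3939956,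
  8822392, 4312697, 540283, 5385852, 3665536, 15777409, 8265346, 12144259, 14900868, 11185798, 5889672, 10391177, 9268876, 4865677,
  12885646, 249487, 11329168, 7048849, 15019666, 2260627, 7892628, 3251862, 12775064, 376473, 9117338, 5000859, 1466012, 13700765,
  4644513, 13139618, 994979, 5586596, 9596581, 1887910, 2682537, 10899114, 6364843, 3870380, 1752752, 5459634, 9707187, 13504180,
  614069, 4239031, 7638712, 10501820, 14364352, 1867457, 9625282, 5607107, 1023684, 13160133, 4615878, 8470215, 11869896, 7491273,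
  6401740, 2645710, 8867537, 650962, 9744084, 1707735, 3026648, 10522331, 7163616, 11149025, 2408162, 15732454, 229096, 12857065,
  4886250, 1089261, 3223281, 2281204, 9981688, 331518, 13881089, 6123266, 10108675, 491269, 9035526, 5148423, 8040200, 3366666,
  15994635, 11411212, 6901517, 2146063, 9416464, 4783889, 13000466, 5971732, 10243861, 1240854, 14786328, 2543385, 11038490, 3485468,
  10682144, 6663969, 15404834, 2907939, 7753508, 11607845, 13422376, 761641, 8732458, 4353835, 1605420, 5345070, 3788592, 7356210,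
  2764597, 10784566, 9482041, 1969978, 8605500, 4464445, 16277312, 4132673, 11644738, 2944836, 6627142, 10637127, 9858888, 5324617,
  1625931, 4382540, 8752973, 733006, 6516560, 10764113, 2793298, 7376725, 876376, 13242201, 4501338, 9445214, 5128032, 9006945,
  511842, 12623715, 10129252, 1322855, 13963120, 1204081, 114548, 4738934, 13442945, 4439938, 8712067, 1683333, 9899910, 5267335,
  6586248, 10694537, 2985866, 11587468, 9535376, 5648273, 14192530, 4575124, 8560533, 802710, 3678105, 6426526, 12332960, 3313571,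
  6856612, 2191270, 13770664, 1396649, 438188, 8916911, 2564016, 14700465, 4796344, 57274, 15110080, 2219969, 6827971, 3293124,
  8961992, 12668874, 401355, 6033356, 3428306, 11079636, 1282008, 28637, 5304288, 1646562, 8675300, 4394981, 823281, 8531954]

private noncomputable def _root_.Cfsg.Agent.GolayF.f0 : {f // @Cfsg.Agent.TAB.Sm2.cwL = f} :=
  ⟨_, by delta Cfsg.Agent.TAB.Sm2.cwL; rewrite [Cfsg.Agent.GolayF.enc_eq, Cfsg.Agent.GolayF.popcount_eq]; exact rfl⟩

theorem l₂_eq : cwL 12 0 0 = l₂ := by (rewrite [Cfsg.Agent.GolayF.f0.2]; decide +kernel)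

theorem inv₂ : Inv (MonoidHom.id M24) l₂ := l₂_eq ▸ inv_cwL fun _ => smul_zero' _

theorem inv₁ : Inv (MonoidHom.id M24) (ptL 16777215) := inv_ptL fun _ => smul_full _

theorem card_eq : Nat.card M24 = dat.N := S0364.result

def tpL : List ℕ := [1, 2, 3, 4, 5, 6, 7, 8, 9, 10, 11, 11, 12, 13, 14, 15, 16, 17, 17, 18, 18, 19, 19, 20, 20]

def bxL : List (ℕ × ℕ) := [(0, 0), (0, 0), (1, 1), (2, 2), (3, 3), (4, 4), (5, 5), (6, 6), (7, 7), (8, 8), (9, 9), (10, 11), (12, 12), (13, 13), (14, 14), (15, 15), (16, 16), (17, 18), (19, 20), (21, 22), (23, 24)]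

def prs : List (ℕ × ℕ) := [(10, 11), (17, 18), (19, 20), (21, 22), (23, 24)]

theorem reps : Reps (MonoidHom.id M24) 25 cf (fun i => nL.getD i 0) prs :=
  reps_of_data H334.Ore.M24R.id_injective H334.Ore.M24R.hF H334.Ore.M24R.hmem _ H334.Ore.M24Data.hC H334.Ore.M24R.hA'
    H334.Ore.M24Data.hP rfl (by decide +kernel) (by decide +kernel) (by decide +kernel)

private noncomputable def _root_.Cfsg.Agent.GolayF.f1 : {f // @Cfsg.Agent.TAB.Sm2.tyB = f} :=
  ⟨_, by delta Cfsg.Agent.H334.Ore.Mat.fc Cfsg.Agent.H729.MData.ppow Cfsg.Agent.H729.MData.ppow._f Cfsg.Agent.TAB.Sm2.cntF Cfsg.Agent.TAB.Sm2.tyB; rewrite [Cfsg.Agent.GolayF.pcomp_eq, Cfsg.Agent.GolayF.pimg_eq, Cfsg.Agent.GolayF.ok_eq, Cfsg.Agent.GolayF.pw_eq]; exact rfl⟩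

theorem t0 : allL (fun i => tyB (ptL 16777215) l₂ dat (fun t => (nth v₁ t, nth v₂ t)) (cf i) (tpL.getD i 0))
    (List.range' 0 5) = true := by (rewrite [Cfsg.Agent.GolayF.f1.2]; decide +kernel)

theorem t1 : allL (fun i => tyB (ptL 16777215) l₂ dat (fun t => (nth v₁ t, nth v₂ t)) (cf i) (tpL.getD i 0))
    (List.range' 5 5) = true := by (rewrite [Cfsg.Agent.GolayF.f1.2]; decide +kernel)

theorem t2 : allL (fun i => tyB (ptL 16777215) l₂ dat (fun t => (nth v₁ t, nth v₂ t)) (cf i) (tpL.getD i 0))
    (List.range' 10 5) = true := by (rewrite [Cfsg.Agent.GolayF.f1.2]; decide +kernel)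

theorem t3 : allL (fun i => tyB (ptL 16777215) l₂ dat (fun t => (nth v₁ t, nth v₂ t)) (cf i) (tpL.getD i 0))
    (List.range' 15 5) = true := by (rewrite [Cfsg.Agent.GolayF.f1.2]; decide +kernel)

theorem t4 : allL (fun i => tyB (ptL 16777215) l₂ dat (fun t => (nth v₁ t, nth v₂ t)) (cf i) (tpL.getD i 0))
    (List.range' 20 5) = true := by (rewrite [Cfsg.Agent.GolayF.f1.2]; decide +kernel)

theorem hT : ∀ i < 25, tyB (ptL 16777215) l₂ dat (fun t => (nth v₁ t, nth v₂ t)) (cf i) (tpL.getD i 0) = true := by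
  intro i hi
  by_cases h0 : i < 5
  · exact forall_lt_of_allL t0 i (by omega) (by omega)
  by_cases h1 : i < 10
  · exact forall_lt_of_allL t1 i (by omega) (by omega)
  by_cases h2 : i < 15
  · exact forall_lt_of_allL t2 i (by omega) (by omega)
  by_cases h3 : i < 20
  · exact forall_lt_of_allL t3 i (by omega) (by omega)
  exact forall_lt_of_allL t4 i (by omega) (by omega)

private noncomputable def _root_.Cfsg.Agent.GolayF.f2 : {f // @Cfsg.Agent.H729.MData.ppow = f} :=
  ⟨_, by delta Cfsg.Agent.H729.MData.ppow Cfsg.Agent.H729.MData.ppow._f; rewrite [Cfsg.Agent.GolayF.pcomp_eq]; exact rfl⟩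

/-- the type function and the table -/
theorem tab : ∃ T : TD M24 dat, T.Mass ∧ Tab T (mkRows rA rB) ∧ ∀ t ∈ ([18, 19] : List ℕ), SigConj T t := by
  obtain ⟨T, hm, h1, h2, h3, h4⟩ := exists_T (tp := fun i => tpL.getD i 0) (bx := fun t => bxL.getD t (0, 0))
    H334.Ore.M24R.id_injective inv₁ inv₂ (D := dat) card_eq (by decide +kernel) (by decide +kernel) (by decide +kernel) reps hT
    (by decide +kernel) (by decide +kernel) (by decide +kernel)
  refine ⟨T, hm, tab_of_rows hm h3 (virt_rows card_eq (fun sd hs => ?_) (by decide +kernel) hC)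
    (by decide +kernel), fun t ht => ?_⟩
  · simp only [List.mem_cons, List.not_mem_nil, or_false] at hs
    rcases hs with rfl | rfl
    · exact h1
    · exact h2
  · simp only [List.mem_cons, List.not_mem_nil, or_false] at ht
    rcases ht with rfl | rfl
    · obtain ⟨x, hx, hx', -⟩ := h4 19 (by decide) (by decide +kernel)
      obtain ⟨y, hy⟩ := H334.Ore.M24R.hmem 966025976748194530206252217109288000 (by (rewrite [Cfsg.Agent.GolayF.ok_eq]; decide +kernel)) (by (rewrite [Cfsg.Agent.GolayF.papp_eq]; decide +kernel))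
      exact ⟨x, 0, 15, 2, hx', by decide +kernel, isConj_pow H334.Ore.M24R.id_injective hx hy (by (rewrite [Cfsg.Agent.GolayF.f2.2, Cfsg.Agent.GolayF.pcomp_eq, Cfsg.Agent.GolayF.ok_eq]; decide +kernel))⟩
    · obtain ⟨x, hx, hx', -⟩ := h4 21 (by decide) (by decide +kernel)
      obtain ⟨y, hy⟩ := H334.Ore.M24R.hmem 479536023166985482303280762655741984 (by (rewrite [Cfsg.Agent.GolayF.ok_eq]; decide +kernel)) (by (rewrite [Cfsg.Agent.GolayF.papp_eq]; decide +kernel))
      exact ⟨x, 0, 21, 2, hx', by decide +kernel, isConj_pow H334.Ore.M24R.id_injective hx hy (by (rewrite [Cfsg.Agent.GolayF.f2.2, Cfsg.Agent.GolayF.pcomp_eq, Cfsg.Agent.GolayF.ok_eq]; decide +kernel))⟩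

theorem van : VAN.Van3 M24 := by
  obtain ⟨T, hm, h, -⟩ := tab
  exact h.van3 (inh_of_mass hm (by decide +kernel)) card_eq [(2, 10), (3, 3), (5, 1), (7, 1), (11, 1), (23, 1)] (by decide +kernel) 4 14 18 (by decide +kernel)

theorem odd : OddRat M24 := by
  obtain ⟨T, hm, h, -⟩ := tab
  exact h.oddRat (inh_of_mass hm (by decide +kernel)) [11, 18, 19] (by decide +kernel) (by decide +kernel)

theorem sig : OddSig M24 := by
  obtain ⟨T, hm, h, h'⟩ := tab
  exact h.oddSig (inh_of_mass hm (by decide +kernel)) [(11, 0, 7, 3)] (by decide +kernel) _ h' (by decide +kernel)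

theorem deg : DegList M24
    [1, 23, 252, 253, 483, 1035, 1265, 1771, 2024, 2277, 3312, 3520, 5313, 5544, 5796, 10395, 45, 45, 231, 231, 770, 770, 990, 990, 1035, 1035] := by
  obtain ⟨T, hm, h, -⟩ := tab
  have h1 : (mkRows rA rB).deg = [1, 23, 252, 253, 483, 1035, 1265, 1771, 2024, 2277, 3312, 3520, 5313, 5544, 5796, 10395, 45, 45, 231, 231, 770, 770, 990, 990, 1035, 1035] := by
    decide +kernel
  exact h1 ▸ h.degList

end Cfsg.Agent.TAB.Sm2.M24

private theorem dce_b7139105a711 : _root_.True := by
  try have : _root_.True := by simp only [_root_.Cfsg.Agent.TAB.Sm2.M24.cert.eq_1]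
  exact _root_.True.intro
end

-- part: SB/Mon/F24/Defs
section
set_option linter.all false

/-!
# S5765, the row `Fi24'`, `O₂(S ⊓ T) = 1`: interface (helper96)

`Geo T Pt Q` : the 3-local geometry. `Pt p` : `p` is 3-central (class 3B), `Q p = O₃(C(p)) = 3^{1+10}`.
`BoxGeo` : no group `S` all of whose invariant 3-subgroups have solvable normalizers has an orbit of commuting points.
`BoxFive` : the case `O_p(S ⊓ T) ≠ 1`, `p ≥ 5`.  See `notes/SB/fi24n.md`.
-/

set_option autoImplicit false

namespace Cfsg.Agent.SB.F24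

open Subgroup Cfsg
open Cfsg.Agent.H841.Ext (ES)

/-- the geometry of the 3-central elements -/
structure Geo {G : Type*} [Group G] (T : Subgroup G) (Pt : G → Prop) (Q : G → Subgroup G) : Prop where
  cube : ∀ {p}, Pt p → p ^ 3 = 1
  ne : ∀ {p}, Pt p → p ≠ 1
  inv : ∀ {p}, Pt p → Pt p⁻¹
  conj : ∀ {p}, Pt p → ∀ g, Pt (g * p * g⁻¹)
  Q_inv : ∀ {p}, Pt p → Q p⁻¹ = Q p
  Q_conj : ∀ {p}, Pt p → ∀ g, ∀ x ∈ Q p, g * x * g⁻¹ ∈ Q (g * p * g⁻¹)
  es : ∀ {p}, Pt p → ES (zpowers p) (Q p)
  Q_le : ∀ {p}, Pt p → Q p ≤ T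
  card : ∀ {p}, Pt p → Nat.card (Q p) = 3 ^ 11
  /-- a pure group `⟨p, w⟩` is a line -/
  pure : ∀ {p w}, Pt p → Pt w → Commute p w → Pt (w * p) → Pt (w * p⁻¹) → w ∈ Q p
  small : ∀ {p w}, Pt p → Pt w → Commute p w → w ∉ Q p → Nat.card ↥(Q p ⊓ centralizer {w}) ≤ 3 ^ 8
  /-- a line commuting with `p` meets `Q p` -/
  meet : ∀ {p a b}, Pt p → Pt a → Pt b → Pt (a * b) → Pt (a * b⁻¹) → Commute p a → Commute p b → Commute a b →
    a ∈ Q p ∨ b ∈ Q p ∨ a * b ∈ Q p ∨ a * b⁻¹ ∈ Q p
  /-- a 3-subgroup of `C(p)` normalizes a standard line through `p` -/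
  line : ∀ {p}, Pt p → ∀ B : Subgroup G, IsPGroup 3 B → (∀ b ∈ B, Commute p b) →
    ∃ q, Pt q ∧ q ∈ Q p ∧ q ∉ zpowers p ∧ (∀ b ∈ B, b * q * b⁻¹ * q⁻¹ ∈ zpowers p) ∧
      ¬ Group.IsSolvable ↥(T ⊓ centralizer {p} ⊓ centralizer {q})
  /-- the two kinds of commuting pairs which are not collinear -/
  kind : ∀ {p w}, Pt p → Pt w → Commute p w → w ∉ Q p →
    (Q p ⊓ centralizer {w} ≤ closure {q | Pt q ∧ q ∈ Q p ∧ Commute q w} ∧
      ¬ Group.IsSolvable ↥(T ⊓ centralizer {p} ⊓ centralizer {w})) ∨
    (∀ a b, Pt a → Pt b → a ∈ Q p → b ∈ Q p → Commute a w → Commute b w → a * b ∈ zpowers p ∨ Pt (a * b))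

/-- the abstract part -/
def BoxGeo : Prop :=
  ∀ (G : Type) [Group G] [Finite G] (T S : Subgroup G) (Pt : G → Prop) (Q : G → Subgroup G), Geo T Pt Q →
    (∀ Y : Subgroup G, Y ≤ T → Y ≠ ⊥ → IsPGroup 3 Y → (∀ s ∈ S, ∀ y ∈ Y, s * y * s⁻¹ ∈ Y) →
      Group.IsSolvable ↥(T ⊓ normalizer (Y : Set G))) →
    ∀ z, Pt z → (∀ s ∈ S, Commute z (s * z * s⁻¹)) → False

/-- the primes `p ≥ 5` -/
def BoxFive : Prop :=
  ∀ S : Subgroup Spor.Fi24, Group.IsSolvable S → MaxInv (commutator Spor.Fi24) S →
    ∀ p : ℕ, p.Prime → 5 ≤ p → ¬ NPar p (commutator Spor.Fi24) S → Seven (commutator Spor.Fi24) S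

end Cfsg.Agent.SB.F24
end

-- part: SB/Mon/F24/Five
section
set_option linter.all false
open scoped Cfsg.Agent.FastGrp

/-!
# S5765, the row `Fi24'`: the primes `p ≥ 5` (helper64)

`as24`; `cent_le` : the centralizers of the elements of prime order; `card_le` : the order of `S`; `boxFive`.
-/

set_option autoImplicit false
set_option maxRecDepth 100000

namespace Cfsg.Agent.SB.F24

open Subgroup Cfsg Cfsg.Agent.H786.FC
open Cfsg.Spor (Fi24)
open Cfsg.Agent.R08.FiTwentyFour (L finite_Fi24 index_commutator card_commutator)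
open Cfsg.Agent.Fischer.Fi24Rep
open Cfsg.Agent.H842.ThreeCl (X)
open Cfsg.Agent.H49.Four.TEight (fgroup24)
open Cfsg.Agent.H840.Lk (zc c2 Clk Cc gen_mem not_comm_lk zc_mem c2_mem nc_zc2 card_conj)
open Cfsg.Agent.H840.NormX (fd mem_cent_pair cent_mul)
open Cfsg.Agent.DS.Sp.F24S
open Cfsg.Agent.H187.FiOdd (card_cent_conj cent_eq_of_zpowers card_cent_five card_cent_seven card_cent_big exists_conj_y7
  card_cent_le)

theorem as24 : AS (commutator Fi24) := by
  have := finite_Fi24
  have hs : IsSimpleGroup (commutator Fi24) := S1698.result.1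
  have hc : ¬ IsMulCommutative (commutator Fi24) := fun h => by
    have h1 : (Nat.card (commutator Fi24)).Prime :=
      @IsSimpleGroup.prime_card _ { (inferInstance : Group (commutator Fi24)) with mul_comm := h.1.1 } hs
    rw [card_commutator] at h1
    exact absurd (h1.eq_one_or_self_of_dvd 2 (by norm_num)) (by norm_num)
  refine ⟨inferInstance, hs, hc, eq_bot_iff.2 fun g hg => mem_bot.2 ?_⟩
  by_cases h : g ∈ commutator Fi24
  · rcases hs.eq_bot_or_eq_top_of_normal (center (commutator Fi24)) inferInstance with h1 | h1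
    · have h2 : (⟨g, h⟩ : commutator Fi24) ∈ center _ := mem_center_iff.2 fun x => Subtype.ext (hg x x.2)
      rw [h1, mem_bot] at h2
      exact congrArg Subtype.val h2
    · exact absurd ⟨⟨fun a b => mem_center_iff.1 (h1.ge (mem_top b)) a⟩⟩ hc
  · refine KFacts.FiTF.Pts.eq_one_of_comm_L fun d _ => ?_
    by_cases hd : d ∈ commutator Fi24
    · exact (hg d hd).symm
    · have h1 := hg _ ((mul_mem_iff_of_index_two index_commutator).2 (iff_of_false h hd))
      rw [mul_assoc] at h1
      exact (mul_left_cancel h1).symm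

/-! ### centralizers -/

theorem cent_two {c : Fi24} (hc : c ∈ commutator Fi24) (ho : orderOf c = 2) :
    Nat.card ↥(commutator Fi24 ⊓ centralizer {c}) ≤ 258247006617600 := by
  classical
  have := finite_Fi24
  rcases CTwoTab.FiTF.classes ⟨c, hc⟩ (by rw [Subgroup.orderOf_mk]; exact ho) with ⟨a, b, P, h⟩ | ⟨g, h⟩
  · obtain rfl : c = a * b := h
    have h1 : ({x | ∃ y ∈ commutator Fi24 ⊓ centralizer {a * b}, y * a * y⁻¹ = x} : Set Fi24).ncard ≤ 2 := by
      refine (Set.ncard_le_ncard (t := {a, b}) ?_ (Set.toFinite _)).trans (by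
        rw [Set.ncard_pair P.ne])
      rintro _ ⟨y, hy, rfl⟩
      exact (OddHalf.D4.Spor.FiTF.pair_fix P.ha P.hb P.ab P.ne
        (mul_inv_eq_iff_eq_mul.2 (mem_centralizer_singleton_iff.1 hy.2))).imp And.left And.left
    have h2 : commutator Fi24 ⊓ centralizer {a * b} ⊓ centralizer {a} ≤ R08.FiTwentyFour.Cab a b := fun x hx => by
      have h3 := mem_centralizer_singleton_iff.1 hx.1.2
      have h4 := mem_centralizer_singleton_iff.1 hx.2
      refine R08.FiTwentyFour.mem_Cab.2 ⟨R08.FiTwentyFour.mem_commutator_iff.1 hx.1.1, h4, ?_⟩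
      rw [← mul_assoc, h4, mul_assoc, mul_assoc] at h3
      exact mul_left_cancel h3
    have h3 := card_le_of_le h2
    rw [OddHalf.D4.Spor.FiTF.card_Cab P] at h3
    rw [card_conj _ a]
    exact (Nat.mul_le_mul h1 h3).trans (by norm_num)
  · obtain rfl : c = g * KFacts.FiTF.Defs.z * (g : Fi24)⁻¹ := congrArg Subtype.val h
    refine (card_le_of_le inf_le_right).trans ?_
    rw [card_cent_conj, KFacts.FiTF.Order.card]
    norm_num

theorem cent_cl {i : Fin 5} {y : Fi24} (h : Cl i y) :
    Nat.card (centralizer ({y} : Set Fi24)) = Nat.card (centralizer ({X i} : Set Fi24)) := by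
  obtain ⟨g, hg | hg⟩ := h
  · rw [← hg, card_cent_conj]
  · rw [← card_cent_conj g, hg, cent_eq_of_zpowers zpowers_inv]

open Cfsg.Agent.H48.WFour in
theorem cent_w : Nat.card (centralizer ({w} : Set Fi24)) ≤ 6 * (3 * 4245696) := by
  classical
  have := finite_Fi24
  have h1 := H840.Lk.card_conj (centralizer ({w} : Set Fi24)) (gen .l)
  set n := ({x | ∃ y ∈ centralizer ({w} : Set Fi24), y * gen .l * y⁻¹ = x} : Set Fi24).ncard with hn
  have h2 : n ≤ 6 := by
    let S : Finset Fi24 := {gen .l, gen .k, gen .l * gen .k * gen .l, zc, c2, zc * c2 * zc}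
    have hS : S.card ≤ 6 := Finset.card_le_six
    rw [← Set.ncard_coe_finset] at hS
    refine (Set.ncard_le_ncard ?_ S.finite_toSet).trans hS
    rintro _ ⟨y, hy, rfl⟩
    obtain ⟨k1, k2⟩ := six_of_comm (h := y) (mem_centralizer_singleton_iff.1 hy)
    simp only [S, Finset.coe_insert, Finset.coe_singleton, Set.mem_insert_iff, Set.mem_singleton_iff]
    rcases k2 with k2 | k2
    · rcases H840.NormX.inv_three fg (gen_mem .l) (gen_mem .k) k1 not_comm_lk k2 with h3 | h3 | h3
      · exact Or.inl h3
      · exact Or.inr (Or.inl h3)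
      · exact Or.inr (Or.inr (Or.inl h3))
    · rcases H840.NormX.inv_three fg zc_mem c2_mem k1 nc_zc2 k2 with h3 | h3 | h3
      · exact Or.inr (Or.inr (Or.inr (Or.inl h3)))
      · exact Or.inr (Or.inr (Or.inr (Or.inr (Or.inl h3))))
      · exact Or.inr (Or.inr (Or.inr (Or.inr (Or.inr h3))))
  have h3 : centralizer ({w} : Set Fi24) ⊓ centralizer ({gen .l} : Set Fi24) ≤ zpowers (zc * c2) ⊔ Cc := by
    rintro g ⟨hg1, hg2⟩
    have gw : Commute g w := mem_centralizer_singleton_iff.1 hg1
    have gl : Commute g (gen .l) := mem_centralizer_singleton_iff.1 hg2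
    have gk : Commute g (gen .k) := by
      rw [← w_l]
      exact (gw.mul_right gl).mul_right gw.inv_right
    have gz : Commute g (zc * c2) := by
      have h4 := (gl.mul_right gk).inv_right.mul_right gw
      rwa [w_eq, inv_mul_cancel_left] at h4
    obtain ⟨x, ⟨m, rfl⟩, u, hu, rfl⟩ := cent_mul fgroup24 zc_mem c2_mem nc_zc2 gz
    rw [mem_cent_pair] at hu
    refine mul_mem (mem_sup_left (zpow_mem_zpowers _ m)) (mem_sup_right ?_)
    rw [← H840.M500.cent_lkzc, mem_cent4]
    refine ⟨?_, ?_, hu.1, hu.2⟩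
    · have h4 := ((lz.mul_right lc).zpow_right m).inv_right.mul_right gl.symm
      rwa [inv_mul_cancel_left] at h4
    · have h4 := ((kz.mul_right kc).zpow_right m).inv_right.mul_right gk.symm
      rwa [inv_mul_cancel_left] at h4
  have h4 : zpowers (zc * c2) ≤ normalizer (Cc : Set Fi24) := by
    refine zp_le_norm fun a ha => ?_
    rw [← H840.M500.cent_lkzc, mem_cent4] at ha
    exact ha.2.2.1.mul_left ha.2.2.2
  have h5 := (card_dvd_of_le h3).trans (card_sup_dvd h4)
  rw [Nat.card_zpowers, H840.NormX.orderOf_mul (fd fgroup24) zc_mem c2_mem nc_zc2, H840.Lk.card_Cc] at h5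
  rw [h1]
  exact Nat.mul_le_mul h2 (Nat.le_of_dvd (by norm_num) h5)

theorem cent_three {y : Fi24} (ho : orderOf y = 3) : Nat.card (centralizer ({y} : Set Fi24)) ≤ 258247006617600 := by
  have := finite_Fi24
  have h3 : y ^ 3 = 1 := ho ▸ pow_orderOf_eq_one y
  have h1 : y ≠ 1 := fun e => by
    rw [e, orderOf_one] at ho
    exact absurd ho (by norm_num)
  have h2 := card_le_of_le (cent_le_norm y)
  obtain ⟨i, h⟩ := cl_all h3 h1
  fin_cases i
  · have h4 : centralizer ({gen .l * gen .k} : Set Fi24) ≤ zpowers (gen .l * gen .k) ⊔ Clk := fun g hg => by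
      obtain ⟨x, hx, u, hu, rfl⟩ := cent_mul fgroup24 (gen_mem .l) (gen_mem .k) not_comm_lk
        (mem_centralizer_singleton_iff.1 hg)
      exact mul_mem (mem_sup_left hx) (mem_sup_right hu)
    have h5 := (card_dvd_of_le h4).trans (card_sup_dvd (zp_le_norm fun a ha =>
      (mem_cent_pair.1 ha).1.mul_left (mem_cent_pair.1 ha).2))
    rw [Nat.card_zpowers, H840.NormX.orderOf_mul (fd fgroup24) (gen_mem .l) (gen_mem .k) not_comm_lk,
      H840.Lk.card_Clk] at h5
    exact (cent_cl h).trans_le ((Nat.le_of_dvd (by norm_num) h5).trans (by norm_num))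
  · obtain ⟨A, -, a1, -, a2⟩ := cl1 h3 h1 h
    have h4 := card_eq_mul (inf_le_right : A ⊓ normalizer ((zpowers y : Subgroup Fi24) : Set Fi24) ≤ _)
    rw [inf_relIndex_right, a2] at h4
    have h5 := card_le_of_le (inf_le_left : A ⊓ normalizer ((zpowers y : Subgroup Fi24) : Set Fi24) ≤ _)
    omega
  · obtain ⟨φ, a1, a2, -⟩ := cl2 h
    rw [← a2, ← Nat.card_congr (MonoidHom.ofInjective a1).toEquiv, H841.Tri.card_NX] at h2
    exact h2.trans (by norm_num)
  · exact h2.trans ((cl3 h3 h1 h).1.trans_le (by norm_num))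
  · exact ((cent_cl h).trans (cent_cl (i := 4) H48.WFour.w_X).symm).trans_le (cent_w.trans (by norm_num))

/-- **The centralizers of the elements of prime order.** -/
theorem cent_le {c : Fi24} (hc : c ∈ commutator Fi24) (ho : (orderOf c).Prime) :
    Nat.card ↥(commutator Fi24 ⊓ centralizer {c}) ≤ 258247006617600 := by
  have := finite_Fi24
  by_cases h2 : orderOf c = 2
  · exact cent_two hc h2
  refine (card_le_of_le inf_le_right).trans ?_
  by_cases h3 : orderOf c = 3
  · exact cent_three h3
  · exact (card_cent_le ho (ho.five_le_of_ne_two_of_ne_three h2 h3) rfl).trans (by norm_num)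

theorem le_cls {c : Fi24} (hc : c ∈ commutator Fi24) (ho : (orderOf c).Prime) : 4860485028 ≤ cls (commutator Fi24) c := by
  have := finite_Fi24
  have h1 := cls_mul_card (commutator Fi24) c
  have h2 := Nat.mul_le_mul_right (cls (commutator Fi24) c) (cent_le hc ho)
  rw [h1, card_commutator] at h2
  omega

/-! ### the order of `S` -/

theorem card_norm {E : Subgroup Fi24} (h : Nat.card E = 25) : Nat.card (normalizer (E : Set Fi24)) ≤ 57600 := by
  have := finite_Fi24
  have : Fact (Nat.Prime 5) := ⟨Nat.prime_five⟩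
  obtain ⟨-, -, ⟨e⟩, -, -, -, -, -, h1, h2⟩ := H841.Five.main (MulEquiv.refl Fi24) (D := L) (Set.image_id _)
    (Sylow.ofCard E (by rw [h, H841.Five.fac]; norm_num))
  rw [Sylow.coe_ofCard] at e h1 h2
  rw [← h1, sup_comm]
  refine Nat.le_of_dvd (by norm_num) ((card_sup_dvd (inf_le_right.trans (centralizer_le_normalizer _))).trans ?_)
  rw [h2, Nat.card_congr e.toEquiv, Nat.card_perm, Nat.card_fin]
  norm_num

theorem card_le {S E : Subgroup Fi24} {p : ℕ} (hp : p.Prime) (h5 : 5 ≤ p) (hE : IsPGroup p E) (h0 : E ≠ ⊥)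
    (hS : ∀ s ∈ S, ∀ x ∈ E, s * x * s⁻¹ ∈ E) : Nat.card S ≤ 15039864 := by
  have := finite_Fi24
  have := Fact.mk hp
  have key : ∀ y ∈ E, ∀ a b : ℕ, Nat.card E ≤ a → Nat.card (centralizer ({y} : Set Fi24)) ≤ b → a * b ≤ 15039864 →
      Nat.card S ≤ 15039864 := fun y hy a b h1 h2 h3 =>
    ((Mon.card_le_of_conj fun s hs => hS s hs y hy).trans
      (Nat.mul_le_mul h1 ((card_le_of_le inf_le_right).trans h2))).trans h3
  have hd : p ∣ Nat.card E := (hE.card_eq_or_dvd).resolve_left fun h => h0 (card_eq_one.1 h)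
  obtain ⟨y, hy⟩ := exists_prime_orderOf_dvd_card' p hd
  rw [← Subgroup.orderOf_coe] at hy
  have pw : ∀ {r k : ℕ}, r.Prime → Nat.card E = r ^ k → orderOf (y : Fi24) = r := fun hr h =>
    hy.trans ((Nat.prime_dvd_prime_iff_eq hp hr).1 (hp.dvd_of_dvd_pow (h ▸ hd)))
  have seven : orderOf (y : Fi24) = 7 → Nat.card (centralizer ({(y : Fi24)} : Set Fi24)) ≤ 306936 := fun h =>
    (card_cent_seven h).elim (fun h => h.2.trans (by norm_num)) And.right
  obtain ⟨h, -⟩ | ⟨h, -⟩ | ⟨-, h⟩ := DS.Sp.F24.card_cases hp hE h0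
  · omega
  · omega
  simp only [List.mem_cons, List.not_mem_nil, or_false] at h
  rcases h with h | h | h | h | h | h | h | h | h | h
  · exact key y y.2 _ _ h.le (card_cent_five (pw (k := 1) Nat.prime_five h)) (by norm_num)
  · exact (card_le_of_le (le_normalizer_of_conj hS)).trans ((card_norm h).trans (by norm_num))
  · exact key y y.2 _ _ h.le (seven (pw (k := 1) Nat.prime_seven h)) (by norm_num)
  · exact key y y.2 _ _ h.le (seven (pw (k := 2) Nat.prime_seven h)) (by norm_num)
  · obtain ⟨z, h1, h2, h3⟩ := exists_conj_y7 h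
    exact key z h1 _ _ h.le ((card_cent_seven h2).resolve_right fun h => h.1 h3).2 (by norm_num)
  all_goals
    have h1 := pw (k := 1) (by norm_num) (h.trans (pow_one _).symm)
    exact key y y.2 _ _ h.le (card_cent_big (by norm_num) h1) (by norm_num)

/-- **The primes `p ≥ 5`.** -/
theorem boxFive : BoxFive := by
  intro S _ _ p hp h5 hn
  have := finite_Fi24
  simp only [NPar, not_forall] at hn
  obtain ⟨E, -, h1, h2, h3⟩ := hn
  have h4 : Nat.card ↥(S ⊓ commutator Fi24) ≤ 15039864 := (card_le_of_le inf_le_left).trans (card_le hp h5 h1 h3 h2)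
  refine Spor.seven_of_inner as24 (fun a _ b _ ha hb => (mul_mem_iff_of_index_two index_commutator).2
    (iff_of_false ha fun h => hb (inv_mem_iff.1 h))) (four_of_card 4860485028 ((Nat.pow_le_pow_left h4 4).trans (by norm_num))
      fun c hc => le_cls hc.2) (fun u hu hu1 => ?_) (by rw [card_commutator]; omega)
  have h6 := fp_le_iff.1 (fp_le_of_prime (T := commutator Fi24) (S := S ⊓ commutator Fi24) (e := 1 / 2) (by norm_num)
    (fun c _ hc ho => (fp_le_div ((meet_le_card _ _ c).trans h4) (le_cls hc ho) (by norm_num)).trans (by norm_num)) u hu hu1)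
  have h7 : (2 : ℚ) * hits (commutator Fi24) (S ⊓ commutator Fi24) u ≤ Nat.card (commutator Fi24) := by linarith
  exact_mod_cast h7

end Cfsg.Agent.SB.F24

private theorem dce_a33bd4b422d4 : _root_.True := by
  try have : _root_.True := by simp only [_root_.Cfsg.Agent.SB.NPar.eq_1]
  exact _root_.True.intro
end
end
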