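import Cfsg.Agent.TAB.F22.FxC_m3
import Cfsg.Agent.H29.TitsExt
import Cfsg.Agent.DZ3.Spor.Tr_m3
import Cfsg.Agent.S0157
import Cfsg.Agent.FastGrp
import Cfsg.Agent.Prune
set_option linter.all false

section
prune_inst 0x7ffffffbffecfddfffff7e3fffdfdffbf3eaffffeffffbfbfffdefbfafdf6feffbe56bafffec58ff9e76e2beb0f87b43ffffffffee6ffc7ffffdfff41ffbffcffdf7b52d71ddbcbe1ffe6fff83f17fee7f3fffffffffffffffffffffffffffffffffffffffff

-- part: TAB/Sm2/TitsMod
section
prune_inst 0x11000000000040002000040c0500000000040000001000100080000410900000038100018010000a0000900000000001900100000000086000001002084a1002220100c00100007c08001100000000000000000000000000000000000000000000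
set_option linter.all false
open scoped Cfsg.Agent.FastGrp

/-!
# The permutation model of the Tits group and the representation of degree `27` (helper3, TAB)

`TG` : the Tits group as a subgroup of index two of `H1`; `wg` : words; `Zp` : the eight involutions;
`exists_rho` : the representation, whose character is irreducible and invariant under all automorphisms.
-/

set_option autoImplicit false
set_option maxRecDepth 100000

namespace Cfsg.Agent.TAB.Sm2.Tits

open Cfsg Cfsg.Agent.SporadicB.RuOrder Cfsg.Agent.SporadicB.RuTits Cfsg.Agent.Omega.TitsIso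
open Cfsg.Agent.Omega.TitsIso.TitsSide (ZC closure_ZC)

/-- **Goursat**, with the images of the generators (the proof is the one of `iso_of_rel`) -/
theorem iso_of_rel'.{u, v} {G : Type u} {T : Type v} [Group G] [Group T] [Finite G] [Finite T]
    [IsSimpleGroup T] {Zg : ZMod 8 → G} {Zt : ZMod 8 → T} (hg : TitsRel Zg) (ht : TitsRel Zt)
    (gen : Subgroup.closure (Set.range Zt) = ⊤) (hne : Zg 0 ≠ Zg 4) (hcard : Nat.card G ≤ Nat.card T)
    (hT : 703 ≤ (Subgroup.centralizer {Zt 0}).index) : ∃ e : G ≃* T, ∀ i, e (Zg i) = Zt i := by
  classical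
  set S : Subgroup (G × T) := Subgroup.closure (Set.range (Zp Zg Zt)) with hS
  have hmem : ∀ i, Zp Zg Zt i ∈ S := fun i => Subgroup.subset_closure ⟨i, rfl⟩
  set Z : ZMod 8 → S := fun i => ⟨Zp Zg Zt i, hmem i⟩ with hZ
  have hrel : TitsRel Z := TitsRel.of_injective S.subtype S.subtype_injective (hg.prod ht)
  have hgen : Subgroup.closure (Set.range Z) = ⊤ := by
    apply Subgroup.map_injective S.subtype_injective
    rw [MonoidHom.map_closure, ← Set.range_comp, ← MonoidHom.range_eq_map, Subgroup.range_subtype]
    exact hS.symm
  obtain ⟨hidx, hidx0⟩ := indexLe S Z hrel hgen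
  set p1 : S →* G := (MonoidHom.fst G T).comp S.subtype with hp1
  set p2 : S →* T := (MonoidHom.snd G T).comp S.subtype with hp2
  have hp1Z : ∀ i, p1 (Z i) = Zg i := fun i => rfl
  have hp2Z : ∀ i, p2 (Z i) = Zt i := fun i => rfl
  have hp2s : Function.Surjective p2 := by
    rw [← MonoidHom.range_eq_top, eq_top_iff, ← gen, Subgroup.closure_le]
    rintro _ ⟨i, rfl⟩
    exact ⟨Z i, hp2Z i⟩
  have hnorm : (p1.ker.map p2).Normal := Subgroup.Normal.map inferInstance p2 hp2s
  rcases hnorm.eq_bot_or_eq_top with hb | ht'
  · have hinj1 : Function.Injective p1 := by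
      rw [injective_iff_map_eq_one]
      intro m hm
      have : p2 m ∈ p1.ker.map p2 := ⟨m, hm, rfl⟩
      rw [hb] at this
      exact Subtype.ext (Prod.ext hm (Subgroup.mem_bot.mp this))
    have hc1 : Nat.card S ≤ Nat.card G := Nat.card_le_card_of_injective p1 hinj1
    have hc2 : Nat.card T ≤ Nat.card S := Nat.card_le_card_of_surjective p2 hp2s
    have b1 : Function.Bijective p1 := (Nat.bijective_iff_injective_and_card p1).mpr ⟨hinj1, by omega⟩
    have b2 : Function.Bijective p2 := (Nat.bijective_iff_surjective_and_card p2).mpr ⟨hp2s, by omega⟩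
    refine ⟨(MulEquiv.ofBijective p1 b1).symm.trans (MulEquiv.ofBijective p2 b2), fun i => ?_⟩
    rw [MulEquiv.trans_apply, (MulEquiv.symm_apply_eq _).2 (show Zg i = MulEquiv.ofBijective p1 b1 (Z i) from rfl)]
    rfl
  · exfalso
    have hlift : ∀ t : T, ∃ m : S, p1 m = 1 ∧ p2 m = t := fun t => by
      have : t ∈ p1.ker.map p2 := by rw [ht']; trivial
      exact this
    choose lft hl1 hl2 using hlift
    let f : Fin 5 × (T ⧸ Subgroup.centralizer {Zt 0}) → S ⧸ Subgroup.centralizer {Z 0} :=
      fun x => QuotientGroup.mk (lft (x.2.out * ((Zt 0 * Zt 4) ^ (x.1 : ℕ))⁻¹) * (Z 0 * Z 4) ^ (x.1 : ℕ))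
    have hf : Function.Injective f := by
      rintro ⟨k, t⟩ ⟨l, t'⟩ hkl
      have hkl' := QuotientGroup.eq.mp hkl
      rw [Subgroup.mem_centralizer_singleton_iff] at hkl'
      have h1 := congrArg p1 hkl'
      have h2 := congrArg p2 hkl'
      simp only [map_mul, map_inv, map_pow, hp1Z, hp2Z, hl1, hl2, mul_inv_rev, one_mul, inv_one, mul_one] at h1 h2
      have hkl2 : k = l := Fin.ext (hg.mul_pow_eq hne k.2 l.2 h1.symm)
      subst hkl2
      have h3 : t = t' := by
        rw [← t.out_eq', ← t'.out_eq']
        rw [Quotient.eq'', QuotientGroup.leftRel_apply, Subgroup.mem_centralizer_singleton_iff]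
        simp only [inv_inv] at h2
        have e : ((Zt 0 * Zt 4) ^ (k : ℕ))⁻¹ * ((Zt 0 * Zt 4) ^ (k : ℕ) * (Quotient.out t)⁻¹) *
            (Quotient.out t' * ((Zt 0 * Zt 4) ^ (k : ℕ))⁻¹ * (Zt 0 * Zt 4) ^ (k : ℕ)) =
            (Quotient.out t)⁻¹ * Quotient.out t' := by group
        rw [e] at h2
        exact h2
      rw [h3]
    have hc := Nat.card_le_card_of_injective f hf
    have h1 : Nat.card (Fin 5 × (T ⧸ Subgroup.centralizer {Zt 0})) = 5 * (Subgroup.centralizer {Zt 0}).index := by
      rw [Nat.card_prod, Nat.card_fin]; rfl
    have h2 : Nat.card (S ⧸ Subgroup.centralizer {Z 0}) = (Subgroup.centralizer {Z 0}).index := rfl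
    rw [h1, h2] at hc
    have h3 : (Subgroup.centralizer {Z 0}).index ≤ (H0 Z).index := Subgroup.index_antitone hrel.H0_le_centralizer
    omega

/-- the Tits group in `²F₄(2)` -/
def TN : Subgroup H1 := T.subgroupOf H1

theorem card_TN : Nat.card TN = 17971200 :=
  (Nat.card_congr (Subgroup.subgroupOfEquivOfLe T_le).toEquiv).trans card_T

theorem index_TN : TN.index = 2 := by
  have h := TN.card_mul_index
  rw [card_TN, card_H1] at h
  omega

theorem normal_TN : TN.Normal := Subgroup.normal_of_index_eq_two index_TN

theorem lt_mem : ∀ a < 4, lt a ∈ TN := by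
  intro a ha
  interval_cases a
  exacts [tmem0.2, tmem0.reverse.2, tmem1.2, tmem1.reverse.2]

theorem lt_not_mem : lt 4 ∉ TN := fun hT => by
  have h1 := T_le_Aut hT (⟨1968, by norm_num⟩ : Fin 4060) (⟨9, by norm_num⟩ : Fin 4060)
  obtain ⟨_, h2, h3, h4, h5⟩ := chk_parts
  change (bif (SporadicB.RuData.row 0).testBit (Lib.BitNet.app SporadicB.RuData.net1 1968) then
    trie.get (Lib.BitNet.app SporadicB.RuData.net1 1968) else 0).testBit (Lib.BitNet.app SporadicB.RuData.net1 9) =
    (bif (SporadicB.RuData.row 0).testBit 1968 then trie.get 1968 else 0).testBit 9 at h1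
  rw [h2, h3, cond_true, cond_true, h4, h5] at h1
  exact Bool.noConfusion h1

/-- reduction of the letters -/
def md (w : List ℕ) : List ℕ := w.map fun a => Nat.mod a 4

theorem wv_mem : ∀ w, wv (md w) ∈ TN
  | [] => TN.one_mem
  | a :: w => by
    change wv (Nat.mod a 4 :: md w) ∈ TN
    rw [wv_cons]
    exact TN.mul_mem (lt_mem _ (Nat.mod_lt a (by norm_num))) (wv_mem w)

/-- the words in the Tits group -/
noncomputable def wg (w : List ℕ) : TN := ⟨wv (md w), wv_mem w⟩

theorem wg_append (v w : List ℕ) : wg (v ++ w) = wg v * wg w :=
  Subtype.ext ((congrArg wv List.map_append).trans (wv_append _ _))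

theorem wg_eq {v w : List ℕ} (h : eqW (md v) (md w) = true) : wg v = wg w := Subtype.ext (wv_eq h)

/-- the words of the eight involutions -/
def zW (i : ZMod 8) : List ℕ := [[0, 2, 0, 2, 0, 2, 0, 2],
  [0, 0, 2, 0, 2, 0, 2, 0, 2, 1],
  [0, 0, 0, 2, 0, 2, 0, 2, 0, 2, 1, 1],
  [0, 0, 0, 0, 2, 0, 2, 0, 2, 0, 2, 1, 1, 1],
  [0, 0, 0, 0, 0, 2, 0, 2, 0, 2, 0, 2, 1, 1, 1, 1],
  [1, 3, 1, 1, 1, 0, 2, 0, 2, 0, 2, 0, 2, 0, 0, 0, 2, 0],
  [1, 1, 3, 0, 0, 2, 0, 2, 0, 2, 0, 2, 1, 2, 0, 0],
  [1, 0, 2, 0, 2, 0, 2, 0, 2, 0]].getD i.val []

/-- the eight involutions -/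
noncomputable def ZP (i : ZMod 8) : TN := wg (zW i)

theorem wg_zz : ∀ l : List (ZMod 8), wg (l.flatMap zW) = (l.map ZP).prod
  | [] => rfl
  | a :: l => by rw [List.flatMap_cons, wg_append, wg_zz l]; rfl

/-- relations between the involutions -/
noncomputable def rel (l l' : List (ZMod 8)) : Bool := eqW (md (l.flatMap zW)) (md (l'.flatMap zW))

theorem rel_eq {l l' : List (ZMod 8)} (h : rel l l' = true) : (l.map ZP).prod = (l'.map ZP).prod := by
  rw [← wg_zz, ← wg_zz, wg_eq h]

namespace TM

open Cfsg.Agent.Lib.BitNetSimple (force force_eq)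
open Cfsg.Agent.KFacts.Ru.CentEng (plane)
open Cfsg.Agent.H123.Cls (band)

/-- the bit planes of the involutions -/
noncomputable def tab (n : ℕ) : List ℕ := ks.map fun k => preW (md (zW n)) (plane k)

/-- the image of a point -/
noncomputable def evZ (l : List (ZMod 8)) (p : ℕ) : ℕ :=
  List.rec p (fun i _ ih => force ih fun q => force i.val fun n => valP q (tab n)) l

theorem evZ_eq : ∀ (l : List (ZMod 8)) (i : Fin 4060), evW (md (l.flatMap zW)) i = evZ l i
  | [], _ => rfl
  | a :: l, i => by
    have e : evZ (a :: l) i = force (evZ l i) fun q => force a.val fun n => valP q (tab n) := rfl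
    have e' : md ((a :: l).flatMap zW) = md (zW a) ++ md (l.flatMap zW) := List.map_append
    have e'' : tab a.val = ks.map fun k => preW (md (zW a)) (plane k) :=
      congrArg (fun x => ks.map fun k => preW (md (zW x)) (plane k)) (ZMod.natCast_zmod_val a)
    rw [e, force_eq, force_eq, ← evZ_eq l, e', e'', ← evW_eq, ← evW_eq, wv_append, (pre_wv _).val]
    rfl

/-- relations between the involutions, fast -/
noncomputable def relF (l l' : List (ZMod 8)) : Bool :=
  band (Nat.beq (evZ l 29) (evZ l' 29)) (band (Nat.beq (evZ l 580) (evZ l' 580)) (Nat.beq (evZ l 577) (evZ l' 577)))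

theorem rel_eqF : rel = relF := funext fun l => funext fun l' => by
  have h := fun l => evZ_eq l ⟨29, by norm_num⟩
  have h' := fun l => evZ_eq l ⟨580, by norm_num⟩
  have h'' := fun l => evZ_eq l ⟨577, by norm_num⟩
  exact congrArg₂ band (congrArg₂ Nat.beq (h l) (h l'))
    (congrArg₂ band (congrArg₂ Nat.beq (h' l) (h' l')) (congrArg₂ Nat.beq (h'' l) (h'' l')))

theorem all : (∀ i : ZMod 8, rel [i, i] [] = true) ∧
    (∀ i : ZMod 8, rel [i, i + 1] [i + 1, i] = true) ∧
    (∀ i : ZMod 8, rel [i, i + 2] [i + 2, i] = true) ∧
    (∀ i : ZMod 8, rel [i, i + 3, i, i + 3, i, i + 3, i, i + 3] [] = true) ∧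
    (∀ i : ZMod 8, rel [i, i + 4, i, i + 4, i, i + 4, i, i + 4, i, i + 4] [] = true) ∧
    (∀ i : ZMod 8, rel [i - 1, i + 2, i - 1, i + 2, i, i + 1, i + 3]
    [i + 2, i + 3, i - 1, i + 2, i - 1, i + 2, i, i + 1] = true) ∧
    (∀ i : ZMod 8, rel [i - 1, i + 2, i - 1, i + 2, i, i + 1, i - 2]
    [i - 1, i - 2, i - 1, i + 2, i - 1, i + 2, i, i + 1] = true) := by
  rw [rel_eqF]
  decide +kernel

end TM

theorem r1 : ∀ i : ZMod 8, rel [i, i] [] = true := TM.all.1
theorem r2 : ∀ i : ZMod 8, rel [i, i + 1] [i + 1, i] = true := TM.all.2.1
theorem r3 : ∀ i : ZMod 8, rel [i, i + 2] [i + 2, i] = true := TM.all.2.2.1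
theorem r4 : ∀ i : ZMod 8, rel [i, i + 3, i, i + 3, i, i + 3, i, i + 3] [] = true := TM.all.2.2.2.1
theorem r5 : ∀ i : ZMod 8, rel [i, i + 4, i, i + 4, i, i + 4, i, i + 4, i, i + 4] [] = true := TM.all.2.2.2.2.1
theorem r6 : ∀ i : ZMod 8, rel [i - 1, i + 2, i - 1, i + 2, i, i + 1, i + 3]
    [i + 2, i + 3, i - 1, i + 2, i - 1, i + 2, i, i + 1] = true := TM.all.2.2.2.2.2.1
theorem r7 : ∀ i : ZMod 8, rel [i - 1, i + 2, i - 1, i + 2, i, i + 1, i - 2]
    [i - 1, i - 2, i - 1, i + 2, i - 1, i + 2, i, i + 1] = true := TM.all.2.2.2.2.2.2

theorem titsRel_ZP : TitsRel ZP := by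
  refine ⟨fun i => ?_, fun i => ?_, fun i => ?_, fun i => ?_, fun i => ?_, fun i => ?_, fun i => ?_⟩
  · simpa only [List.map_cons, List.map_nil, List.prod_cons, List.prod_nil, mul_one] using rel_eq (r1 i)
  · simpa only [List.map_cons, List.map_nil, List.prod_cons, List.prod_nil, mul_one] using rel_eq (r2 i)
  · simpa only [List.map_cons, List.map_nil, List.prod_cons, List.prod_nil, mul_one] using rel_eq (r3 i)
  · simpa only [List.map_cons, List.map_nil, List.prod_cons, List.prod_nil, mul_one, pow_succ, pow_zero, one_mul,
      mul_assoc] using rel_eq (r4 i)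
  · simpa only [List.map_cons, List.map_nil, List.prod_cons, List.prod_nil, mul_one, pow_succ, pow_zero, one_mul,
      mul_assoc] using rel_eq (r5 i)
  · rw [mul_inv_eq_iff_eq_mul]
    simpa only [List.map_cons, List.map_nil, List.prod_cons, List.prod_nil, mul_one, pow_succ, pow_zero, one_mul,
      mul_assoc, C] using rel_eq (r6 i)
  · rw [mul_inv_eq_iff_eq_mul]
    simpa only [List.map_cons, List.map_nil, List.prod_cons, List.prod_nil, mul_one, pow_succ, pow_zero, one_mul,
      mul_assoc, C] using rel_eq (r7 i)

theorem ZP_ne : ZP 0 ≠ ZP 4 := fun h => by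
  have h1 : Nat.beq (evW (md (zW 0)) 29) (evW (md (zW 4)) 29) = false := by decide +kernel
  have h2 := congrArg (fun g : TN => (((g : H1) : Pm) b2 : ℕ)) h
  change (((wv (md (zW 0)) : H1) : Pm) b2 : ℕ) = (((wv (md (zW 4)) : H1) : Pm) b2 : ℕ) at h2
  rw [evW_eq, evW_eq] at h2
  exact Nat.ne_of_beq_eq_false h1 h2

/-- the trace -/
noncomputable def trc (ρ : TN →* GL (Fin 27) ℂ) (g : TN) : ℂ := Matrix.trace (ρ g : Matrix (Fin 27) (Fin 27) ℂ)

open Cfsg.Agent.ChevalleyStructure.Tits.Main Cfsg.Agent.ChevalleyStructure.Tits.Final
  Cfsg.Agent.ChevalleyStructure.Tits.Sat Cfsg.Agent.H29.TitsExt in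
theorem exists_rho : Nonempty (H29.TitsHom.T ≃* TN) ∧ ∃ ρ : TN →* GL (Fin 27) ℂ,
    (∀ i, ρ (ZP i) = H29.TitsHom.Zg i) ∧ IsIrrCharacter TN (trc ρ) ∧
      ∀ (α : MulAut TN) (g : TN), trc ρ (α g) = trc ρ g := by
  have := Omega.TwoF.TitsAut.fin_H0
  obtain ⟨e, he⟩ := iso_of_rel' (T := H29.TitsHom.T) titsRel_ZP Model.titsRel_ZC closure_ZC ZP_ne
    (card_TN.trans H0_result.2.2.2.symm).le Model.le_index
  obtain ⟨σ, hσ⟩ := H29.TitsHom.exists_hom
  have hinj : Function.Injective (MulAut.conjNormal : ChevalleyStructure.Tits.Order.H0 →*
      MulAut (commutator ChevalleyStructure.Tits.Order.H0)) :=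
    Omega.TwoF.TitsAut.conj_injective Sat_yH gen_yH ChevalleyStructure.Tits.Order.card_H0 card_V_yH
      (yH_ne_one (by norm_num)) Omega.TwoF.TitsAut.yH7_sq core H0_result.2.2.1
  refine ⟨⟨e.symm⟩, σ.comp e.toMonoidHom, fun i => (congrArg σ (he i)).trans (hσ i), ?_, fun α g => ?_⟩
  · have h1 : trc (σ.comp e.toMonoidHom) = fun g => (rep σ).character (e g) :=
      funext fun g => (character_rep σ (e g)).symm
    rw [h1]
    exact Characters.Core.isIrr_comp e.toMonoidHom e.surjective ⟨27, rep σ, irreducible_rep hσ, rfl⟩
  · obtain ⟨c, hc⟩ := (bijective_of _ hinj H0_result.1 (out_le T0_eq_H0.symm)).2 ((e.symm.trans α).trans e)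
    have h1 := invariant hσ c (e g)
    rw [hc, MulEquiv.trans_apply, MulEquiv.trans_apply, e.symm_apply_apply] at h1
    exact h1

theorem exists_iso {S : Type*} [Group S] (h : Lie.IsoTits S) : Nonempty (S ≃* TN) := by
  obtain ⟨K, hK, ⟨f⟩⟩ := Omega.TwoF.TitsAut.exists_equiv h
  subst hK
  obtain ⟨e⟩ := exists_rho.1
  exact ⟨f.trans e⟩

end Cfsg.Agent.TAB.Sm2.Tits
end

-- part: TAB/Sm2/TitsChi
section
prune_inst 0x400030220000081800000200404050000100000000000100000009010001090100013210061891c414e060494000000001090010000000000a0040020000000c000200240000100000008000000000000000000000000000000000000000000000000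
set_option linter.all false
open scoped Cfsg.Agent.FastGrp

/-!
# The values of the character of degree `27` of the Tits group (helper3, TAB)
-/

set_option autoImplicit false
set_option maxRecDepth 100000

namespace Cfsg.Agent.TAB.Sm2.Tits.Chi

open Cfsg.Agent.H29.TitsMat Cfsg.Agent.H29.TitsHom

def m0 : ℕ := 0x500000000000000000000000000050000000000000000000000000005000000000000000000000000000500000000000000000000000000050000000000000000000000000005000000000000000000000000000500000000000000000000000000050000000000000000000000000007000000000000000000000000000700000000000000000000000000070000000000000000000000000007000000000000000000000000000700000000000000000000000000070000000000000000000000000007000000000000000000000000000700000000000000000000000000070000000000000000000000000007000000000000000000000000000700000000000000000000000000070000000000000000000000000007000000000000000000000000000700000000000000000000000000070000000000000000000000000007000000000000000000000000000500000000000000000000000000050000000000000000000000000005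
def m1 : ℕ := 0x323324430000000022341121000434413320000000033414414000323324430000000044123343000323342210000000044121121000414233340000000031214234000232433340000000013434234000232433340000000031212412000343122230000000042321341000000000000070000000000000000000000000007000000000000000000000007000000000000000000000000000700000000000000000000000000000500000000000000000000000000070000000000000000000000000000000000000700000000000000000000000000007214413140000000011412214000214431320000000011414432000143324210000000022121143000432231320000000011412214000341344230000000042141323000341322410000000042143141000234211340000000013214212000341344230000000024323141000000000000000005000000000000000000000000000000000000070000000000000000500000000000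
def m2 : ℕ := 0x302003013003400131110031130002132430440104001042003044440031220110401003040220031010304041001400321212100330033030030220200441001111430341200422002202002200403032024002300440200200314121230134234003003103020010203023100302011313002202041040404043020403131002220300301404043020401313004420300301202100302013131004402041040202434422230000000022122434000000000000000050000000000000043002014422001304020103103300140204422003120301040301100240020440400400221421410331332004004402001303010012300202100330100343002231320344300332002404040014040014020230401001400113420044130002334320330201020400130011102030202002300241322300220310031310110203010102001013100320404422003140103020301323333340000000033231323000021004034422001302040301103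
def m3 : ℕ := 0x20410400210044031330031310240011110101400203044001042143200130302044020030203043042002300420200400134121410414224210000000011233141000023040200041324303030402404201040100230022021432100110004121230204300103020220011001443234030041040203002042020101101400124401200320102402004203121440001400320104310031441002030140403002044100204104003032034004422320213144322324131200000000000412300131001101003300104021100320402244001340103020103040401032002300221213400420101010044300234210011001104000000004111221231124243000112241003010300440012040012040401013030204044330013220404040011321310030010120203044040021040040400424341120200203042231004401014010301400401040034431420101040303011010010220200423003333430443312000304022001300302041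
def m4 : ℕ := 0x40230200430022013110013130003441211002010101024003022222443000430030240010201023100420023004043000314143230321111340000000033413123000200210104233001101010404204403040100210024043212100330310013314001020401040240031440013130440304020403004022010240012234440003400340302101010041400213103200340304004134410301400220203004024022040040310300312004444140213122142342133400000000000131143002040400101100102041032030300043121420303040303040403014002100243433400240402004203332330030031003304000000003242312113344221000122100114004202020032020032040401013030204022110031440301001104100433110030140403300402100404401000244323340023004030034124103034030101041004011344004440301020103400101203004023041003311210231400220210030403100304021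
def m5 : ℕ := 0x20410400430022031330031130001223431002010103042001022444221000430030220030403023300240043004043000132321230143333120000000011231341000400430304233001103030202204201020300210024021434300330130031134001020403020420031220031310440304040201002022030420032234440001200120302303030021400213101400120304002312230301400240401002024044020020310300334002222140431344322342133400000000000313321002040400103300304041014010100043121440101020303020201034002100221211200240204002403332330010013001304000000003242312131122443000344300334004202040014040032020203033030204044330013440103003304100433130010320403100204300404401000422141340041002010034124101012010101023002031344004420103040103200303403004023023001133210413200440210030401300102021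
def m6 : ℕ := 0x40230200210044013110013310420033330101400201022003042013003400310100300241232340432100420403011010020102014034010300034213204040103303343113140000000044122434000003414120301400202010110022302010200120011032143200440010102022020103011440024110202020031321310010030340203000000003444114142231314000334423003010300420034020012011010034030030300131412410200203044413002201014010103010102041001200132324100310303030024300234230033003104341200422002202002200403032300140202244001320301040103301003104232110004300210201130013221002030120201004044004332121040012030102001013040303301400124403400140102400103401004043023003311430213144324142313400000000000200203020034431440303020303443312000102044001300302023011010010440400223003333210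
def m7 : ℕ := 0x201020300430042021434300110003432340303400402010330044022040040130100134002222140114441000201013002400201012034030100012211404040301101121313140000000022342434000420011110103400401024001024010320100340013024220042240102001034040101014411400310010202203143310003403003401000000001222112333324423000434300241030300203101010014042002102010030123004224210200203042231004401014010301102003033003200342220011110020301302100232403200340302241341004004204030020304034100320404422003140103020301040310042414110040044002403004121143004030330100420042330011333020014020200130011301030043200122210033001304100440043002041000134143230122231412324311200000000000200201040012433240301040101321400130304042040010203021042004100220400400132343410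
def m8 : ℕ := 0x403040100430042043212100110001214120303400404030110044044020020130100112004444140332223000201013004200403012012010300012211402020103101343131320000000044124212000240033330103400403042003024030140300340013042440024240304003014040101032233200310030404403143310001201001401000000001222112311142241000212100421030300201303030014024004302010030141002442210400401022231004403032030301304001013003200324440033110040103102100232401400120302423123004004204010040102034300140204422003120301040301020130022414110020022004403002343323004030310300240042110033113020014040400310011103010023200122230011003304300220023002041000312321230344413232324311200000000000400403020012433220103020101143200310304042020030401021024002300220400400314121410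
def m9 : ℕ := 0x100420021002021000314143410433400333010300210040104032123131140000000044342412000300104010014234303010404404313343002020400303300102023100204102001014012002244320110011242010043003024003042201004022004300224440042240022002100220200200111232430020110022300433101203001403013003200404201041004211340030440012441110030011001102000000003233313442414441000003234410402300130104003033020203030201020133310024240023020201142003320100101204330024110220102002030110042100320402244001340103020103243114000230010204204020021301010041312310040040210104303001301200141110010340203324100130403011003103030012403040100210024021434300110122244324313112300000000000032010100043341420301020303001434231020014001020420033010304043003200121212100110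
def m10 : ℕ := 0x400101203004023041003311210424432001030300404400401034123113320000000044344234000100304010032232101030404202322300444040400140030201021200110014003012000423432120002123124030041002030310044040201014002300414143200440013010030440200421002222230103001104100431330010140201022020040202203000314112140404004404223110001200120304000000001411311211323114000220044310204300320200310031203002040403020341231400440023020203324001120100101402004314210440104003024001044300140204422003120301040301121200110410010430041010023040303103134310004304002302020330023400143301403003401133312000201013020032040014020410400430022013110013310213131412131114100000000000014010100021343240101020101440022313040012002011004031302003011001200331110031310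
def m11 : ℕ := 0x202040011343310010030120401200103203004041043002244410004332211004030110100440022000000001213113244214243000400103202010010100423423210402040013200434404100210201304001030304010434122100330100140200034122330200402101341200424004404002200403014011010010220200423003333430241341002002402030020304012042004100440200200132343230021004032244003102040301301141111120000000011413141000440031220330203003040220013030102021001400343434300330043040400014232130404010404440022313040012002011004031020330023400143301403003401133312000201013020032040014121200110410010430041010023040303103134310004304002302040230200210044031330031130213131412131114100000000000001421320110201004031002011300140204422003120301040301104001033003400113330013130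
def m12 : ℕ := 0x211313412131332300000000000144224121442223400000000000211331234331112300000000000433131232131332300000000000231111434111134300000000000413311432311314300000000000413333214111134300000000000124422141244243200000000000000000000000000000800000000000000000000000000070000000000000000000000050000000000000000000000000007000000000000000000000000000000000500000000000000000000000000050000000000000000000000080000000000000000000000000007000411133434133314300000000000233333432333134300000000000344422321244421400000000000411111212333134300000000000213113234331334100000000000213131414313332300000000000324224343224223400000000000431313234313332300000000000000000000000000000007000000000000000000000000000000007000000000000000000000700000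
def m13 : ℕ := 0x302003013003400131110031130002132430440104001042003044440031220110401003040220031010304041001400321212100330033030030220200441001111430341200422002202002200403032024002300440200200314121230134234003003103020010203023300104033131004404023020202021040201313004440100103202021040203131002240100103404300104031313002204023020404212244410000000044344212000000000000000070000000000000021004032244003102040301301100320402244001340103020103300420040220200200443243230113114002002204003101030034100404300110300121004413140122100114004202020032020032040410203003200331240022310004112140110403040200310033304010404004100423144100440130013130330401030304003031100320404422003140103020301323333340000000033231323000021004034422001302040301103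
def m14 : ℕ := 0x20410400210044031330031310240011110101400203044001042143200130302044020030203043042002300420200400134121410414224210000000011233141000023040200041324303030402404201040100230022021432100110004121230204300103020220011003221412010023020401004024040303303200342203400140304204002401343220003200140302130013223004010320201004022300402302001014012002244140431322144142313400000000000234100313003303001100302043300140204422003120301040301020203014004100443431200240303030022100412430033003302000000002333443413342421000334423001030100220034020034020203031010402022110031440202020033143130010030340401022020043020020200242123340400401024413002203032030103400401040034431420101040303011010010220200423003333430443312000304022001300302041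
def m15 : ℕ := 0x100220041002043000111214430003432340101200202010330022030340300203040321342100420423141002004404010040304034432213320000000042321323000040130024100124410010120403033030033002021034002213230220044310402100140400130031100402301020020400331241340014001020032143420300303202000000004313423224411332000413200440430010201300102043040201010120011034434300420202004404241110001200340304300202100330100343002231320043002012244003104020103301004121320440302001022001024041040200021213210402010204103030023323240002104002304112241003010300440012040012104010401010204044240022220431331414331334100000000000130044132030023001024001022200230301344001310404010202202002403400233304304004104344300332002404040014040014040203010403020122240044220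
def m16 : ℕ := 0x200103203004041021004422230420033330303200401022003024304030400401040144110031220123400424002402004400403032214431140000000042321323000101001302300122201401001201024002301004023000244332430003234410204100310302001033400130033040020243003122140032001020014141240100303404000000002131421411142223000222443000210010440010201041201004020340013013240013220010240012423110030013003102200310030110100100332132120021004034422001302040301103130031220220304002010130022041020400043211410404030402020101301141240020020210102212100421030300201303030014030140103030202034341200420344444322113332300000000000004112414010021002010110024200230303122003110404010404010240031200231140040410302331332004004402001303010012201004040201020334123400420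
def m17 : ℕ := 0x13010030440200443004444410001223433004030303042001044304030400401040122330013440242232001010300202200401012343144410000000024141341000402020012212130003201003401300220020220400400424314210220031442003020430102003013011003400202201021003144320100302012442002420300301204000000001244114133322241000143200130104022020030203021403002040120031031420031440020101102100143310033001302033003202001012000112114340400203040043343204020303303002312414030023004030110042400430303144001330204010202010220013400411140040230302113132004002404003103010034010340103010204012121200240344422144313112300000000000310031220240302004030130044023020400021213230204030204020103103341420020020430102434300421010300403103030032403004040203020112343400240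
def m18 : ℕ := 0x22002100220200200333414210240042241002030104030130042030340300203040343124300240211200333030300430020104014121344410000000024143123000010404204434130030030320203200301200440400212004413410003243324001020220200330011042040040404203000113441120300104034224004240100103402000000003422112342233132000221112000302024003100302023020403030340033012212100240103010024300141103400140104024020044003014021004431140200403040021341402040303101310044132010021003044001044400430301322003130204010404202004201200413304302002104122100332004402020034040032302010401030202022420022440431313232131114100000000000002321320420304003042001042023040200043211430202010402103010041123420002102004304334441003030300220032040034020403010401020344420044440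
def m19 : ℕ := 0x44004300440400400333414210420024423004010304030130042010120100401020143124300240433400111010100230020104014343122230000000024143123000030202402212310030030320203400103400220200412004413410001421142003040420200330011024020020202401000113441120100302012442002440100103402000000001244334142233132000443334000104042003100302023040201010120011012212100240301030042100323303400140104042040022001032021004431140400201020043123202040303101130022314030043003044001044200210103144001330204010404404002403400231104302002104344300114002204020034040032104030203010404022420022440213131414313332300000000000004143140240102003042001042041020400021433230202010402301030023341240002102004304112223001010100420032040034040201030203040144420044440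
def m20 : ℕ := 0x12003041344003101010202404100202101020040200132312320303001301200141130030120401010304043003200143434300330000000004331421442231332000322300133030100210020102012200301200440400234002231230012001040021342340300103204221143000201031004400203032020230204020103034344300110013010031004021014003324210130013440420104004030130044002141430130203020200330031100440043002041000312321410234211340000000013214212000010240014412220001200120302043040202424002404021040402004341120301200420403002044314243000140040303101030014103010023200122230011003304302010400401020333440011420411111212333134300000000000400230300032321204023040404110024331002010320401002042324100130403011001301010034404004404434440030013003302020403011030202033220011240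
def m21 : ℕ := 0x34001021344003103030404404300404301020040200314134320101003101200141110010340401030102023003200121212100330000000004331421424413114000144100313030100230040304012400103400440400212004413230034003020021342320100301204443321000201031002200401032040410404020103012122100110031030011004021032001142210310031220420104002010310044004323210130203040400110031300220023002041000134143410412433120000000031432434000030420034412220003400340302021020402424002402043020402002123340301200440201004044132421000140040301303010014301030043200122210033001304104030200401020311220033420233333432333134300000000000200410100032321202041020404330042111002010340203004042142300310403011003103030034202002204434440010031001302040201031030202011440033240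
def m22 : ℕ := 0x12003043122001303030404404100202103040020400314134320303001303400323310010340401010304041001400321212100330000000002113243224413114000322300131010300430040304012200301200220200412004413230012001040043124120100301204221143000403013002200401032020230202040301012122100110013010033002043032001142210130013440240302002010310044002141430310401040400110031100440041004023000134143410234211340000000031432434000010240012234440003400340302043040204242004202043020402004341120103400240201004044314243000320020101303010014103010021400344410033001304302010400203040111220033420411111214111312100000000000400230300014143402041020404110024333004030140203004042324100130201033003103030034404004402212220010031001302020403013010404011440033240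
def m23 : ℕ := 0x434431140000000033412232000323342210000000022343343000141142210000000022341121000141124430000000022343343000121344410000000042321341000121322230000000042323123000232411120000000031214234000343144410000000042323123000432231320000000011412214000321142430000000044343321000341322410000000024321323000341344230000000024323141000321124210000000022123321000143324210000000044343321000412433120000000013214212000123122410000000024323141000000000000000060000000000000000000000000600000000000000000000000080000000000000000000000000008000000000000000000000000000000000000000600000000000000000000000000005000000000800000000000000000000000005000000000000000000000000000000005000000000000000000000000000600000000000000000000000000000000000060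
def m24 : ℕ := 0x201020104040103033130011330040203010201040344420022220010304020302010433310011110403040302020301033130011330302001033001400313330031130040210400410024013110031310104003011003200113330031130010320100120031042440024240233311214133314300000000000233333434111312100000000000411133434133314300000000000411111214111312100000000000000000000000000000007000000000000000000000000000000007213113232113112300000000000213131412131114100000000000040230200430022031330031310302003013003400131110031130030120100320011042440042420104001031001200331110031130030104020102030433310033330403020102040303011310011330040201030203040122240022220201040304020101011310011330431331412113112300000000000000000000000000000000500000431313232131114100000000000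
def m25 : ℕ := 0x231111211442443400000000000342244142131112300000000000413311211424441200000000000413333431442443400000000000211313231222421400000000000211331411244423200000000000433131411222421400000000000322442124133312100000000000000000000000000080000000000000000000000000008000000000000000000000000000080000000000000000000000000700000000000000000000000000000000800000000000000000000000000080000000000000000000000700000000000000000000000007000000213131231222243200000000000213113411244241400000000000142424122333314300000000000431331231244241400000000000411111433224443400000000000233311431424223400000000000122222142113332300000000000411133211424223400000000000000000000000000000000060000000000000000000000000000005000000000000000000000005000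
def m26 : ℕ := 0x302010200120011014321400220030104041003400143432100110040201012004100232321400440104030400340033014321400220010320301010404034341200420201004040201020312341200240030140103030202034341200420302001010302030441234100130431313411222243200000000000213113413422423200000000000213131231222243200000000000431331233422423200000000000000000000000000000000060000000000000000000000000000005411111431442221200000000000233311433242441200000000000403004040401040334121200240030120303010204012121200420302003030304030241232300310010340101030402012121200420040203032002100432323200220302030400140013032141400220010304043003200121212100110104010200320031032141400220233333211442221200000000000000000000000000000000007000411133213242441200000000000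
def m27 : ℕ := 0x12003020021122340300301204100120400032411201012010301200230100021344102023020204034001040021122320100103204300302010023144310402010202041040200023322101010402202100104030023144330204030202012010300012211402020103101432244410000000031431121000214444410000000031433343000432222230000000031433343000214422230000000031431121000000000000500000000000000000000000000000000000000000060121331320000000022344212000121313140000000044124212000300304030041142130202010202041020400041324303030402202200203020012213220101040303023040200041324301010204202012001040021342320100301402200210300043342304043020204023002010014231230200402301400430100043342302021040204343131320000000044124212000000000007000000000000000000343113140000000022344212000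
def m28 : ℕ := 0x80000000000000000000000000005000000000000000000000000000600000000000000000000000000070000000000000000000005000000000000000000000000000700000000000000000000000700000000000000000000000000070000000000000000000000000000000000070000000000000000000000000006000000000000000000000000000060000000000000000000000000800000000000000000000000000005000000000000000000000000000600000000000000000000700000000000000000000000007000000000000000000000000000000000000080000000000000000000000000500000000000000000000000050000000000000000000000000006000000000000000000000000000000080000000000000000000000000007000000000000000000000000800000000000000000000000005000000000000000000000000000000800000000000000000000000000080000000000000000000000000007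
def m29 : ℕ := 0x414233340000000031214234000121322230000000042323123000343122230000000042321341000121322230000000024141341000141142210000000022341121000323342210000000044121121000212213320000000011234414000141124430000000044121121000123144230000000042143141000412411340000000031434212000214431320000000011414432000214413140000000011412214000412433120000000013214212000234233120000000031434212000143324210000000022121143000214413140000000033234432000000000000007000000000000000000000000080000000000000000000000000000060000000000000000000000000700000000000000000000000700000000000000000000000007000000000000000000000000000000000000000000008000000000000000000000000600000000000000008000000000000000000000000000500000000000000000000000000000000000080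
def m30 : ℕ := 0x14010302442003330400204101200303400240200234004413230201020100302010422330022130030404202100142420024004203000000001222114142413114000444234000120020330020102032100202103040020400314134320032030300041234302040101103300302010023144330204030404003432340303400404030110022034003044233003310402030204240042243004010302010310042020401014004300232323200220411133213242441200000000000141400441010100203301030012010420034100121320040210304001443232010023040203002024013030030301104000222334230404020033314240003403003403432213140000000033232214000100440020103304023002424430240033423020032002033004011203004040140011042130033420341200331003301001300304023442412004002202001103030032302030400140013014323200440040101104443130040020410104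
def m31 : ℕ := 0x303010024232240040020410102123122410000000042141323000011010013002021012004431230003423210420304010300240022304003014040101032233200310143200310304042020030401021100240023002023000331214210330042330420302002030330042431331414331334100000000000010304020104030211130033110020110022300433101203001403121200240140040140032040032003234141002030301044001042200403040041232120301020103021002011133003320303020101220044440303400203024003022020303104300412401400340104104010204004300234214300240034010102231002210400202301200101204030010100444134410034010300012431404040103101200101400440200414003342210424432003010100204400401012000000001222114124231332000010202201321130003403003203302030203030402044240022220133321000102022030023030023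
def m32 : ℕ := 0x4332340204100303040240013034003020021342340300103402220013311002010302030330044300302034413003140300303404301030042100323301200320302433400331030100430020302032303003303112440004100410203241323002004404030020102034001241343020012003020440031400210100034432340100303204040103104300414203200340302214300420203031010020304032130031220220304004030310044021040201313004440100103202040330024421220002100430203333132000340020310020104034020203030201020133310024240304010203030204033130024420030340100140011031330044220203004044004300413330022220000000000000000000007000000413333212333312100000000000203040102020103044240031130030304040302030222240013130020230400430044042440011330102003033003200324440033330342244321244243200000000000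
def m33 : ℕ := 0x10302021003400143432100330104030400120011014321400440201040100230022043214300330030104043001200343432100330040210202020101041412300310302001010104010241234100310020430404040303041412300310403002020201020334123400240142424124111132100000000000142442344133134300000000000324224124133134300000000000324242344111132100000000000000000000000000000000050000000000000000000000000000008411133213242441200000000000233333211442221200000000000040230402040103041414100130302003030102010441232300130030120301030402012121200240104001010304030241232300130010304041001400321212100330201020300210024043212100110020401012002100414141400220403040100430042043212100110233333213224443400000000000000000000000000000000005000411133211424223400000000000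
def m34 : ℕ := 0x30420034241330030013003102303003303112440002300230401020310021312440020042002203303003301334220002300230203404020033314240001201001201030404403332420010030120201101030042243130002302002104010202203332420030010340201020330043112220020044004203404002204241110003400120304020301102243310040020230302101010024443310002304004104010220034223330010033003304202004404241110001200340304010204403314420030010120403101010022221130002304004302432231320000000033234432000143324210000000044343321000341344230000000042141323000234211340000000031432434000234233120000000013212434000341322410000000024321323000000000000000000000000000070000000000000005000000000000432213140000000011414432000214413140000000033234432000000000000000000800000000000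
def m35 : ℕ := 0x101010041400213101400120102010102020104010444420031310100304033113002204021040202013030010420200221004444410100304010034341410202030402042020021020020400221412140000000001222332324413132000243114000410030402402040021103001101200414203401003401211200424040200320030203041001434410202100130102001011023020400041144301010402202400430302411003303030202402110024331002010340203004024304010402002300241322300440124422324313334100000000000020410400430022013110013310122100243001301030023010041220044222010043010100420044044004100301304014004211210001241341040034003020440013100202100402403000242141340432231320000000011412214000010204403314420030010120403134221002004202030040302014010102040210042012211200110404040011114420001203003201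
def m36 : ℕ := 0x3432430130401002031004031020403010401020322240022220104003030302030441234100310240042330110203001040420033413200310140040102200403012100240040301304043001313230444234000120020310040304014300202300202401000443212320041002010012342303034030101100120400012124110400402101041002010034124103034030303100120400034342310400402303214444410000000031433343000000000008000000000000000000012030100014322140303020301200203020014144302020301301024002100103304034001322410414100220320040120032020034022020040202203000132334320314221000340020301301030032040430200302010232411400310330042420330203010302003011102010200203020322330013440002141430310401020200330013034010300014322120101040301214422230000000013213343000400401040014144304040103301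
def m37 : ℕ := 0x10404401400432220044002403013030034010010300332123430001223433004030303042001044000000001231333244432443000011010013002021034002213410010202201321130001201001401040430403001200131240044130021002014444003102040103301342100330320040102400203014400103200101102000133212230111314000120040110020104034100440020301102023002424210100120400012124110400402101321133340000000024324414000130013130330401030304003031403020100102030422330044310100104013324003302023040402130022441020012040200110013301003104232110002100430403441121001030300420012020032122100243001301010041030023303010043200433103200120102302001012020101043343400330431331233422423200000000000002312140310203020400310033023004030034124101012010303040210200104010221343400110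
def m38 : ℕ := 0x132434000410010204402020041030120301030402034343400420003432122030043020203004044200110010330100100131421140220022313020014002013002031042020040130300332001111340010420031200324204104002104212213140000000024323123000030302043001400114144100310204002401114110030031003304200303401002041041003311210023002033122002240301020103400103200101102000133212230034001040041231202023020404000000001424134313344221000411400443003101030043030043043020200012121403010404204002343323004030330100420024221134000102044003100104023404040011321310030010120203211331234331112300000000000304010200403040344110013440100340201133001102040103101240033240404300140200330033402002201200144240020430302124300110140020304200401032040401013030204044330013220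
def m39 : ℕ := 0x40401034004100443431200420203040300210042014324100130030304023003400314142300130203040300210042032142300310020210404040101034342100330102001030302010212342100110030320101010202023231400220304003010104030412342100110203020100230044014322300310040403014002100243433400240010120103010402023233200440203004020401020123411400440102010400120033021433400420020201032004300443433400240040410402040301034344300110203004020401020141233200220211331411244423200000000000322424342333132100000000000231133433242223400000000000342222324331332300000000000124444144331332300000000000413311213242223400000000000000000000000000000000000005000000000000000000000005000211331413422241400000000000433131411222421400000000000000000000000000000000050000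
def m40 : ℕ := 0x100420021002021000314143410111332000140040330040104034100140401344002204040303301321111340000000033413123000400101201002041041003311430342100330140020304200401014020410400430022031330031130004112324001040402031004011020303304443130040020410302442412002004404003301010032141400443030300401103010012030240014100121320040210102020401012002100414141400220344422144313112300000000000004143410202300303020440033400403020012433220103020101203020304020303044240013130032003040032143420300303404042004300301102012003144230303030022100412430033003302011001400110100100222343140204020012234130003203001401000000001231113231121112000130031310310403030302001013023002031344004420103040103403040100430042043212100110130031134001020403020420031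
def m41 : ℕ := 0x330011331040032040400310011330011110404100304031004033000000004142444342234441000000700000000000000000000000110033111040032040400310033110033330404100304031004011310013314001020403020420013310013130310403030302001031102010203010202033130042420021002030021432310200202303202020011400341320022002201024002100103304034001322410012001024233003310402030402302030400320031032141400440402040034412310001401003203033003200330300300444121320202020033143130030010120203024002303002041000422114430204020031400212202300430403033003403040020214002442340012001040041411204043020404302030200403020111220011420102010402004300441324100440021002014444003102040103301000000002342224342232223000130031134001020403020420031130031310310403030302001013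

private theorem _root_.Cfsg.Agent.KO847a921.e0.{ku} {M : Nat → Sort ku} (φ : ∀ n, M n) {z : M Nat.zero} {s : ∀ n, M n → M (Nat.succ n)} (h0 : φ Nat.zero = z) (hs : ∀ n, φ (Nat.succ n) = s n (φ n)) (n : Nat) : φ n = @Nat.rec M z s n := Nat.rec h0 (fun n ih => (hs n).trans (congrArg (s n) ih)) n
private noncomputable def _root_.Cfsg.Agent.KO847a921.k1 : ((x0 : @Nat) → ((x1 : @Nat) → @Decidable (@Eq.{1} @Nat @x0 @x1))) := @(fun (x0 : @Nat) (x1 : @Nat) => @Bool.rec.{1} @(fun (x2 : @Bool) => ((@Eq.{1} @Bool (@Nat.beq @x0 @x1) @x2) → @Decidable (@Eq.{1} @Nat @x0 @x1))) @(fun (x2 : @Eq.{1} @Bool (@Nat.beq @x0 @x1) @Bool.false) => @Decidable.isFalse (@Eq.{1} @Nat @x0 @x1) (@Nat.ne_of_beq_eq_false @x0 @x1 @x2)) @(fun (x2 : @Eq.{1} @Bool (@Nat.beq @x0 @x1) @Bool.true) => @Decidable.isTrue (@Eq.{1} @Nat @x0 @x1) (@Nat.eq_of_beq_eq_true @x0 @x1 @x2)) (@Nat.beq @x0 @x1) (@Eq.refl.{1} @Bool (@Nat.beq @x0 @x1)))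
private theorem _root_.Cfsg.Agent.KO847a921.e1 : @Nat.decEq = @_root_.Cfsg.Agent.KO847a921.k1 := by delta _root_.Cfsg.Agent.KO847a921.k1; rfl'
private noncomputable def _root_.Cfsg.Agent.KO847a921.k2 : (by first | exact type_of% @Cfsg.Agent.H29.TitsMat.rs | exact Unit : Sort _) := by first | (refine @Subtype.val _ (fun g => @Cfsg.Agent.H29.TitsMat.rs = @g) (@Subtype.mk _ _ (@(fun (x0 : @Nat) => @Decidable.rec.{1} (@Eq.{1} @Nat @x0 (@OfNat.ofNat.{0} @Nat (nat_lit 0) (@instOfNatNat (nat_lit 0)))) @(fun (x1 : @Decidable (@Eq.{1} @Nat @x0 (@OfNat.ofNat.{0} @Nat (nat_lit 0) (@instOfNatNat (nat_lit 0))))) => @Nat) @(fun (x1 : @Not (@Eq.{1} @Nat @x0 (@OfNat.ofNat.{0} @Nat (nat_lit 0) (@instOfNatNat (nat_lit 0))))) => @Decidable.rec.{1} (@Eq.{1} @Nat @x0 (@OfNat.ofNat.{0} @Nat (nat_lit 1) (@instOfNatNat (nat_lit 1)))) @(fun (x2 : @Decidable (@Eq.{1} @Nat @x0 (@OfNat.ofNat.{0} @Nat (nat_lit 1) (@instOfNatNat (nat_lit 1))))) => @Nat) @(fun (x2 : @Not (@Eq.{1} @Nat @x0 (@OfNat.ofNat.{0} @Nat (nat_lit 1) (@instOfNatNat (nat_lit 1))))) => @Decidable.rec.{1} (@Eq.{1} @Nat @x0 (@OfNat.ofNat.{0}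 @Nat (nat_lit 2) (@instOfNatNat (nat_lit 2)))) @(fun (x3 : @Decidable (@Eq.{1} @Nat @x0 (@OfNat.ofNat.{0} @Nat (nat_lit 2) (@instOfNatNat (nat_lit 2))))) => @Nat) @(fun (x3 : @Not (@Eq.{1} @Nat @x0 (@OfNat.ofNat.{0} @Nat (nat_lit 2) (@instOfNatNat (nat_lit 2))))) => @Decidable.rec.{1} (@Eq.{1} @Nat @x0 (@OfNat.ofNat.{0} @Nat (nat_lit 3) (@instOfNatNat (nat_lit 3)))) @(fun (x4 : @Decidable (@Eq.{1} @Nat @x0 (@OfNat.ofNat.{0} @Nat (nat_lit 3) (@instOfNatNat (nat_lit 3))))) => @Nat) @(fun (x4 : @Not (@Eq.{1} @Nat @x0 (@OfNat.ofNat.{0} @Nat (nat_lit 3) (@instOfNatNat (nat_lit 3))))) => @Decidable.rec.{1} (@Eq.{1} @Nat @x0 (@OfNat.ofNat.{0} @Nat (nat_lit 4) (@instOfNatNat (nat_lit 4)))) @(fun (x5 : @Decidable (@Eq.{1} @Nat @x0 (@OfNat.ofNat.{0} @Nat (nat_lit 4) (@instOfNatNat (nat_lit 4))))) => @Nat) @(fun (x5 : @Not (@Eq.{1} @Nat @x0 (@OfNat.ofNat.{0} @Nat (nat_lit 4) (@instOfNatNat (nat_lit 4))))) => @Decidable.rec.{1} (@Eq.{1} @Nat @x0 (@OfNat.ofNat.{0} @Nat (nat_lit 5) (@instOfNatNat (nat_lit 5)))) @(fun (x6 : @Decidable (@Eq.{1} @Nat @x0 (@OfNat.ofNat.{0} @Nat (nat_lit 5)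 (@instOfNatNat (nat_lit 5))))) => @Nat) @(fun (x6 : @Not (@Eq.{1} @Nat @x0 (@OfNat.ofNat.{0} @Nat (nat_lit 5) (@instOfNatNat (nat_lit 5))))) => @Decidable.rec.{1} (@Eq.{1} @Nat @x0 (@OfNat.ofNat.{0} @Nat (nat_lit 6) (@instOfNatNat (nat_lit 6)))) @(fun (x7 : @Decidable (@Eq.{1} @Nat @x0 (@OfNat.ofNat.{0} @Nat (nat_lit 6) (@instOfNatNat (nat_lit 6))))) => @Nat) @(fun (x7 : @Not (@Eq.{1} @Nat @x0 (@OfNat.ofNat.{0} @Nat (nat_lit 6) (@instOfNatNat (nat_lit 6))))) => @Decidable.rec.{1} (@Eq.{1} @Nat @x0 (@OfNat.ofNat.{0} @Nat (nat_lit 7) (@instOfNatNat (nat_lit 7)))) @(fun (x8 : @Decidable (@Eq.{1} @Nat @x0 (@OfNat.ofNat.{0} @Nat (nat_lit 7) (@instOfNatNat (nat_lit 7))))) => @Nat) @(fun (x8 : @Not (@Eq.{1} @Nat @x0 (@OfNat.ofNat.{0} @Nat (nat_lit 7) (@instOfNatNat (nat_lit 7))))) => nat_lit 996001) @(fun (x8 : @Eq.{1} @Nat @x0 (@OfNat.ofNat.{0} @Nat (nat_lit 7) (@instOfNatNat (nat_lit 7)))) => @Eq.rec.{1, 1} @Nat (nat_lit 7) @(fun (x9 : @Nat) (x10 : @Eq.{1} @Nat (@OfNat.ofNat.{0} @Nat (nat_lit 7) (@instOfNatNat (nat_lit 7))) @x9) => @Nat) (nat_lit 999997) @x0 (@Eq.symm.{1} @Nat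 @x0 (@OfNat.ofNat.{0} @Nat (nat_lit 7) (@instOfNatNat (nat_lit 7))) @x8)) (@Cfsg.Agent.KO847a921.k1 @x0 (nat_lit 7))) @(fun (x7 : @Eq.{1} @Nat @x0 (@OfNat.ofNat.{0} @Nat (nat_lit 6) (@instOfNatNat (nat_lit 6)))) => @Eq.rec.{1, 1} @Nat (nat_lit 6) @(fun (x8 : @Nat) (x9 : @Eq.{1} @Nat (@OfNat.ofNat.{0} @Nat (nat_lit 6) (@instOfNatNat (nat_lit 6))) @x8) => @Nat) (nat_lit 4000) @x0 (@Eq.symm.{1} @Nat @x0 (@OfNat.ofNat.{0} @Nat (nat_lit 6) (@instOfNatNat (nat_lit 6))) @x7)) (@Cfsg.Agent.KO847a921.k1 @x0 (nat_lit 6))) @(fun (x6 : @Eq.{1} @Nat @x0 (@OfNat.ofNat.{0} @Nat (nat_lit 5) (@instOfNatNat (nat_lit 5)))) => @Eq.rec.{1, 1} @Nat (nat_lit 5) @(fun (x7 : @Nat) (x8 : @Eq.{1} @Nat (@OfNat.ofNat.{0} @Nat (nat_lit 5) (@instOfNatNat (nat_lit 5))) @x7) => @Nat) (nat_lit 4) @x0 (@Eq.symm.{1} @Nat @x0 (@OfNat.ofNat.{0} @Nat (nat_lit 5) (@instOfNatNat (nat_lit 5))) @x6)) (@Cfsg.Agent.KO847a921.k1 @x0 (nat_lit 5))) @(fun (x5 : @Eq.{1} @Nat @x0 (@OfNat.ofNat.{0} @Nat (nat_lit 4) (@instOfNatNat (nat_lit 4)))) => @Eq.rec.{1, 1} @Nat (nat_lit 4) @(fun (x6 : @Nat) (x7 : @Eq.{1} @Nat (@OfNat.ofNat.{0}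 @Nat (nat_lit 4) (@instOfNatNat (nat_lit 4))) @x6) => @Nat) (nat_lit 999001) @x0 (@Eq.symm.{1} @Nat @x0 (@OfNat.ofNat.{0} @Nat (nat_lit 4) (@instOfNatNat (nat_lit 4))) @x5)) (@Cfsg.Agent.KO847a921.k1 @x0 (nat_lit 4))) @(fun (x4 : @Eq.{1} @Nat @x0 (@OfNat.ofNat.{0} @Nat (nat_lit 3) (@instOfNatNat (nat_lit 3)))) => @Eq.rec.{1, 1} @Nat (nat_lit 3) @(fun (x5 : @Nat) (x6 : @Eq.{1} @Nat (@OfNat.ofNat.{0} @Nat (nat_lit 3) (@instOfNatNat (nat_lit 3))) @x5) => @Nat) (nat_lit 1000000) @x0 (@Eq.symm.{1} @Nat @x0 (@OfNat.ofNat.{0} @Nat (nat_lit 3) (@instOfNatNat (nat_lit 3))) @x4)) (@Cfsg.Agent.KO847a921.k1 @x0 (nat_lit 3))) @(fun (x3 : @Eq.{1} @Nat @x0 (@OfNat.ofNat.{0} @Nat (nat_lit 2) (@instOfNatNat (nat_lit 2)))) => @Eq.rec.{1, 1} @Nat (nat_lit 2) @(fun (x4 : @Nat) (x5 : @Eq.{1} @Nat (@OfNat.ofNat.{0} @Nat (nat_lit 2) (@instOfNatNat (nat_lit 2))) @x4) => @Nat) (nat_lit 1000) @x0 (@Eq.symm.{1} @Nat @x0 (@OfNat.ofNat.{0} @Nat (nat_lit 2) (@instOfNatNat (nat_lit 2))) @x3)) (@Cfsg.Agent.KO847a921.k1 @x0 (nat_lit 2))) @(fun (x2 : @Eq.{1} @Nat @x0 (@OfNat.ofNat.{0} @Nat (nat_lit 1) (@instOfNatNat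 (nat_lit 1)))) => @Eq.rec.{1, 1} @Nat (nat_lit 1) @(fun (x3 : @Nat) (x4 : @Eq.{1} @Nat (@OfNat.ofNat.{0} @Nat (nat_lit 1) (@instOfNatNat (nat_lit 1))) @x3) => @Nat) (nat_lit 1) @x0 (@Eq.symm.{1} @Nat @x0 (@OfNat.ofNat.{0} @Nat (nat_lit 1) (@instOfNatNat (nat_lit 1))) @x2)) (@Cfsg.Agent.KO847a921.k1 @x0 (nat_lit 1))) @(fun (x1 : @Eq.{1} @Nat @x0 (@OfNat.ofNat.{0} @Nat (nat_lit 0) (@instOfNatNat (nat_lit 0)))) => @Eq.rec.{1, 1} @Nat (nat_lit 0) @(fun (x2 : @Nat) (x3 : @Eq.{1} @Nat (@OfNat.ofNat.{0} @Nat (nat_lit 0) (@instOfNatNat (nat_lit 0))) @x2) => @Nat) (nat_lit 0) @x0 (@Eq.symm.{1} @Nat @x0 (@OfNat.ofNat.{0} @Nat (nat_lit 0) (@instOfNatNat (nat_lit 0))) @x1)) (@Cfsg.Agent.KO847a921.k1 @x0 (nat_lit 0)))) ?_); rewrite [← Cfsg.Agent.KO847a921.e1]; rfl') | exact @Cfsg.Agent.H29.TitsMat.rs | exact ()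
private theorem _root_.Cfsg.Agent.KO847a921.e2 : (by first | exact @Cfsg.Agent.H29.TitsMat.rs = @_root_.Cfsg.Agent.KO847a921.k2 | exact True : Prop) := by first | (delta _root_.Cfsg.Agent.KO847a921.k2; exact @Subtype.property _ (fun g => @Cfsg.Agent.H29.TitsMat.rs = @g) _) | rfl | trivial
private noncomputable def _root_.Cfsg.Agent.KO847a921.k3 : (by first | exact type_of% @Cfsg.Agent.H29.TitsMat.nib | exact Unit : Sort _) := by first | (refine @Subtype.val _ (fun g => @Cfsg.Agent.H29.TitsMat.nib = @g) (@Subtype.mk _ _ (@(fun (x0 : @Nat) (x1 : @Nat) => @Nat.land (@Nat.shiftRight @x0 (@Nat.mul (nat_lit 4) @x1)) (nat_lit 15))) ?_); rfl') | exact @Cfsg.Agent.H29.TitsMat.nib | exact ()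
private theorem _root_.Cfsg.Agent.KO847a921.e3 : (by first | exact @Cfsg.Agent.H29.TitsMat.nib = @_root_.Cfsg.Agent.KO847a921.k3 | exact True : Prop) := by first | (delta _root_.Cfsg.Agent.KO847a921.k3; exact @Subtype.property _ (fun g => @Cfsg.Agent.H29.TitsMat.nib = @g) _) | rfl | trivial
private noncomputable def _root_.Cfsg.Agent.KO847a921.k4 : (by first | exact type_of% @Cfsg.Agent.H29.TitsMat.dig | exact Unit : Sort _) := by first | (refine @Subtype.val _ (fun g => @Cfsg.Agent.H29.TitsMat.dig = @g) (@Subtype.mk _ _ (@(fun (x0 : @Nat) (x1 : @Nat) (x2 : @Nat) (x3 : @Nat) => @Nat.rec.{1} @(fun (x4 : @Nat) => (@Nat → (@Nat → @Bool))) @(fun (x4 : @Nat) (x5 : @Nat) => @Bool.true) @(fun (x4 : @Nat) (x5 : (@Nat → (@Nat → @Bool))) (x6 : @Nat) (x7 : @Nat) => @Bool.rec.{1} @(fun (x8 : @Bool) => @Bool) @Bool.false (@x5 (@Nat.div @x6 (nat_lit 281474976710656)) (@Nat.add @x7 (nat_lit 1))) (@Nat.beq (@Nat.mod (@Nat.mod @x6 (nat_lit 281474976710656)) (nat_lit 1000001)) (@Nat.mod (@Nat.mul (nat_lit 4) (@Cfsg.Agent.KO847a921.k2 (@Cfsg.Agent.KO847a921.k3 @x0 @x7))) (nat_lit 1000001))))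 @x1 @x2 @x3)) ?_); rewrite [← Cfsg.Agent.KO847a921.e2, ← Cfsg.Agent.KO847a921.e3]; funext a0 a1 a2 a3; refine (congrFun (congrFun (_root_.Cfsg.Agent.KO847a921.e0 (fun a1 a2 a3 => @Cfsg.Agent.H29.TitsMat.dig a0 a1 a2 a3) ?_ (fun c0 => ?_) a1) a2) a3 :) <;> ((try delta Cfsg.Agent.H29.TitsMat.dig Cfsg.Agent.H29.TitsMat.dig._f); (try generalize @Cfsg.Agent.H29.TitsMat.rs = g0); (try generalize @Cfsg.Agent.H29.TitsMat.nib = g1); rfl')) | exact @Cfsg.Agent.H29.TitsMat.dig | exact ()
private theorem _root_.Cfsg.Agent.KO847a921.e4 : (by first | exact @Cfsg.Agent.H29.TitsMat.dig = @_root_.Cfsg.Agent.KO847a921.k4 | exact True : Prop) := by first | (delta _root_.Cfsg.Agent.KO847a921.k4; exact @Subtype.property _ (fun g => @Cfsg.Agent.H29.TitsMat.dig = @g) _) | rfl | trivial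
private theorem _root_.Cfsg.Agent.KO847a921.e5.{ku, kv} {α : Type kv} {M : List α → Sort ku} (φ : ∀ l, M l) {z : M List.nil} {s : ∀ a l, M l → M (List.cons a l)} (h0 : φ List.nil = z) (hs : ∀ a l, φ (List.cons a l) = s a l (φ l)) (l : List α) : φ l = @List.rec α M z s l := List.rec h0 (fun a l ih => (hs a l).trans (congrArg (s a l) ih)) l
private noncomputable def _root_.Cfsg.Agent.KO847a921.k6 : (by first | exact type_of% @Cfsg.Agent.H29.TitsMat.comb | exact Unit : Sort _) := by first | (refine @Subtype.val _ (fun g => @Cfsg.Agent.H29.TitsMat.comb = @g) (@Subtype.mk _ _ (@(fun (x0 : @Nat) (x1 : @List.{0} @Nat) (x2 : @Nat) => @List.rec.{1, 0} @Nat @(fun (x3 : @List.{0} @Nat) => (@Nat → @Nat)) @(fun (x3 : @Nat) => nat_lit 0) @(fun (x3 : @Nat) (x4 : @List.{0} @Nat) (x5 : (@Nat → @Nat)) (x6 : @Nat) => @Nat.add (@Nat.mul (@Cfsg.Agent.KO847a921.k2 (@Cfsg.Agent.KO847a921.k3 @x0 @x6)) @x3) (@x5 (@Nat.add @x6 (nat_lit 1)))) @x1 @x2)) ?_); rewrite [← Cfsg.Agent.KO847a921.e2, ← Cfsg.Agent.KO847a921.e3]; funext a0 a1 a2; refine (congrFun (_root_.Cfsg.Agent.KO847a921.e5 (fun a1 a2 =>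 @Cfsg.Agent.H29.TitsMat.comb a0 a1 a2) ?_ (fun c0 c1 => ?_) a1) a2 :) <;> ((try delta Cfsg.Agent.H29.TitsMat.comb Cfsg.Agent.H29.TitsMat.comb._f); (try generalize @Cfsg.Agent.H29.TitsMat.rs = g0); (try generalize @Cfsg.Agent.H29.TitsMat.nib = g1); rfl')) | exact @Cfsg.Agent.H29.TitsMat.comb | exact ()
private theorem _root_.Cfsg.Agent.KO847a921.e6 : (by first | exact @Cfsg.Agent.H29.TitsMat.comb = @_root_.Cfsg.Agent.KO847a921.k6 | exact True : Prop) := by first | (delta _root_.Cfsg.Agent.KO847a921.k6; exact @Subtype.property _ (fun g => @Cfsg.Agent.H29.TitsMat.comb = @g) _) | rfl | trivial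
private noncomputable def _root_.Cfsg.Agent.KO847a921.k7 : (by first | exact type_of% @Cfsg.Agent.H29.TitsMat.chkR | exact Unit : Sort _) := by first | (refine @Subtype.val _ (fun g => @Cfsg.Agent.H29.TitsMat.chkR = @g) (@Subtype.mk _ _ (@(fun (x0 : @Nat) (x1 : @Nat) (x2 : @List.{0} @Nat) (x3 : @Nat) (x4 : @Nat) => @Nat.rec.{1} @(fun (x5 : @Nat) => (@Nat → @Bool)) @(fun (x5 : @Nat) => @Bool.true) @(fun (x5 : @Nat) (x6 : (@Nat → @Bool)) (x7 : @Nat) => @Bool.rec.{1} @(fun (x8 : @Bool) => @Bool) @Bool.false (@x6 (@Nat.add @x7 (nat_lit 27))) (@Cfsg.Agent.KO847a921.k4 @x1 (nat_lit 27) (@Cfsg.Agent.KO847a921.k6 @x0 @x2 @x7) @x7)) @x3 @x4)) ?_); rewrite [← Cfsg.Agent.KO847a921.e4, ← Cfsg.Agent.KO847a921.e6]; funext a0 a1 a2 a3 a4; refine (congrFun (_root_.Cfsg.Agent.KO847a921.e0 (fun a3 a4 => @Cfsg.Agent.H29.TitsMat.chkR a0 a1 a2 a3 a4) ?_ (fun c0 => ?_) a3) a4 :) <;> ((try delta Cfsg.Agent.H29.TitsMat.chkR Cfsg.Agent.H29.TitsMat.chkR._f); (try generalize @Cfsg.Agent.H29.TitsMat.dig = g0); (try generalize @Cfsg.Agent.H29.TitsMat.comb = g1); rfl')) | exact @Cfsg.Agent.H29.TitsMat.chkR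 | exact ()
private theorem _root_.Cfsg.Agent.KO847a921.e7 : (by first | exact @Cfsg.Agent.H29.TitsMat.chkR = @_root_.Cfsg.Agent.KO847a921.k7 | exact True : Prop) := by first | (delta _root_.Cfsg.Agent.KO847a921.k7; exact @Subtype.property _ (fun g => @Cfsg.Agent.H29.TitsMat.chkR = @g) _) | rfl | trivial
private noncomputable def _root_.Cfsg.Agent.KO847a921.k8 : (by first | exact type_of% @Cfsg.Agent.H29.TitsMat.pk | exact Unit : Sort _) := by first | (refine @Subtype.val _ (fun g => @Cfsg.Agent.H29.TitsMat.pk = @g) (@Subtype.mk _ _ (@(fun (x0 : @Nat) (x1 : @Nat) (x2 : @Nat) => @Nat.rec.{1} @(fun (x3 : @Nat) => (@Nat → @Nat)) @(fun (x3 : @Nat) => nat_lit 0) @(fun (x3 : @Nat) (x4 : (@Nat → @Nat)) (x5 : @Nat) => @Nat.add (@Cfsg.Agent.KO847a921.k2 (@Cfsg.Agent.KO847a921.k3 @x0 @x5)) (@Nat.mul (nat_lit 281474976710656) (@x4 (@Nat.add @x5 (nat_lit 1))))) @x1 @x2)) ?_); rewrite [← Cfsg.Agent.KO847a921.e2, ← Cfsg.Agent.KO847a921.e3]; funext a0 a1 a2; refine (congrFun (_root_.Cfsg.Agent.KO847a921.e0 (fun a1 a2 => @Cfsg.Agent.H29.TitsMat.pk a0 a1 a2) ?_ (fun c0 => ?_) a1) a2 :) <;>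 ((try delta Cfsg.Agent.H29.TitsMat.pk Cfsg.Agent.H29.TitsMat.pk._f); (try generalize @Cfsg.Agent.H29.TitsMat.rs = g0); (try generalize @Cfsg.Agent.H29.TitsMat.nib = g1); rfl')) | exact @Cfsg.Agent.H29.TitsMat.pk | exact ()
private theorem _root_.Cfsg.Agent.KO847a921.e8 : (by first | exact @Cfsg.Agent.H29.TitsMat.pk = @_root_.Cfsg.Agent.KO847a921.k8 | exact True : Prop) := by first | (delta _root_.Cfsg.Agent.KO847a921.k8; exact @Subtype.property _ (fun g => @Cfsg.Agent.H29.TitsMat.pk = @g) _) | rfl | trivial
private noncomputable def _root_.Cfsg.Agent.KO847a921.k9 : (by first | exact type_of% @Cfsg.Agent.H29.TitsMat.rows | exact Unit : Sort _) := by first | (refine @Subtype.val _ (fun g => @Cfsg.Agent.H29.TitsMat.rows = @g) (@Subtype.mk _ _ (@(fun (x0 : @Nat) (x1 : @Nat) (x2 : @Nat) => @Nat.rec.{1} @(fun (x3 : @Nat) => (@Nat → @List.{0} @Nat)) @(fun (x3 : @Nat) => @List.nil.{0} @Nat) @(fun (x3 : @Nat) (x4 : (@Nat → @List.{0} @Nat)) (x5 : @Nat) => @List.cons.{0} @Nat (@Cfsg.Agent.KO847a921.k8 @x0 (nat_lit 27) @x5) (@x4 (@Nat.add @x5 (nat_lit 27)))) @x1 @x2)) ?_); rewrite [←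 Cfsg.Agent.KO847a921.e8]; funext a0 a1 a2; refine (congrFun (_root_.Cfsg.Agent.KO847a921.e0 (fun a1 a2 => @Cfsg.Agent.H29.TitsMat.rows a0 a1 a2) ?_ (fun c0 => ?_) a1) a2 :) <;> ((try delta Cfsg.Agent.H29.TitsMat.rows Cfsg.Agent.H29.TitsMat.rows._f); (try generalize @Cfsg.Agent.H29.TitsMat.pk = g0); rfl')) | exact @Cfsg.Agent.H29.TitsMat.rows | exact ()
private theorem _root_.Cfsg.Agent.KO847a921.e9 : (by first | exact @Cfsg.Agent.H29.TitsMat.rows = @_root_.Cfsg.Agent.KO847a921.k9 | exact True : Prop) := by first | (delta _root_.Cfsg.Agent.KO847a921.k9; exact @Subtype.property _ (fun g => @Cfsg.Agent.H29.TitsMat.rows = @g) _) | rfl | trivial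
private noncomputable def _root_.Cfsg.Agent.KO847a921.k10 : (by first | exact type_of% @Cfsg.Agent.H29.TitsMat.chk | exact Unit : Sort _) := by first | (refine @Subtype.val _ (fun g => @Cfsg.Agent.H29.TitsMat.chk = @g) (@Subtype.mk _ _ (@(fun (x0 : @Nat) (x1 : @Nat) (x2 : @Nat) => @Cfsg.Agent.KO847a921.k7 @x0 @x2 (@Cfsg.Agent.KO847a921.k9 @x1 (nat_lit 27) (nat_lit 0)) (nat_lit 27) (nat_lit 0))) ?_); rewrite [← Cfsg.Agent.KO847a921.e7, ← Cfsg.Agent.KO847a921.e9]; (try delta Cfsg.Agent.H29.TitsMat.chk); (try generalize @Cfsg.Agent.H29.TitsMat.chkR = g0); (try generalize @Cfsg.Agent.H29.TitsMat.rows = g1); rfl') | exact @Cfsg.Agent.H29.TitsMat.chk | exact ()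
private theorem _root_.Cfsg.Agent.KO847a921.e10 : (by first | exact @Cfsg.Agent.H29.TitsMat.chk = @_root_.Cfsg.Agent.KO847a921.k10 | exact True : Prop) := by first | (delta _root_.Cfsg.Agent.KO847a921.k10; exact @Subtype.property _ (fun g => @Cfsg.Agent.H29.TitsMat.chk = @g) _) | rfl | trivial

theorem kall : chk z1 z2 m0 = true ∧
    chk m0 z4 m1 = true ∧
    chk m1 z5 m2 = true ∧
    chk m2 z7 m3 = true ∧
    chk m3 z0 m4 = true ∧
    chk m4 z2 m5 = true ∧
    chk m5 z6 m6 = true ∧
    chk m6 z3 m7 = true ∧
    chk m7 z2 m8 = true ∧
    chk m8 z7 m9 = true ∧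
    chk m9 z3 m10 = true ∧
    chk m10 z6 m11 = true ∧
    chk m11 z5 m12 = true ∧
    chk z4 z5 m13 = true ∧
    chk m13 z7 m14 = true ∧
    chk m14 z4 m15 = true ∧
    chk m15 z3 m16 = true ∧
    chk m16 z0 m17 = true ∧
    chk m17 z3 m18 = true ∧
    chk m18 z1 m19 = true ∧
    chk m19 z6 m20 = true ∧
    chk m20 z2 m21 = true ∧
    chk m21 z1 m22 = true ∧
    chk m22 z6 m23 = true ∧
    chk m12 m12 m24 = true ∧
    chk m24 m23 m25 = true ∧
    chk m12 m25 m26 = true ∧
    chk m26 m23 m27 = true ∧
    chk m12 m23 m28 = true ∧
    chk m28 m23 m29 = true ∧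
    chk m26 m26 m30 = true ∧
    chk m30 m30 m31 = true ∧
    chk m31 m31 m32 = true ∧
    chk m25 m25 m33 = true ∧
    chk m29 m29 m34 = true ∧
    chk m34 m34 m35 = true ∧
    chk m27 m27 m36 = true ∧
    chk m36 m27 m37 = true ∧
    chk m36 m36 m38 = true ∧
    chk m37 m37 m39 = true ∧
    chk m33 m33 m40 = true ∧
    chk m40 m25 m41 = true := by
  (first | (rewrite [Cfsg.Agent.KO847a921.e10]; decide +kernel) | decide +kernel)

theorem k0 : chk z1 z2 m0 = true := kall.1
theorem k1 : chk m0 z4 m1 = true := kall.2.1
theorem k2 : chk m1 z5 m2 = true := kall.2.2.1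
theorem k3 : chk m2 z7 m3 = true := kall.2.2.2.1
theorem k4 : chk m3 z0 m4 = true := kall.2.2.2.2.1
theorem k5 : chk m4 z2 m5 = true := kall.2.2.2.2.2.1
theorem k6 : chk m5 z6 m6 = true := kall.2.2.2.2.2.2.1
theorem k7 : chk m6 z3 m7 = true := kall.2.2.2.2.2.2.2.1
theorem k8 : chk m7 z2 m8 = true := kall.2.2.2.2.2.2.2.2.1
theorem k9 : chk m8 z7 m9 = true := kall.2.2.2.2.2.2.2.2.2.1
theorem k10 : chk m9 z3 m10 = true := kall.2.2.2.2.2.2.2.2.2.2.1
theorem k11 : chk m10 z6 m11 = true := kall.2.2.2.2.2.2.2.2.2.2.2.1
theorem k12 : chk m11 z5 m12 = true := kall.2.2.2.2.2.2.2.2.2.2.2.2.1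
theorem k13 : chk z4 z5 m13 = true := kall.2.2.2.2.2.2.2.2.2.2.2.2.2.1
theorem k14 : chk m13 z7 m14 = true := kall.2.2.2.2.2.2.2.2.2.2.2.2.2.2.1
theorem k15 : chk m14 z4 m15 = true := kall.2.2.2.2.2.2.2.2.2.2.2.2.2.2.2.1
theorem k16 : chk m15 z3 m16 = true := kall.2.2.2.2.2.2.2.2.2.2.2.2.2.2.2.2.1
theorem k17 : chk m16 z0 m17 = true := kall.2.2.2.2.2.2.2.2.2.2.2.2.2.2.2.2.2.1
theorem k18 : chk m17 z3 m18 = true := kall.2.2.2.2.2.2.2.2.2.2.2.2.2.2.2.2.2.2.1
theorem k19 : chk m18 z1 m19 = true := kall.2.2.2.2.2.2.2.2.2.2.2.2.2.2.2.2.2.2.2.1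
theorem k20 : chk m19 z6 m20 = true := kall.2.2.2.2.2.2.2.2.2.2.2.2.2.2.2.2.2.2.2.2.1
theorem k21 : chk m20 z2 m21 = true := kall.2.2.2.2.2.2.2.2.2.2.2.2.2.2.2.2.2.2.2.2.2.1
theorem k22 : chk m21 z1 m22 = true := kall.2.2.2.2.2.2.2.2.2.2.2.2.2.2.2.2.2.2.2.2.2.2.1
theorem k23 : chk m22 z6 m23 = true := kall.2.2.2.2.2.2.2.2.2.2.2.2.2.2.2.2.2.2.2.2.2.2.2.1
theorem k24 : chk m12 m12 m24 = true := kall.2.2.2.2.2.2.2.2.2.2.2.2.2.2.2.2.2.2.2.2.2.2.2.2.1
theorem k25 : chk m24 m23 m25 = true := kall.2.2.2.2.2.2.2.2.2.2.2.2.2.2.2.2.2.2.2.2.2.2.2.2.2.1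
theorem k26 : chk m12 m25 m26 = true := kall.2.2.2.2.2.2.2.2.2.2.2.2.2.2.2.2.2.2.2.2.2.2.2.2.2.2.1
theorem k27 : chk m26 m23 m27 = true := kall.2.2.2.2.2.2.2.2.2.2.2.2.2.2.2.2.2.2.2.2.2.2.2.2.2.2.2.1
theorem k28 : chk m12 m23 m28 = true := kall.2.2.2.2.2.2.2.2.2.2.2.2.2.2.2.2.2.2.2.2.2.2.2.2.2.2.2.2.1
theorem k29 : chk m28 m23 m29 = true := kall.2.2.2.2.2.2.2.2.2.2.2.2.2.2.2.2.2.2.2.2.2.2.2.2.2.2.2.2.2.1
theorem k30 : chk m26 m26 m30 = true := kall.2.2.2.2.2.2.2.2.2.2.2.2.2.2.2.2.2.2.2.2.2.2.2.2.2.2.2.2.2.2.1
theorem k31 : chk m30 m30 m31 = true := kall.2.2.2.2.2.2.2.2.2.2.2.2.2.2.2.2.2.2.2.2.2.2.2.2.2.2.2.2.2.2.2.1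
theorem k32 : chk m31 m31 m32 = true := kall.2.2.2.2.2.2.2.2.2.2.2.2.2.2.2.2.2.2.2.2.2.2.2.2.2.2.2.2.2.2.2.2.1
theorem k33 : chk m25 m25 m33 = true := kall.2.2.2.2.2.2.2.2.2.2.2.2.2.2.2.2.2.2.2.2.2.2.2.2.2.2.2.2.2.2.2.2.2.1
theorem k34 : chk m29 m29 m34 = true := kall.2.2.2.2.2.2.2.2.2.2.2.2.2.2.2.2.2.2.2.2.2.2.2.2.2.2.2.2.2.2.2.2.2.2.1
theorem k35 : chk m34 m34 m35 = true := kall.2.2.2.2.2.2.2.2.2.2.2.2.2.2.2.2.2.2.2.2.2.2.2.2.2.2.2.2.2.2.2.2.2.2.2.1
theorem k36 : chk m27 m27 m36 = true := kall.2.2.2.2.2.2.2.2.2.2.2.2.2.2.2.2.2.2.2.2.2.2.2.2.2.2.2.2.2.2.2.2.2.2.2.2.1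
theorem k37 : chk m36 m27 m37 = true := kall.2.2.2.2.2.2.2.2.2.2.2.2.2.2.2.2.2.2.2.2.2.2.2.2.2.2.2.2.2.2.2.2.2.2.2.2.2.1
theorem k38 : chk m36 m36 m38 = true := kall.2.2.2.2.2.2.2.2.2.2.2.2.2.2.2.2.2.2.2.2.2.2.2.2.2.2.2.2.2.2.2.2.2.2.2.2.2.2.1
theorem k39 : chk m37 m37 m39 = true := kall.2.2.2.2.2.2.2.2.2.2.2.2.2.2.2.2.2.2.2.2.2.2.2.2.2.2.2.2.2.2.2.2.2.2.2.2.2.2.2.1
theorem k40 : chk m33 m33 m40 = true := kall.2.2.2.2.2.2.2.2.2.2.2.2.2.2.2.2.2.2.2.2.2.2.2.2.2.2.2.2.2.2.2.2.2.2.2.2.2.2.2.2.1
theorem k41 : chk m40 m25 m41 = true := kall.2.2.2.2.2.2.2.2.2.2.2.2.2.2.2.2.2.2.2.2.2.2.2.2.2.2.2.2.2.2.2.2.2.2.2.2.2.2.2.2.2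

/-- the word `w` has the code `c` -/
def PV (ρ : TN →* GL (Fin 27) ℂ) (w : List ℕ) (c : ℕ) : Prop := V phi (ρ (wg w)) c

variable {ρ : TN →* GL (Fin 27) ℂ}

theorem PV.mul {v w : List ℕ} {a b c : ℕ} (hv : PV ρ v a) (hw : PV ρ w b) (h : chk a b c = true) :
    PV ρ (v ++ w) c := by
  rw [PV, wg_append, map_mul]
  exact V.mul hv hw h

theorem PV.eq {v w : List ℕ} {a : ℕ} (hv : PV ρ v a) (h : eqW (md w) (md v) = true) : PV ρ w a := by
  rw [PV, wg_eq h]
  exact hv

theorem pz (hρ : ∀ i, ρ (ZP i) = Zg i) (i : ZMod 8) : PV ρ (zW i) (zc (i + 1)) := by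
  rw [PV, show wg (zW i) = ZP i from rfl, hρ]
  exact vz phi (i + 1)

theorem PV.tr {v w : List ℕ} {c : ℕ} {a b : ℤ} (hv : PV ρ v c) (hw : w = v)
    (h : ∑ i : Fin 27, gs (nib c (27 * i + i)) = ⟨4 * a, 4 * b⟩) : trc ρ (wg w) = a + b * Complex.I := by
  rw [trc, hw, show (ρ (wg v) : Matrix (Fin 27) (Fin 27) ℂ) = _ from hv, Matrix.trace]
  simp only [Matrix.diag_apply, GM_apply]
  rw [← Finset.mul_sum, ← map_sum, h, phi, GaussianInt.toComplex_def]
  push_cast
  ring

/-- the real parts -/
def re : List ℤ := [27, -5, 3, 0, 3, -1, -1, 2, 0, -1, -1, 0, 0, 1, 0, 3, -5]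

/-- the imaginary parts -/
def im : List ℤ := [0, 0, 0, 0, 0, 0, 0, 0, 0, -2, 0, 0, 0, 0, 1, 0, 0]

private noncomputable def _root_.Cfsg.Agent.KO847a921.k11 : (by first | exact type_of% @Cfsg.Agent.Lib.BitNetSimple.force | exact Unit : Sort _) := by first | (refine @Subtype.val _ (fun g => @Cfsg.Agent.Lib.BitNetSimple.force = @g) (@Subtype.mk _ _ (@(fun (x0 : Type) (x1 : @Nat) (x2 : (@Nat → x0)) => @Nat.rec.{1} @(fun (x3 : @Nat) => x0) (@x2 (nat_lit 0)) @(fun (x3 : @Nat) (x4 : x0) => @x2 (@Nat.succ @x3)) @x1)) ?_); rfl') | exact @Cfsg.Agent.Lib.BitNetSimple.force | exact ()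
private theorem _root_.Cfsg.Agent.KO847a921.e11 : (by first | exact @Cfsg.Agent.Lib.BitNetSimple.force = @_root_.Cfsg.Agent.KO847a921.k11 | exact True : Prop) := by first | (delta _root_.Cfsg.Agent.KO847a921.k11; exact @Subtype.property _ (fun g => @Cfsg.Agent.Lib.BitNetSimple.force = @g) _) | rfl | trivial
private noncomputable def _root_.Cfsg.Agent.KO847a921.k12 : (by first | exact type_of% @Cfsg.Agent.Lib.BitNetSimple.tb | exact Unit : Sort _) := by first | (refine @Subtype.val _ (fun g => @Cfsg.Agent.Lib.BitNetSimple.tb = @g) (@Subtype.mk _ _ (@(fun (x0 : @Nat) (x1 : @Nat) => @Nat.beq (@Nat.land (@Nat.shiftRight @x0 @x1) (nat_lit 1)) (nat_lit 1))) ?_); rfl') | exact @Cfsg.Agent.Lib.BitNetSimple.tb | exact ()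
private theorem _root_.Cfsg.Agent.KO847a921.e12 : (by first | exact @Cfsg.Agent.Lib.BitNetSimple.tb = @_root_.Cfsg.Agent.KO847a921.k12 | exact True : Prop) := by first | (delta _root_.Cfsg.Agent.KO847a921.k12; exact @Subtype.property _ (fun g => @Cfsg.Agent.Lib.BitNetSimple.tb = @g) _) | rfl | trivial
private noncomputable def _root_.Cfsg.Agent.KO847a921.k13 : (by first | exact type_of% @Cfsg.Agent.Lib.BitNetSimple.swF | exact Unit : Sort _) := by first | (refine @Subtype.val _ (fun g => @Cfsg.Agent.Lib.BitNetSimple.swF = @g) (@Subtype.mk _ _ (@(fun (x0 : @Nat) (x1 : @Nat) (x2 : @Nat) => @Bool.rec.{1} @(fun (x3 : @Bool) => @Nat) (@Bool.rec.{1} @(fun (x3 : @Bool) => @Nat) @x2 (@Nat.sub @x2 @x0) (@Bool.rec.{1} @(fun (x3 : @Bool) => @Bool) @Bool.false (@Cfsg.Agent.KO847a921.k12 @x1 (@Nat.sub @x2 @x0)) (@Nat.ble @x0 @x2))) (@Nat.add @x2 @x0) (@Cfsg.Agent.KO847a921.k12 @x1 @x2))) ?_); rewrite [← Cfsg.Agent.KO847a921.e12]; (try delta Cfsg.Agent.Lib.BitNetSimple.swF); (try generalize @Cfsg.Agent.Lib.BitNetSimple.tb = g0); rfl') | exact @Cfsg.Agent.Lib.BitNetSimple.swF | exact ()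
private theorem _root_.Cfsg.Agent.KO847a921.e13 : (by first | exact @Cfsg.Agent.Lib.BitNetSimple.swF = @_root_.Cfsg.Agent.KO847a921.k13 | exact True : Prop) := by first | (delta _root_.Cfsg.Agent.KO847a921.k13; exact @Subtype.property _ (fun g => @Cfsg.Agent.Lib.BitNetSimple.swF = @g) _) | rfl | trivial
private noncomputable def _root_.Cfsg.Agent.KO847a921.k14 : (by first | exact type_of% @Cfsg.Agent.Lib.BitNetSimple.appF | exact Unit : Sort _) := by first | (refine @Subtype.val _ (fun g => @Cfsg.Agent.Lib.BitNetSimple.appF = @g) (@Subtype.mk _ _ (@(fun (x0 : @List.{0} (@Prod.{0, 0} @Nat @Nat)) => @List.rec.{1, 0} (@Prod.{0, 0} @Nat @Nat) @(fun (x1 : @List.{0} (@Prod.{0, 0} @Nat @Nat)) => (@Nat → @Nat)) @(fun (x1 : @Nat) => x1) @(fun (x1 : @Prod.{0, 0} @Nat @Nat) (x2 : @List.{0} (@Prod.{0, 0} @Nat @Nat)) (x3 : (@Nat → @Nat)) (x4 : @Nat) => @Cfsg.Agent.KO847a921.k11 @Nat (@Cfsg.Agent.KO847a921.k13 (@Prod.fst.{0, 0} @Nat @Nat @x1) (@Prod.snd.{0, 0} @Nat @Nat @x1) @x4) @x3) @x0)) ?_); rewrite [← Cfsg.Agent.KO847a921.e11, ← Cfsg.Agent.KO847a921.e13]; (try delta Cfsg.Agent.Lib.BitNetSimple.appF);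 (try generalize @Cfsg.Agent.Lib.BitNetSimple.force = g0); (try generalize @Cfsg.Agent.Lib.BitNetSimple.swF = g1); rfl') | exact @Cfsg.Agent.Lib.BitNetSimple.appF | exact ()
private theorem _root_.Cfsg.Agent.KO847a921.e14 : (by first | exact @Cfsg.Agent.Lib.BitNetSimple.appF = @_root_.Cfsg.Agent.KO847a921.k14 | exact True : Prop) := by first | (delta _root_.Cfsg.Agent.KO847a921.k14; exact @Subtype.property _ (fun g => @Cfsg.Agent.Lib.BitNetSimple.appF = @g) _) | rfl | trivial
private noncomputable def _root_.Cfsg.Agent.KO847a921.k15.{ku0} : ((x0 : Sort (ku0+1)) → ((@List.{ku0} @x0) → ((@List.{ku0} @x0) → @List.{ku0} @x0))) := @(fun (x0 : Sort (ku0+1)) (x1 : @List.{ku0} @x0) (x2 : @List.{ku0} @x0) => @List.rec.{(ku0+1), ku0} @x0 @(fun (x3 : @List.{ku0} @x0) => ((@List.{ku0} @x0) → @List.{ku0} @x0)) @(fun (x3 : @List.{ku0} @x0) => x3) @(fun (x3 : x0) (x4 : @List.{ku0} @x0) (x5 : ((@List.{ku0} @x0) → @List.{ku0} @x0)) (x6 : @List.{ku0} @x0) => @x5 (@List.cons.{ku0} @x0 @x3 @x6)) @x1 @x2)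
private theorem _root_.Cfsg.Agent.KO847a921.e15.{ku0} : @List.reverseAux.{ku0} = @_root_.Cfsg.Agent.KO847a921.k15.{ku0} := by delta _root_.Cfsg.Agent.KO847a921.k15; funext a0 a1 a2; refine (congrFun (_root_.Cfsg.Agent.KO847a921.e5 (fun a1 a2 => @List.reverseAux.{ku0} a0 a1 a2) ?_ (fun c0 c1 => ?_) a1) a2 :) <;> (rfl')
private noncomputable def _root_.Cfsg.Agent.KO847a921.k16 : (by first | exact type_of% @Cfsg.Agent.TAB.Sm2.Tits.nt | exact Unit : Sort _) := by first | (refine @Subtype.val _ (fun g => @Cfsg.Agent.TAB.Sm2.Tits.nt = @g) (@Subtype.mk _ _ (@(fun (x0 : @Nat) => @Nat.rec.{1} @(fun (x1 : @Nat) => @List.{0} (@Prod.{0, 0} @Nat @Nat)) @Cfsg.Agent.SporadicB.RuTitsData.x0 @(fun (x1 : @Nat) (x2 : @List.{0} (@Prod.{0, 0} @Nat @Nat)) => @Nat.rec.{1} @(fun (x3 : @Nat) => @List.{0} (@Prod.{0, 0} @Nat @Nat)) (@Cfsg.Agent.KO847a921.k15.{0} (@Prod.{0, 0} @Nat @Nat) @Cfsg.Agent.SporadicB.RuTitsData.x0 (@List.nil.{0} (@Prod.{0, 0} @Nat @Nat))) @(fun (x3 : @Nat) (x4 : @List.{0} (@Prod.{0, 0} @Nat @Nat)) => @Nat.rec.{1} @(fun (x5 : @Nat) => @List.{0} (@Prod.{0, 0} @Nat @Nat)) @Cfsg.Agent.SporadicB.RuTitsData.x1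 @(fun (x5 : @Nat) (x6 : @List.{0} (@Prod.{0, 0} @Nat @Nat)) => @Nat.rec.{1} @(fun (x7 : @Nat) => @List.{0} (@Prod.{0, 0} @Nat @Nat)) (@Cfsg.Agent.KO847a921.k15.{0} (@Prod.{0, 0} @Nat @Nat) @Cfsg.Agent.SporadicB.RuTitsData.x1 (@List.nil.{0} (@Prod.{0, 0} @Nat @Nat))) @(fun (x7 : @Nat) (x8 : @List.{0} (@Prod.{0, 0} @Nat @Nat)) => @Nat.rec.{1} @(fun (x9 : @Nat) => @List.{0} (@Prod.{0, 0} @Nat @Nat)) @Cfsg.Agent.SporadicB.RuData.net1 @(fun (x9 : @Nat) (x10 : @List.{0} (@Prod.{0, 0} @Nat @Nat)) => @Cfsg.Agent.KO847a921.k15.{0} (@Prod.{0, 0} @Nat @Nat) @Cfsg.Agent.SporadicB.RuData.net1 (@List.nil.{0} (@Prod.{0, 0} @Nat @Nat))) @x7) @x5) @x3) @x1) @x0)) ?_); rewrite [← Cfsg.Agent.KO847a921.e15.{0}]; (try delta Cfsg.Agent.TAB.Sm2.Tits.nt); (try generalize @Cfsg.Agent.SporadicB.RuTitsData.x0 = g0); (try generalize @Cfsg.Agent.SporadicB.RuTitsData.x1 = g1); (try generalize @Cfsg.Agent.SporadicB.RuData.net1 = g2); rfl') | exact @Cfsg.Agent.TAB.Sm2.Tits.nt | exact ()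
private theorem _root_.Cfsg.Agent.KO847a921.e16 : (by first | exact @Cfsg.Agent.TAB.Sm2.Tits.nt = @_root_.Cfsg.Agent.KO847a921.k16 | exact True : Prop) := by first | (delta _root_.Cfsg.Agent.KO847a921.k16; exact @Subtype.property _ (fun g => @Cfsg.Agent.TAB.Sm2.Tits.nt = @g) _) | rfl | trivial
private noncomputable def _root_.Cfsg.Agent.KO847a921.k17 : (by first | exact type_of% @Cfsg.Agent.TAB.Sm2.Tits.evW | exact Unit : Sort _) := by first | (refine @Subtype.val _ (fun g => @Cfsg.Agent.TAB.Sm2.Tits.evW = @g) (@Subtype.mk _ _ (@(fun (x0 : @List.{0} @Nat) (x1 : @Nat) => @List.rec.{1, 0} @Nat @(fun (x2 : @List.{0} @Nat) => @Nat) @x1 @(fun (x2 : @Nat) (x3 : @List.{0} @Nat) (x4 : @Nat) => @Cfsg.Agent.KO847a921.k11 @Nat @x4 (@Cfsg.Agent.KO847a921.k14 (@Cfsg.Agent.KO847a921.k16 @x2))) @x0)) ?_); rewrite [← Cfsg.Agent.KO847a921.e11, ← Cfsg.Agent.KO847a921.e14, ← Cfsg.Agent.KO847a921.e16]; (try delta Cfsg.Agent.TAB.Sm2.Tits.evW); (try generalize @Cfsg.Agent.Lib.BitNetSimple.force = g0); (try generalize @Cfsg.Agent.Lib.BitNetSimple.appF = g1); (try generalize @Cfsg.Agent.TAB.Sm2.Tits.nt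 = g2); rfl') | exact @Cfsg.Agent.TAB.Sm2.Tits.evW | exact ()
private theorem _root_.Cfsg.Agent.KO847a921.e17 : (by first | exact @Cfsg.Agent.TAB.Sm2.Tits.evW = @_root_.Cfsg.Agent.KO847a921.k17 | exact True : Prop) := by first | (delta _root_.Cfsg.Agent.KO847a921.k17; exact @Subtype.property _ (fun g => @Cfsg.Agent.TAB.Sm2.Tits.evW = @g) _) | rfl | trivial
private noncomputable def _root_.Cfsg.Agent.KO847a921.k18 : (by first | exact type_of% @Cfsg.Agent.TAB.Sm2.Tits.eqW | exact Unit : Sort _) := by first | (refine @Subtype.val _ (fun g => @Cfsg.Agent.TAB.Sm2.Tits.eqW = @g) (@Subtype.mk _ _ (@(fun (x0 : @List.{0} @Nat) (x1 : @List.{0} @Nat) => @Bool.rec.{1} @(fun (x2 : @Bool) => @Bool) @Bool.false (@Bool.rec.{1} @(fun (x2 : @Bool) => @Bool) @Bool.false (@Nat.beq (@Cfsg.Agent.KO847a921.k17 @x0 (nat_lit 577)) (@Cfsg.Agent.KO847a921.k17 @x1 (nat_lit 577))) (@Nat.beq (@Cfsg.Agent.KO847a921.k17 @x0 (nat_lit 580)) (@Cfsg.Agent.KO847a921.k17 @x1 (nat_lit 580)))) (@Nat.beq (@Cfsg.Agent.KO847a921.k17 @x0 (nat_lit 29)) (@Cfsg.Agent.KO847a921.k17 @x1 (nat_lit 29))))) ?_); rewrite [←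 Cfsg.Agent.KO847a921.e17]; (try delta Cfsg.Agent.TAB.Sm2.Tits.eqW Cfsg.Agent.H123.Cls.band); (try generalize @Cfsg.Agent.TAB.Sm2.Tits.evW = g0); rfl') | exact @Cfsg.Agent.TAB.Sm2.Tits.eqW | exact ()
private theorem _root_.Cfsg.Agent.KO847a921.e18 : (by first | exact @Cfsg.Agent.TAB.Sm2.Tits.eqW = @_root_.Cfsg.Agent.KO847a921.k18 | exact True : Prop) := by first | (delta _root_.Cfsg.Agent.KO847a921.k18; exact @Subtype.property _ (fun g => @Cfsg.Agent.TAB.Sm2.Tits.eqW = @g) _) | rfl | trivial
private noncomputable def _root_.Cfsg.Agent.KO847a921.k19.{ku0, ku1} : ((x0 : Sort (ku0+1)) → ((x1 : Sort (ku1+1)) → ((x0 → x1) → ((@List.{ku0} @x0) → @List.{ku1} @x1)))) := @(fun (x0 : Sort (ku0+1)) (x1 : Sort (ku1+1)) (x2 : (x0 → x1)) (x3 : @List.{ku0} @x0) => @List.rec.{(ku1+1), ku0} @x0 @(fun (x4 : @List.{ku0} @x0) => @List.{ku1} @x1) (@List.nil.{ku1} @x1) @(fun (x4 : x0) (x5 : @List.{ku0} @x0) (x6 : @List.{ku1} @x1) => @List.cons.{ku1} @x1 (@x2 @x4) @x6) @x3)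
private theorem _root_.Cfsg.Agent.KO847a921.e19.{ku0, ku1} : @List.map.{ku0, ku1} = @_root_.Cfsg.Agent.KO847a921.k19.{ku0, ku1} := by delta _root_.Cfsg.Agent.KO847a921.k19; funext a0 a1 a2 a3; refine (_root_.Cfsg.Agent.KO847a921.e5 (fun a3 => @List.map.{ku0, ku1} a0 a1 a2 a3) ?_ (fun c0 c1 => ?_) a3 :) <;> (rfl')
private noncomputable def _root_.Cfsg.Agent.KO847a921.k20 : (by first | exact type_of% @Cfsg.Agent.TAB.Sm2.Tits.md | exact Unit : Sort _) := by first | (refine @Subtype.val _ (fun g => @Cfsg.Agent.TAB.Sm2.Tits.md = @g) (@Subtype.mk _ _ (@(fun (x0 : @List.{0} @Nat) => @Cfsg.Agent.KO847a921.k19.{0, 0} @Nat @Nat @(fun (x1 : @Nat) => @Nat.mod @x1 (nat_lit 4)) @x0)) ?_); rewrite [← Cfsg.Agent.KO847a921.e19.{0, 0}]; rfl') | exact @Cfsg.Agent.TAB.Sm2.Tits.md | exact ()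
private theorem _root_.Cfsg.Agent.KO847a921.e20 : (by first | exact @Cfsg.Agent.TAB.Sm2.Tits.md = @_root_.Cfsg.Agent.KO847a921.k20 | exact True : Prop) := by first | (delta _root_.Cfsg.Agent.KO847a921.k20; exact @Subtype.property _ (fun g => @Cfsg.Agent.TAB.Sm2.Tits.md = @g) _) | rfl | trivial

theorem vals (hρ : ∀ i, ρ (ZP i) = Zg i) : ∀ t < 17, trc ρ (wg (rW t)) = re.getD t 0 + im.getD t 0 * Complex.I := by
  have v0 := (pz hρ 0).mul (pz hρ 1) k0
  have v1 := v0.mul (pz hρ 3) k1
  have v2 := v1.mul (pz hρ 4) k2
  have v3 := v2.mul (pz hρ 6) k3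
  have v4 := v3.mul (pz hρ 7) k4
  have v5 := v4.mul (pz hρ 1) k5
  have v6 := v5.mul (pz hρ 5) k6
  have v7 := v6.mul (pz hρ 2) k7
  have v8 := v7.mul (pz hρ 1) k8
  have v9 := v8.mul (pz hρ 6) k9
  have v10 := v9.mul (pz hρ 2) k10
  have v11 := v10.mul (pz hρ 5) k11
  have v12 := v11.mul (pz hρ 4) k12
  have x0 : PV ρ [0] m12 := v12.eq (by (first | (rewrite [Cfsg.Agent.KO847a921.e18, Cfsg.Agent.KO847a921.e20]; decide +kernel) | decide +kernel))
  have v13 := (pz hρ 3).mul (pz hρ 4) k13
  have v14 := v13.mul (pz hρ 6) k14
  have v15 := v14.mul (pz hρ 3) k15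
  have v16 := v15.mul (pz hρ 2) k16
  have v17 := v16.mul (pz hρ 7) k17
  have v18 := v17.mul (pz hρ 2) k18
  have v19 := v18.mul (pz hρ 0) k19
  have v20 := v19.mul (pz hρ 5) k20
  have v21 := v20.mul (pz hρ 1) k21
  have v22 := v21.mul (pz hρ 0) k22
  have v23 := v22.mul (pz hρ 5) k23
  have x1 : PV ρ [2] m23 := v23.eq (by (first | (rewrite [Cfsg.Agent.KO847a921.e18, Cfsg.Agent.KO847a921.e20]; decide +kernel) | decide +kernel))
  have v24 := x0.mul x0 k24
  have v25 := v24.mul x1 k25
  have v26 := x0.mul v25 k26
  have v27 := v26.mul x1 k27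
  have v28 := x0.mul x1 k28
  have v29 := v28.mul x1 k29
  have v30 := v26.mul v26 k30
  have v31 := v30.mul v30 k31
  have v32 := v31.mul v31 k32
  have v33 := v25.mul v25 k33
  have v34 := v29.mul v29 k34
  have v35 := v34.mul v34 k35
  have v36 := v27.mul v27 k36
  have v37 := v36.mul v27 k37
  have v38 := v36.mul v36 k38
  have v39 := v37.mul v37 k39
  have v40 := v33.mul v33 k40
  have v41 := v40.mul v25 k41
  have v : PV ρ [] one := by
    rw [PV, show wg [] = 1 from rfl, map_one]
    exact V_one phi
  intro t ht
  interval_cases t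
  · exact v.tr (by decide +kernel) (by decide +kernel)
  · exact v32.tr (by decide +kernel) (by decide +kernel)
  · exact v35.tr (by decide +kernel) (by decide +kernel)
  · exact v38.tr (by decide +kernel) (by decide +kernel)
  · exact v37.tr (by decide +kernel) (by decide +kernel)
  · exact v34.tr (by decide +kernel) (by decide +kernel)
  · exact v31.tr (by decide +kernel) (by decide +kernel)
  · exact v33.tr (by decide +kernel) (by decide +kernel)
  · exact v36.tr (by decide +kernel) (by decide +kernel)
  · exact v30.tr (by decide +kernel) (by decide +kernel)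
  · exact v29.tr (by decide +kernel) (by decide +kernel)
  · exact v25.tr (by decide +kernel) (by decide +kernel)
  · exact v27.tr (by decide +kernel) (by decide +kernel)
  · exact x0.tr (by decide +kernel) (by decide +kernel)
  · exact v26.tr (by decide +kernel) (by decide +kernel)
  · exact v39.tr (by decide +kernel) (by decide +kernel)
  · exact v41.tr (by decide +kernel) (by decide +kernel)

end Cfsg.Agent.TAB.Sm2.Tits.Chi

private theorem dce_a01c5506f6bf : _root_.True := by
  try have : _root_.True := by simp only [_root_.Cfsg.Agent.TAB.Sm2.Tits.Chi.PV.eq_1]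
  try have : _root_.True := by simp only [_root_.Cfsg.Agent.TAB.Sm2.Tits.trc.eq_1]
  exact _root_.True.intro
end

-- part: TAB/Sm2/Tits
section
prune_inst 0x20220000000000000200000000000100004000002004010000010000800000000a20020000c0040000004000000001100000000020000000000100208008000000000000000001802001100000000000000000000000000000000000000000000
set_option linter.all false
open scoped Cfsg.Agent.FastGrp

/-!
# The character table of the Tits group (helper3, TAB)

The types are the classes under `²F₄(2)`, up to inversion for the types `9` and `14`.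
`core`, `tab`, `van`, `sig`, `qa`, `deg` : for the groups isomorphic to the Tits group.
-/

set_option autoImplicit false
set_option maxRecDepth 100000

namespace Cfsg.Agent.TAB.Sm2.Tits

open Cfsg Cfsg.Agent.TAB.Eng Cfsg.Agent.TAB.Use Cfsg.Agent.TAB.Co Cfsg.Agent.Characters Cfsg.Agent.Characters.Core
open Cfsg.Agent.Characters.Brauer Cfsg.Agent.SporadicB.RuOrder Cfsg.Agent.SporadicB.RuTits
open scoped ComplexConjugate

section

variable {Γ : Type*} [Group Γ] [Finite Γ] {N : Subgroup Γ}

theorem le_cls (hN : N.Normal) (x : N) {c q : ℕ} (hc : Nat.card (Subgroup.centralizer ({(x : Γ)} : Set Γ)) ≤ c)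
    (hq : q * c ≤ Nat.card Γ) : q ≤ Nat.card {g : N // IsConj (x : Γ) g} := by
  have h1 := (Nat.mul_le_mul_left q hc).trans hq
  rw [← card_class (x : Γ)] at h1
  refine (Nat.le_of_mul_le_mul_right h1 Nat.card_pos).trans (Nat.card_le_card_of_injective (fun g => ⟨⟨g.1, ?_⟩, g.2⟩)
    fun a b hab => Subtype.ext (congrArg (fun g => (g.1 : Γ)) hab :))
  obtain ⟨c, hc⟩ := isConj_iff.1 g.2
  exact hc ▸ hN.conj_mem _ x.2 c

theorem le_cls_two (x : N) (hx : ¬ IsConj (x : Γ) (x⁻¹ : N)) :
    2 * Nat.card {g : N // IsConj (x : Γ) g} ≤ Nat.card {g : N // IsConj (x : Γ) g ∨ IsConj ((x⁻¹ : N) : Γ) g} := by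
  have h1 : ∀ {a b : Γ}, IsConj a b → IsConj a⁻¹ b⁻¹ := fun h => by
    obtain ⟨c, rfl⟩ := isConj_iff.1 h
    exact isConj_iff.2 ⟨c, by group⟩
  rw [two_mul, ← Nat.card_sum]
  refine Nat.card_le_card_of_injective (Sum.elim (fun g => ⟨g.1, Or.inl g.2⟩) fun g => ⟨g.1⁻¹, Or.inr (h1 g.2)⟩) ?_
  rintro (a | a) (b | b) hab
  · exact congrArg Sum.inl (Subtype.ext (congrArg Subtype.val hab :))
  · have h2 : a.1 = b.1⁻¹ := congrArg Subtype.val hab
    exact absurd (a.2.trans (h2 ▸ (h1 b.2).symm)) hx
  · have h2 : a.1⁻¹ = b.1 := congrArg Subtype.val hab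
    exact absurd (b.2.trans (h2 ▸ (h1 a.2).symm)) hx
  · exact congrArg Sum.inr (Subtype.ext (inv_injective (congrArg Subtype.val hab :)))

omit [Finite Γ] in
theorem conj_of_outer (hN : N.index = 2) {x g : N} {y : Γ} (hy : y ∉ N) (hc : y * x * y⁻¹ = x)
    (h : IsConj (x : Γ) g) : IsConj x g := by
  obtain ⟨c, hc'⟩ := isConj_iff.1 h
  by_cases h1 : c ∈ N
  · exact isConj_iff.2 ⟨⟨c, h1⟩, Subtype.ext hc'⟩
  · refine isConj_iff.2 ⟨⟨c * y, (Subgroup.mul_mem_iff_of_index_two hN).2 (iff_of_false h1 hy)⟩, Subtype.ext ?_⟩
    change c * y * x * (c * y)⁻¹ = g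
    calc c * y * x * (c * y)⁻¹ = c * (y * x * y⁻¹) * c⁻¹ := by group
      _ = g := by rw [hc, hc']

end

theorem wg_pwW (w : List ℕ) : ∀ k, wg (pwW w k) = wg w ^ k
  | 0 => rfl
  | k + 1 => by rw [pow_succ', ← wg_pwW w k, ← wg_append]; rfl

/-- the neighbours of the point -/
def nbr : SubMulAction H1 (Fin 4060) where
  carrier := {i | (SporadicB.RuData.row 0).testBit i = true}
  smul_mem' g i hi := (H1_row g.2 i).trans hi

/-- the number of the fixed points -/
noncomputable def pi0 (g : H1) : ℂ := Nat.card (MulAction.fixedBy (Fin 4060) g)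

/-- the number of the fixed neighbours -/
noncomputable def pi1 (g : H1) : ℂ := Nat.card (MulAction.fixedBy nbr g)

theorem pi_eq {w : List ℕ} {a b : ℕ} (h : chkF w a b = true) : pi0 (wv w) = a ∧ pi1 (wv w) = b := by
  obtain ⟨h1, h2⟩ := fix_card h
  refine ⟨congrArg _ h1, congrArg _ (Eq.trans (Nat.card_congr ?_) h2)⟩
  exact ⟨fun i => ⟨i.1.1, congrArg Subtype.val i.2, i.1.2⟩, fun i => ⟨⟨i.1, i.2.2⟩, Subtype.ext i.2.1⟩,
    fun _ => rfl, fun _ => rfl⟩

theorem hF : ∀ t < 15, chkF (md (rW t)) (nth v₃ t).toNat (nth v₂ t).toNat = true := by decide +kernel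

theorem hO : ∀ t < 15, eqW (md (pwW (rW t) (dat.ord t))) (md []) = true := by decide +kernel

theorem hP : ∀ t < 15, ∀ p ∈ dat.pw t, ∃ s < 17, pwW (rW t) p.1 = rW s ∧ 2 * Chi.re.getD s 0 = nth v₁ p.2 := by
  decide +kernel

theorem hY : ∀ s ∈ [1, 2, 3, 7], ∃ w, chkF (pwW (4 :: md w) 4) (nth v₃ s).toNat (nth v₂ s).toNat = true := by
  simp only [List.forall_mem_cons, List.not_mem_nil, false_imp_iff, implies_true, and_true]
  exact ⟨⟨[0], by decide +kernel⟩, ⟨[], by decide +kernel⟩, ⟨[0, 0], by decide +kernel⟩, ⟨[0, 3], by decide +kernel⟩⟩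

/-- the classes of the types -/
def HC (t : ℕ) (g : TN) : Prop :=
  IsConj ((wg (rW t) : TN) : H1) g ∨ ((t = 9 ∨ t = 14) ∧ IsConj (((wg (rW t))⁻¹ : TN) : H1) g)

theorem core_TN : ∃ T : TD TN dat, Core T := by
  obtain ⟨-, ρ, hρ, hχ, hα⟩ := exists_rho
  have hv := Chi.vals hρ
  generalize trc ρ = χ at hχ hα hv
  have hc := isIrr_isCharacter hχ
  have hI : ∀ {x g : TN}, IsConj (x : H1) g → χ g = χ x := fun {x g} h => by
    have := normal_TN
    obtain ⟨c, hc⟩ := isConj_iff.1 h
    rw [← hα (MulAut.conjNormal c) x]
    exact congrArg χ (Subtype.ext (hc.symm.trans (MulAut.conjNormal_apply c x).symm))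
  have hψ : IsGeneralizedCharacter TN (χ + fun g => conj (χ g)) :=
    isGeneralizedCharacter_of_isCharacter (isCharacter_add hc (isCharacter_conj hc))
  have hψv : ∀ s < 17, (keyG hψ).P (wg (rW s)) (2 * Chi.re.getD s 0) := fun s hs => by
    change χ _ + conj (χ _) = _
    rw [hv s hs]
    simp only [map_add, map_mul, map_intCast, Complex.conj_I]
    push_cast
    ring
  have hty : ∀ t < 15, Ty (keyG hψ) dat (nth v₁) t (wg (rW t)) := fun t ht =>
    ty_of_vals (by decide +kernel) (hψv 0 (by norm_num)) ht (by rw [← wg_pwW, wg_eq (hO t ht)]; rfl) fun p hp => by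
      obtain ⟨s, hs, h1, h2⟩ := hP t ht p hp
      rw [← wg_pwW, h1, ← h2]
      exact hψv s hs
  have hcj : ∀ {t : ℕ} {x g : TN}, Ty (keyG hψ) dat (nth v₁) t x → IsConj (x : H1) g →
      Ty (keyG hψ) dat (nth v₁) t g := fun {t x g} hx h => by
    obtain ⟨c, hc⟩ := isConj_iff.1 h
    refine ⟨?_, fun p hp => ?_⟩
    · rw [← Subgroup.orderOf_coe, ← hc, orderOf_conj', Subgroup.orderOf_coe, hx.1]
    · have h1 : χ (g ^ p.1) = χ (x ^ p.1) :=
        hI (isConj_iff.2 ⟨c, by rw [Subgroup.coe_pow, Subgroup.coe_pow, ← hc, conj_pow]⟩)
      have h2 := hx.2 p hp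
      change χ _ + conj (χ _) = _ at h2 ⊢
      rw [h1, h2]
  have hH : ∀ t < 15, ∀ g, HC t g → Ty (keyG hψ) dat (nth v₁) t g := fun t ht g h =>
    h.elim (hcj (hty t ht)) fun h => hcj (ty_rc (hty t ht) (RC.of_inv (IsConj.refl _))) h.2
  have hinj : ∀ t (ht : t < 15), Function.Injective
      (fun g : {g : TN // HC t g} => (⟨g.1, hH t ht g.1 g.2⟩ : {g : TN // Ty (keyG hψ) dat (nth v₁) t g})) :=
    fun t ht a b hab => Subtype.ext (congrArg Subtype.val hab :)
  have hcnt : ∀ t < 15, dat.cnt t ≤ Nat.card {g : TN // HC t g} := fun t ht => by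
    have h1 : ∀ t < 15, md (rW t) = rW t ∧ if t = 9 ∨ t = 14 then dat.cnt t / 2 * cH.getD t 0 ≤ 35942400 ∧
      dat.cnt t ≤ 2 * (dat.cnt t / 2) ∧ Chi.im.getD t 0 ≠ 0 else dat.cnt t * cH.getD t 0 ≤ 35942400 := by
      decide +kernel
    obtain ⟨h2, h3⟩ := h1 t ht
    have h4 : Nat.card (Subgroup.centralizer ({((wg (rW t) : TN) : H1)} : Set H1)) ≤ cH.getD t 0 := by
      change Nat.card (Subgroup.centralizer ({wv (md (rW t))} : Set H1)) ≤ _
      rw [h2]
      exact cent_rW t ht
    by_cases h5 : t = 9 ∨ t = 14
    · rw [if_pos h5, ← card_H1] at h3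
      refine (h3.2.1.trans (Nat.mul_le_mul_left 2 (le_cls normal_TN _ h4 h3.1))).trans
        ((le_cls_two _ fun h6 => h3.2.2 ?_).trans (le_of_eq (Nat.card_congr (Equiv.subtypeEquivRight fun g => ?_))))
      · have h7 := congrArg Complex.im (hI h6)
        rw [isCharacter_apply_inv hc, hv t (by omega)] at h7
        simp only [Complex.conj_im, Complex.add_im, Complex.mul_im, Complex.intCast_re, Complex.intCast_im,
          Complex.I_re, Complex.I_im, mul_one, mul_zero, zero_add, add_zero] at h7
        have h8 : -Chi.im.getD t 0 = Chi.im.getD t 0 := by exact_mod_cast h7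
        omega
      · rw [HC, and_iff_right h5]
    · rw [if_neg h5, ← card_H1] at h3
      exact (le_cls normal_TN _ h4 h3).trans (Nat.card_le_card_of_injective (fun g => ⟨g.1, Or.inl g.2⟩)
        fun a b hab => Subtype.ext (congrArg Subtype.val hab :))
  have hb : ∀ t < dat.n, Box (keyG hψ) dat (nth v₁) t := fun t ht =>
    (hcnt t ht).trans (Nat.card_le_card_of_injective _ (hinj t ht))
  obtain ⟨T, hm, hT⟩ := exists_td (by decide +kernel) (by decide +kernel) (by decide +kernel) card_TN hb
  have hcov : ∀ g, HC (T.ty g) g := fun g => by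
    have h1 := (Nat.bijective_iff_injective_and_card _).2 ⟨hinj _ (T.lt g),
      le_antisymm (Nat.card_le_card_of_injective _ (hinj _ (T.lt g))) (((cover_of_box (by decide +kernel)
        (by decide +kernel) card_TN hb).2 _ (T.lt g)).le.trans (hcnt _ (T.lt g)))⟩
    obtain ⟨a, ha⟩ := h1.2 ⟨g, (hT g _ (T.lt g)).1 rfl⟩
    have h2 : a.1 = g := congrArg Subtype.val ha
    have h3 := a.2
    rwa [h2] at h3
  have hPM : PM T χ ca cb := fun g => by
    have h1 : ∀ t < 15, Chi.re.getD t 0 = nth ca t ∧ (Chi.im.getD t 0 = nth cb t ∨ Chi.im.getD t 0 = -nth cb t) := by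
      decide +kernel
    obtain ⟨h2, h3⟩ := h1 _ (T.lt g)
    have h4 := hv (T.ty g) ((T.lt g).trans (by decide))
    rcases hcov g with h | ⟨-, h⟩ <;> rw [hI h]
    · rcases h3 with h3 | h3 <;> [left; right] <;> rw [h4, h2, h3]
      push_cast
      ring
    · rw [isCharacter_apply_inv hc]
      rcases h3 with h3 | h3 <;> [right; left] <;> rw [h4, h2, h3] <;>
        simp only [map_add, map_mul, map_intCast, Complex.conj_I] <;> push_cast <;> ring
  have hπ : ∀ {π : H1 → ℂ} {v : List ℤ}, IsCharacter H1 π → (∀ t < 15, π (wg (rW t)) = (nth v t).toNat) →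
      (∀ t < 15, ((nth v t).toNat : ℤ) = nth v t) → ∀ g : TN, π g = nth v (T.ty g) := fun {π v} h1 h2 h3 g => by
    have h4 : ∀ {a b : H1}, IsConj a b → π b = π a := fun h => by
      obtain ⟨c, rfl⟩ := isConj_iff.1 h
      exact isCharacter_isClassFunction h1 _ c
    rw [← h3 _ (T.lt g), Int.cast_natCast]
    rcases hcov g with h | ⟨-, h⟩ <;> rw [h4 h]
    · exact h2 _ (T.lt g)
    · rw [Subgroup.coe_inv, isCharacter_apply_inv h1, h2 _ (T.lt g), Complex.conj_natCast]
  have c0 : IsCharacter H1 pi0 := S0157.isCharacter_fixedBy _
  have c1 : IsCharacter H1 pi1 := S0157.isCharacter_fixedBy _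
  have p0 := hπ (v := v₃) c0 (fun t ht => (pi_eq (hF t ht)).1) (by decide +kernel)
  have p1 := hπ (v := v₂) c1 (fun t ht => (pi_eq (hF t ht)).2) (by decide +kernel)
  refine ⟨T, hm, fun sd hs => ?_, fun s hs => ?_, χ, hχ, hPM⟩
  · simp only [List.mem_cons, List.not_mem_nil, or_false] at hs
    rcases hs with rfl | rfl | rfl
    · have h1 : ∀ t < 15, nth v₁ t = 2 * nth ca t := by decide +kernel
      refine (congrArg (IsGeneralizedCharacter _) (funext fun g => ?_)).mp hψ
      rw [h1 _ (T.lt g), Pi.add_apply, hPM.sum g, Int.cast_mul, Int.cast_ofNat]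
    · exact (congrArg (IsGeneralizedCharacter _) (funext p1)).mp
        (isGeneralizedCharacter_of_isCharacter (Clifford.isCharacter_restrict TN c1))
    · exact (congrArg (IsGeneralizedCharacter _) (funext p0)).mp
        (isGeneralizedCharacter_of_isCharacter (Clifford.isCharacter_restrict TN c0))
  · obtain ⟨w, hw⟩ : ∃ w, chkF (pwW (4 :: md w) 4) (nth v₃ s).toNat (nth v₂ s).toNat = true := hY s hs
    have h1 : wv (4 :: md w) ∉ TN := fun h => by
      rw [wv_cons] at h
      exact lt_not_mem ((TN.mul_mem_cancel_right (wv_mem w)).1 h)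
    obtain ⟨h2, h3⟩ := pi_eq hw
    rw [wv_pwW] at h2 h3
    generalize wv (4 :: md w) = y at h1 h2 h3
    have h4 : y ^ 4 ∈ TN := by
      rw [pow_mul y 2 2]
      exact TN.pow_mem (Subgroup.sq_mem_of_index_two index_TN y) 2
    have h5 : ∀ s ∈ [1, 2, 3, 7], s < 15 ∧ ¬ (s = 9 ∨ s = 14) ∧ ∀ t < 15, ((nth v₃ s).toNat : ℤ) = nth v₃ t →
      ((nth v₂ s).toNat : ℤ) = nth v₂ t → t = s := by decide +kernel
    obtain ⟨h6, h7, h8⟩ := h5 s hs
    have h9 : T.ty ⟨y ^ 4, h4⟩ = s := h8 _ (T.lt _) (by exact_mod_cast h2.symm.trans (p0 ⟨y ^ 4, h4⟩))
      (by exact_mod_cast h3.symm.trans (p1 ⟨y ^ 4, h4⟩))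
    have h10 : ∀ g, T.ty g = s → IsConj ((wg (rW s) : TN) : H1) g := fun g hg =>
      (hg ▸ hcov g : HC s g).resolve_right fun h => h7 h.1
    refine ⟨_, h9, ?_⟩
    rw [← card_class (⟨y ^ 4, h4⟩ : TN), ← hm.2 s h6]
    refine Nat.mul_le_mul_right _ (Nat.card_le_card_of_injective (fun g => ⟨g.1, conj_of_outer index_TN h1 ?_
      ((h10 _ h9).symm.trans (h10 _ g.2))⟩) fun a b hab => Subtype.ext (congrArg Subtype.val hab :))
    change y * y ^ 4 * y⁻¹ = y ^ 4
    group

section

variable {S : Type*} [Group S]

/-- the types of a group isomorphic to the Tits group -/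
theorem core_of (h : Lie.IsoTits S) : ∃ T : TD S dat, Core T := by
  obtain ⟨e⟩ := exists_iso h
  obtain ⟨T, hT⟩ := core_TN
  exact ⟨_, hT.pull e⟩

theorem finite_of (h : Lie.IsoTits S) : Finite S := by
  obtain ⟨e⟩ := exists_iso h
  exact Finite.of_equiv _ e.symm.toEquiv

theorem tab_of (h : Lie.IsoTits S) : ∃ T : TD S dat, T.Mass ∧ Core T ∧ Tab T (mkRows rA rB) := by
  have := finite_of h
  obtain ⟨T, hT⟩ := core_of h
  exact ⟨T, hT.mass, hT, hT.tab⟩

theorem van_of (h : Lie.IsoTits S) : VAN.Van3 S := by
  have := finite_of h
  obtain ⟨T, hT⟩ := core_of h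
  exact hT.van

theorem sig_of (h : Lie.IsoTits S) : OddSig S := by
  have := finite_of h
  obtain ⟨T, hT⟩ := core_of h
  exact hT.sig

theorem qa_of (h : Lie.IsoTits S) : ODD.QA S := by
  have := finite_of h
  obtain ⟨T, hT⟩ := core_of h
  exact hT.qa

theorem deg_of (h : Lie.IsoTits S) : DegList S degL := by
  have := finite_of h
  obtain ⟨T, hT⟩ := core_of h
  exact hT.deg

end

theorem isoTits : Lie.IsoTits Lie.TitsGroup := ⟨MulEquiv.refl _⟩

theorem tab : ∃ T : TD Lie.TitsGroup dat, T.Mass ∧ Core T ∧ Tab T (mkRows rA rB) := tab_of isoTits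

theorem van : VAN.Van3 Lie.TitsGroup := van_of isoTits

theorem qa : ODD.QA Lie.TitsGroup := qa_of isoTits

end Cfsg.Agent.TAB.Sm2.Tits

private theorem dce_500df5e46cd5 : _root_.True := by
  try have : _root_.True := by simp only [_root_.Cfsg.Agent.TAB.Sm2.Tits.HC.eq_1]
  exact _root_.True.intro
end
end
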